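import Cfsg.Agent.LinRad.Natural

/-!
The elementary abelian sections of the setting: they have order at most sixteen, and a natural section or a fixed
element appears; a consequence is commutativity when the derived subgroup has order two.
-/

set_option autoImplicit false
set_option maxHeartbeats 400000
set_option linter.unusedSectionVars false
set_option linter.style.haveILetI false

namespace Cfsg.Agent.LinRad

open Subgroup

variable {X : Type*} [Group X] [Finite X] {Q : Subgroup X} [hQn : Q.Normal]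

omit [Finite X] hQn in
theorem comm_of_sq {V : Subgroup X} (h : ∀ v ∈ V, v * v = 1) : ∀ a ∈ V, ∀ b ∈ V, a * b = b * a := by
  intro a ha b hb
  have hi : ∀ v ∈ V, v⁻¹ = v := fun v hv => inv_eq_of_mul_eq_one_right (h v hv)
  calc a * b = (a * b)⁻¹ := (hi _ (mul_mem ha hb)).symm
    _ = b * a := by rw [mul_inv_rev, hi a ha, hi b hb]

omit hQn in
theorem card_map_quotient (N : Subgroup X) [N.Normal] {K : Subgroup X} (h : N ≤ K) :
    Nat.card (K.map (QuotientGroup.mk' N)) * Nat.card N = Nat.card K := by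
  have hker : ((QuotientGroup.mk' N).comp K.subtype).ker = N.subgroupOf K := by
    ext b; simp [mem_subgroupOf]
  have e := ((QuotientGroup.mk' N).comp K.subtype).ker.card_mul_index
  rw [index_ker, hker, Nat.card_congr (subgroupOfEquivOfLe h).toEquiv, MonoidHom.range_comp, range_subtype] at e
  rw [mul_comm]; exact e

theorem mem_map_mk {N K : Subgroup X} [N.Normal] (h : N ≤ K) {x : X}
    (hx : QuotientGroup.mk' N x ∈ K.map (QuotientGroup.mk' N)) : x ∈ K := by
  obtain ⟨k, hk, e⟩ := hx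
  have := mul_mem hk (h (QuotientGroup.eq.1 (show (k : X ⧸ N) = x from e)))
  rwa [mul_inv_cancel_left] at this

theorem card_two_elim {M : Subgroup X} (hM : Nat.card M = 2) :
    ∃ z ∈ M, z ≠ 1 ∧ ∀ m ∈ M, m = 1 ∨ m = z := by
  have hne : M ≠ ⊥ := fun e => by rw [e, card_bot] at hM; omega
  obtain ⟨⟨z, hz⟩, hz1⟩ := ne_bot_iff_exists_ne_one.1 hne
  refine ⟨z, hz, fun e => hz1 (Subtype.ext e), fun m hm => ?_⟩
  classical
  by_contra! hcon
  let f : Fin 3 → M := ![1, ⟨z, hz⟩, ⟨m, hm⟩]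
  have h3 := Nat.card_le_card_of_injective f (by
    intro i j e
    fin_cases i <;> fin_cases j <;> simp [f, Subtype.ext_iff] at e ⊢ <;> simp_all)
  rw [hM, Nat.card_fin] at h3
  omega

theorem central_of_two {M : Subgroup X} [M.Normal] (hM : Nat.card M = 2) : ∀ g : X, ∀ m ∈ M, g * m = m * g := by
  obtain ⟨z, hz, hz1, hall⟩ := card_two_elim hM
  intro g m hm
  rcases hall m hm with rfl | rfl
  · simp
  · rcases hall _ (‹M.Normal›.conj_mem m hm g) with e | e
    · rw [mul_inv_eq_one, mul_eq_left] at e; exact absurd e hz1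
    · exact mul_inv_eq_iff_eq_mul.1 e

/-- An elementary abelian normal subgroup centralised by `Q` and moved by an element of order seven. -/
theorem Setup.elementary (S : Setup X Q) {c : X} (h7 : c ^ 7 = 1) {V : Subgroup X} [V.Normal] (hVQ : V ≤ Q)
    (hexp : ∀ v ∈ V, v * v = 1) (hQV : ∀ q ∈ Q, ∀ v ∈ V, q * v = v * q) (hmove : ∃ v ∈ V, c * v ≠ v * c) :
    (Nat.card V = 8 ∧ ∀ v ∈ V, c * v = v * c → v = 1) ∨
      (Nat.card V = 16 ∧ ∃ u ∈ V, u ≠ 1 ∧ c * u = u * c ∧ (∀ v ∈ V, c * v = v * c → v = 1 ∨ v = u) ∧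
        ((∀ g : X, g * u = u * g) ∨
          ∃ E : Subgroup X, E.Normal ∧ E ≤ V ∧ u ∉ E ∧ Nat.card E = 8)) := by
  classical
  haveI : Fact (Nat.Prime 7) := ⟨by norm_num⟩
  obtain ⟨a, ha⟩ := (S.two.to_le hVQ).exists_card_eq
  have h16 : Nat.card V ≤ 16 := by
    have := SecFour.rank_bound S.rank V ⊥ bot_le (fun k _ n hn => by rw [mem_bot] at hn; simp [hn])
      (fun k hk => mem_bot.2 (hexp k hk))
    simpa using this
  set C := V ⊓ centralizer {c} with hC
  have hCmem : ∀ v, v ∈ C ↔ v ∈ V ∧ c * v = v * c := fun v => by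
    simp only [C, mem_inf, mem_centralizer_singleton_iff, eq_comm]
  have hfix : Nat.card V ≡ Nat.card C [MOD 7] := by
    refine Nat.ModEq.symm (Nat.ModEq.trans ?_ (SecFour.fixed_modEq h7 (V : Set X) fun x hx => ‹V.Normal›.conj_mem x hx c))
    exact congrArg (· % 7) (Nat.card_congr (Equiv.subtypeEquivRight fun x => hCmem x))
  obtain ⟨b, hb⟩ := ((S.two.to_le hVQ).to_le (inf_le_left : C ≤ V)).exists_card_eq
  have hlt : Nat.card C < Nat.card V := by
    refine lt_of_le_of_ne (Nat.card_le_card_of_injective _ (inclusion_injective inf_le_left)) fun e => ?_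
    obtain ⟨v, hv, hne⟩ := hmove
    exact hne ((hCmem v).1 (by rw [hC, eq_of_le_of_card_ge inf_le_left e.ge]; exact hv)).2
  rw [ha] at hlt h16 hfix
  rw [hb] at hlt hfix
  have ha4 : a ≤ 4 := (Nat.pow_le_pow_iff_right (le_refl 2)).1 (by simpa using h16)
  have hba : b < a := (Nat.pow_lt_pow_iff_right (lt_add_one 1)).1 hlt
  have hcases : (a = 3 ∧ b = 0) ∨ (a = 4 ∧ b = 1) := by
    interval_cases a <;> interval_cases b <;> simp_all [Nat.ModEq]
  rcases hcases with ⟨rfl, rfl⟩ | ⟨rfl, rfl⟩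
  · refine Or.inl ⟨by rw [ha]; norm_num, fun v hv e => ?_⟩
    have : C = ⊥ := card_eq_one.1 (by rw [hb]; norm_num)
    exact mem_bot.1 (this ▸ (hCmem v).2 ⟨hv, e⟩)
  refine Or.inr ⟨by rw [ha]; norm_num, ?_⟩
  obtain ⟨u, huC, hu1, hall⟩ := card_two_elim (hb.trans (pow_one 2))
  obtain ⟨huV, hcu⟩ := (hCmem u).1 huC
  have hall' : ∀ v ∈ V, c * v = v * c → v = 1 ∨ v = u := fun v hv e => hall v ((hCmem v).2 ⟨hv, e⟩)
  refine ⟨u, huV, hu1, hcu, hall', ?_⟩
  have hconjne : ∀ g x : X, x ≠ 1 → g * x * g⁻¹ ≠ 1 := fun g x hx e => hx (by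
    rwa [mul_inv_eq_one, mul_eq_left] at e)
  set T : Set X := {v | v ∈ V ∧ v ≠ 1} with hT
  have hT15 : Nat.card T = 15 := by
    have e : (V : Set X) = insert 1 T := by
      ext v
      rcases eq_or_ne v 1 with rfl | hv <;> simp [T, *]
    have h1 : Nat.card V = Nat.card T + 1 := by
      show Nat.card (V : Set X) = _
      rw [e, Nat.card_coe_set_eq, Nat.card_coe_set_eq, Set.ncard_insert_of_notMem (by simp [T]) (Set.toFinite T)]
    rw [ha] at h1
    omega
  rcases S.orbit h7 hcu (fun q hq => hQV q hq u huV) T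
    (fun g => ⟨‹V.Normal›.conj_mem u huV g, hconjne g u hu1⟩) hT15.le
    (fun t ht e => (hall' t ht.1 e).resolve_left ht.2) with h | ⟨h8, -⟩
  · exact Or.inl h
  right
  set O : Set X := {t | ∃ h : X, t = h * u * h⁻¹} with hO
  have hOT : O ⊆ T := by
    rintro _ ⟨h, rfl⟩
    exact ⟨‹V.Normal›.conj_mem u huV h, hconjne h u hu1⟩
  have hR : Nat.card (T \ O : Set X) = 7 := by
    rw [Nat.card_coe_set_eq, Set.ncard_sdiff hOT (Set.toFinite O), ← Nat.card_coe_set_eq, ← Nat.card_coe_set_eq, hT15]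
    rw [show Nat.card O = 8 from h8]
  have huO : u ∈ O := ⟨1, by group⟩
  have hRinv : ∀ g x, x ∈ T \ O → g * x * g⁻¹ ∈ T \ O := by
    rintro g x ⟨⟨hxV, hx1⟩, hxO⟩
    refine ⟨⟨‹V.Normal›.conj_mem x hxV g, hconjne g x hx1⟩, fun ⟨h, e⟩ => hxO ⟨g⁻¹ * h, ?_⟩⟩
    calc x = g⁻¹ * (g * x * g⁻¹) * g := by group
      _ = _ := by rw [e]; group
  -- the powers of `c` are transitive on the seven elements
  have horb : ∀ r ∈ T \ O, ∀ s ∈ T \ O, ∃ i : ℕ, c ^ i * r * (c ^ i)⁻¹ = s := by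
    intro r hr
    have hnf : c * r * c⁻¹ ≠ r := fun e => by
      rcases hall' r hr.1.1 (mul_inv_eq_iff_eq_mul.1 e) with e' | e'
      · exact hr.1.2 e'
      · exact hr.2 (e' ▸ huO)
    have hin : ∀ i : ℕ, c ^ i * r * (c ^ i)⁻¹ ∈ T \ O := fun i => hRinv _ _ hr
    let f : Fin 7 → (T \ O : Set X) := fun i => ⟨c ^ (i : ℕ) * r * (c ^ (i : ℕ))⁻¹, hin i⟩
    have hf : Function.Bijective f := by
      rw [Nat.bijective_iff_injective_and_card]
      refine ⟨?_, by rw [hR, Nat.card_fin]⟩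
      intro i j e
      by_contra hij
      have e' : c ^ (i : ℕ) * r * (c ^ (i : ℕ))⁻¹ = c ^ (j : ℕ) * r * (c ^ (j : ℕ))⁻¹ := congrArg Subtype.val e
      have hm : Commute (c ^ ((7 - (i : ℕ) + j) % 7)) r := by
        have e7 : c ^ ((7 - (i : ℕ) + j) % 7) = (c ^ (i : ℕ))⁻¹ * c ^ (j : ℕ) := by
          have hi : c ^ (7 - (i : ℕ)) = (c ^ (i : ℕ))⁻¹ := eq_inv_of_mul_eq_one_left (by
            rw [← pow_add, Nat.sub_add_cancel i.isLt.le, h7])
          rw [← pow_eq_pow_mod _ h7, pow_add, hi]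
        rw [e7]
        show _ * r = r * _
        calc (c ^ (i : ℕ))⁻¹ * c ^ (j : ℕ) * r = (c ^ (i : ℕ))⁻¹ * (c ^ (j : ℕ) * r * (c ^ (j : ℕ))⁻¹) * c ^ (j : ℕ) := by group
          _ = r * ((c ^ (i : ℕ))⁻¹ * c ^ (j : ℕ)) := by rw [← e']; group
      set m := (7 - (i : ℕ) + j) % 7 with hmdef
      have hm7 : m < 7 := Nat.mod_lt _ (by norm_num)
      have hm0 : m ≠ 0 := by
        intro h0
        refine hij (Fin.ext ?_)
        have := i.isLt; have := j.isLt
        omega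
      obtain ⟨n, hn⟩ : ∃ n : ℕ, m * n % 7 = 1 := by
        interval_cases m
        · exact absurd rfl hm0
        exacts [⟨1, rfl⟩, ⟨4, rfl⟩, ⟨5, rfl⟩, ⟨2, rfl⟩, ⟨3, rfl⟩, ⟨6, rfl⟩]
      have hcr : Commute c r := by
        have := hm.pow_left n
        rwa [← pow_mul, pow_eq_pow_mod _ h7, hn, pow_one] at this
      exact hnf (mul_inv_eq_iff_eq_mul.2 hcr)
    intro s hs
    obtain ⟨i, hi⟩ := hf.2 ⟨s, hs⟩
    exact ⟨i, congrArg Subtype.val hi⟩
  have hVc := comm_of_sq hexp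
  have hnotu : ∀ r ∈ T \ O, ∀ s ∈ T \ O, r * s ≠ u := by
    intro r hr s hs e
    obtain ⟨i, hi⟩ := horb r hr s hs
    have hs' : s = r * u := by rw [← e, ← mul_assoc, hexp r hr.1.1, one_mul]
    have hcu' : c ^ i * u * (c ^ i)⁻¹ = u :=
      mul_inv_eq_iff_eq_mul.2 ((show Commute c u from hcu).pow_left i).eq
    have h2 : c ^ (2 * i) * r * (c ^ (2 * i))⁻¹ = r := by
      calc c ^ (2 * i) * r * (c ^ (2 * i))⁻¹ = c ^ i * (c ^ i * r * (c ^ i)⁻¹) * (c ^ i)⁻¹ := by
            rw [two_mul, pow_add]; group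
        _ = c ^ i * (r * u) * (c ^ i)⁻¹ := by rw [hi, hs']
        _ = c ^ i * r * (c ^ i)⁻¹ * (c ^ i * u * (c ^ i)⁻¹) := by group
        _ = r * u * u := by rw [hi, hs', hcu']
        _ = r := by rw [mul_assoc, hexp u huV, mul_one]
    have hcr : Commute (c ^ i) r := by
      have h' : Commute (c ^ (2 * i)) r := mul_inv_eq_iff_eq_mul.1 h2
      have := h'.pow_left 4
      rwa [← pow_mul, show 2 * i * 4 = i + 7 * i by ring, pow_add, pow_mul, h7, one_pow, mul_one] at this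
    rw [mul_inv_eq_iff_eq_mul.2 hcr] at hi
    rw [← hi, hexp r hr.1.1] at e
    exact hu1 e.symm
  let E : Subgroup X :=
    { carrier := {x | x = 1 ∨ x ∈ T \ O}
      one_mem' := Or.inl rfl
      mul_mem' := by
        rintro r s (rfl | hr) (rfl | hs)
        · exact Or.inl (one_mul 1)
        · exact Or.inr (by rwa [one_mul])
        · exact Or.inr (by rwa [mul_one])
        · rcases eq_or_ne (r * s) 1 with e | e
          · exact Or.inl e
          refine Or.inr ⟨⟨mul_mem hr.1.1 hs.1.1, e⟩, fun ⟨h, e'⟩ => ?_⟩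
          refine hnotu _ (hRinv h⁻¹ r hr) _ (hRinv h⁻¹ s hs) ?_
          calc h⁻¹ * r * h⁻¹⁻¹ * (h⁻¹ * s * h⁻¹⁻¹) = h⁻¹ * (r * s) * h := by group
            _ = u := by rw [e']; group
      inv_mem' := by
        rintro r (rfl | hr)
        · exact Or.inl inv_one
        · exact Or.inr (by rwa [inv_eq_of_mul_eq_one_right (hexp r hr.1.1)]) }
  refine ⟨E, ⟨fun x hx g => ?_⟩, ?_, ?_, ?_⟩
  · rcases hx with rfl | hx
    · exact Or.inl (by group)
    · exact Or.inr (hRinv g x hx)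
  · rintro x (rfl | hx)
    · exact one_mem V
    · exact hx.1.1
  · rintro (e | e)
    · exact hu1 e
    · exact e.2 huO
  · show Nat.card ({x | x = 1 ∨ x ∈ T \ O} : Set X) = 8
    rw [show {x | x = 1 ∨ x ∈ T \ O} = insert 1 (T \ O) from rfl, Nat.card_coe_set_eq,
      Set.ncard_insert_of_notMem (by simp [T]) (Set.toFinite _), ← Nat.card_coe_set_eq, hR]

/-- The top of `Q`. -/
theorem Setup.top_section (S : Setup X Q) :
    (Nat.card Q = 8 * Nat.card (Sq Q) ∧ ∃ (ρ : X →* M3) (π : X → V3), Model Q (Sq Q) Q ρ π) ∨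
      (Nat.card Q = 16 * Nat.card (Sq Q) ∧
        ((∃ E : Subgroup X, E.Normal ∧ ∃ (ρ : X →* M3) (π : X → V3),
            Model Q (Sq Q) E ρ π ∧ Nat.card Q = 2 * Nat.card E) ∨
          ∃ u ∈ Q, u ∉ Sq Q ∧ (∀ g : X, g * u * g⁻¹ * u⁻¹ ∈ Sq Q) ∧ ∃ B : Subgroup X, B.Normal ∧ Sq Q ≤ B ∧ u ∈ B ∧
            (∀ b ∈ B, b ∈ Sq Q ∨ u⁻¹ * b ∈ Sq Q) ∧ ∃ (ρ : X →* M3) (π : X → V3), Model Q B Q ρ π)) := by
  classical
  set P := Sq Q with hP
  set mk := QuotientGroup.mk' P with hmk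
  have h1 : ∀ x, mk x = 1 ↔ x ∈ P := fun x => QuotientGroup.eq_one_iff x
  haveI hVn : (Q.map mk).Normal := hQn.map mk (QuotientGroup.mk'_surjective P)
  have hexp : ∀ v ∈ Q.map mk, v * v = 1 := by
    rintro _ ⟨q, hq, rfl⟩
    rw [← map_mul, h1]; exact mul_self_mem_Sq hq
  have hVc := comm_of_sq hexp
  have S' : Setup (X ⧸ P) (Q.map mk) := S.quotient P (Sq_le_self Q) fun c h7 hc => S.moves_mod_Sq h7 hc
  obtain ⟨c, h7, hcQ⟩ := S.exists_seven
  obtain ⟨q, hq, hqn⟩ := S.moves_mod_Sq h7 hcQ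
  have hmove : ∃ v ∈ Q.map mk, mk c * v ≠ v * mk c := ⟨mk q, mem_map_of_mem mk hq, fun e => hqn ((h1 _).1 (by
    rw [map_mul, map_mul, map_mul, map_inv, map_inv, e, mul_inv_cancel_right, mul_inv_cancel]))⟩
  have hcard := card_map_quotient P (Sq_le_self Q)
  have hQQ : ∀ q ∈ Q, ∀ b ∈ Q, q * b * q⁻¹ * b⁻¹ ∈ P := fun q hq b hb => (h1 _).1 (by
    rw [map_mul, map_mul, map_mul, map_inv, map_inv, hVc _ (mem_map_of_mem mk hq) _ (mem_map_of_mem mk hb),
      mul_inv_cancel_right, mul_inv_cancel])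
  rcases S'.elementary (c := mk c) (by rw [← map_pow, h7, map_one]) le_rfl hexp hVc hmove with ⟨h8, -⟩ | ⟨h16, u', hu', hu1, -, huniq, h⟩
  · have hc8 : Nat.card Q = 8 * Nat.card P := by rw [← hcard, h8]
    exact Or.inl ⟨hc8, S.exists_model P Q (Sq_le_self Q) le_rfl hc8 (fun b hb => mul_self_mem_Sq hb) hQQ
      ⟨c, q, hq, hqn⟩⟩
  have hc16 : Nat.card Q = 16 * Nat.card P := by rw [← hcard, h16]
  refine Or.inr ⟨hc16, ?_⟩
  obtain ⟨u, hu, rfl⟩ := hu'
  rcases h with h | ⟨E', hE'n, hE'le, huE, hE8⟩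
  · right
    have huP : u ∉ P := fun e => hu1 ((h1 u).2 e)
    have hcen : ∀ g : X, g * u * g⁻¹ * u⁻¹ ∈ P := fun g => (h1 _).1 (by
      rw [map_mul, map_mul, map_mul, map_inv, map_inv, h (mk g), mul_inv_cancel_right, mul_inv_cancel])
    let B : Subgroup X :=
      { carrier := {b | mk b = 1 ∨ mk b = mk u}
        one_mem' := Or.inl (map_one mk)
        mul_mem' := fun {a b} ha hb => by
          show mk (a * b) = 1 ∨ mk (a * b) = mk u
          rw [map_mul]
          rcases ha with e | e <;> rcases hb with e' | e' <;> rw [e, e'] <;>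
            simp [hexp _ (mem_map_of_mem mk hu)]
        inv_mem' := fun {a} ha => by
          show mk a⁻¹ = 1 ∨ mk a⁻¹ = mk u
          rw [map_inv]
          rcases ha with e | e <;> rw [e]
          · simp
          · exact Or.inr (inv_eq_of_mul_eq_one_right (hexp _ (mem_map_of_mem mk hu))) }
    have hBQ : B ≤ Q := by
      rintro b (e | e)
      · exact Sq_le_self Q ((h1 b).1 e)
      · exact mem_map_mk (Sq_le_self Q) (by rw [e]; exact mem_map_of_mem mk hu)
    have hBn : B.Normal := ⟨fun b hb g => by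
      show mk (g * b * g⁻¹) = 1 ∨ mk (g * b * g⁻¹) = mk u
      rw [map_mul, map_mul, map_inv]
      rcases hb with e | e <;> rw [e]
      · left; simp
      · right; rw [h (mk g), mul_inv_cancel_right]⟩
    have hPB : P ≤ B := fun p hp => Or.inl ((h1 p).2 hp)
    have hBb : ∀ b ∈ B, b ∈ P ∨ u⁻¹ * b ∈ P := by
      rintro b (e | e)
      · exact Or.inl ((h1 b).1 e)
      · exact Or.inr ((h1 _).1 (by rw [map_mul, map_inv, e, inv_mul_cancel]))
    have hBc : Nat.card B = 2 * Nat.card P := by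
      rw [← card_map_quotient P hPB]
      congr 1
      have e : B.map mk = zpowers (mk u) := by
        refine le_antisymm ?_ (zpowers_le.2 (mem_map_of_mem mk (Or.inr rfl)))
        rintro _ ⟨b, e | e, rfl⟩ <;> rw [e]
        · exact one_mem _
        · exact mem_zpowers _
      rw [e, Nat.card_zpowers]
      exact orderOf_eq_prime (by rw [pow_two]; exact hexp _ (mem_map_of_mem mk hu)) hu1
    refine ⟨u, hu, huP, hcen, B, hBn, hPB, Or.inr rfl, hBb, S.exists_model B Q hBQ le_rfl (by rw [hc16, hBc]; ring)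
      (fun b hb => hPB (mul_self_mem_Sq hb)) (fun q hq b hb => hPB (hQQ q hq b hb)) ⟨c, ?_⟩⟩
    by_contra! hh
    refine hqn ?_
    obtain hd | hd := hBb _ (hh q hq)
    · exact hd
    exfalso
    have e2 : mk (c * q * c⁻¹) = mk q * mk u := by
      have e : mk (c * q * c⁻¹ * q⁻¹) = mk u := by
        have h' := (h1 _).2 hd
        rw [map_mul, map_inv, inv_mul_eq_one] at h'
        exact h'.symm
      rw [map_mul _ (c * q * c⁻¹), map_inv, mul_inv_eq_iff_eq_mul] at e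
      rw [e]; exact hVc _ (mem_map_of_mem mk hu) _ (mem_map_of_mem mk hq)
    have := fixed_of_step S'.two (c := mk c) (y := mk q) (d := mk u) (by rw [← map_pow, h7, map_one])
      (mem_map_of_mem mk hu) (h (mk c)) (by rw [← map_mul, ← map_inv, ← map_mul, e2])
    refine hqn ((h1 _).1 ?_)
    rw [map_mul, map_mul, map_mul, map_inv, map_inv, this, mul_inv_cancel_right, mul_inv_cancel]
  · left
    have hn : (E'.comap mk).Normal := hE'n.comap mk
    have hPE : P ≤ E'.comap mk := fun p hp => mem_comap.2 (by rw [(h1 p).2 hp]; exact one_mem E')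
    have hEQ : E'.comap mk ≤ Q := fun x hx => mem_map_mk (Sq_le_self Q) (hE'le hx)
    have hcE : Nat.card (E'.comap mk) = 8 * Nat.card P := by
      rw [← card_map_quotient P hPE, map_comap_eq_self_of_surjective (QuotientGroup.mk'_surjective P), hE8]
    obtain ⟨ρ, π, hm⟩ := S.exists_model P (E'.comap mk) hPE hEQ hcE (fun b hb => mul_self_mem_Sq (hEQ hb))
      (fun q hq b hb => hQQ q hq b (hEQ hb)) (by
        refine ⟨c, ?_⟩
        by_contra! hh
        have hE1 : E' ≠ ⊥ := fun e => by rw [e, card_bot] at hE8; omega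
        obtain ⟨⟨e, he⟩, he1⟩ := ne_bot_iff_exists_ne_one.1 hE1
        obtain ⟨x, rfl⟩ := QuotientGroup.mk'_surjective P e
        have hce : mk c * mk x = mk x * mk c := by
          have h' := (h1 _).2 (hh x (mem_comap.2 he))
          rw [map_mul, map_mul, map_mul, map_inv, map_inv, mul_inv_eq_one, mul_inv_eq_iff_eq_mul] at h'
          exact h'
        rcases huniq _ (hE'le he) hce with e' | e'
        · exact he1 (Subtype.ext e')
        · exact huE (e' ▸ he))
    exact ⟨_, hn, ρ, π, hm, by rw [hc16, hcE]; ring⟩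

/-- an additive invariant of the natural module with central values is trivial -/
theorem Model.functional_zero {A B : Subgroup X} {ρ : X →* M3} {π : X → V3} (h : Model Q A B ρ π) (f : V3 → X)
    (hadd : ∀ v w, f (v + w) = f v * f w) (hinv : ∀ g v, f ((ρ g).mulVec v) = f v) : ∀ v, f v = 1 := by
  have hc : ∀ v : V3, v ≠ 0 → f v = f e1 := fun v hv => by
    obtain ⟨A', hA', e⟩ := point_transitive v hv
    obtain ⟨g, hg⟩ := h.surj A' hA'
    rw [← e, ← hg, hinv]
  have h1 : f e1 = 1 := by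
    have e := hadd e1 e2
    rw [hc _ (by decide), hc e2 (by decide)] at e
    exact left_eq_mul.1 e
  intro v
  rcases eq_or_ne v 0 with rfl | hv
  · have e := hadd 0 0
    rwa [add_zero, left_eq_mul] at e
  · rw [hc v hv, h1]

/-- commutators with an element that is central modulo the lower term -/
theorem Model.commute_right {A B : Subgroup X} [B.Normal] {ρ : X →* M3} {π : X → V3} (h : Model Q A B ρ π)
    {M : Subgroup X} (hMc : ∀ g : X, ∀ m ∈ M, g * m = m * g) {u : X}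
    (hu : ∀ b ∈ B, b * u * b⁻¹ * u⁻¹ ∈ M) (hA : ∀ a ∈ A, a * u = u * a)
    (hinv : ∀ g : X, ∀ b ∈ B, b * (g * u * g⁻¹) * b⁻¹ * (g * u * g⁻¹)⁻¹ = b * u * b⁻¹ * u⁻¹) :
    ∀ b ∈ B, b * u = u * b := by
  have hmul : ∀ a ∈ B, ∀ b ∈ B, a * b * u * (a * b)⁻¹ * u⁻¹ = a * u * a⁻¹ * u⁻¹ * (b * u * b⁻¹ * u⁻¹) := by
    intro a ha b hb
    have e := hMc a _ (hu b hb)
    calc a * b * u * (a * b)⁻¹ * u⁻¹ = a * (b * u * b⁻¹ * u⁻¹) * (u * a⁻¹ * u⁻¹) := by group
      _ = b * u * b⁻¹ * u⁻¹ * (a * u * a⁻¹ * u⁻¹) := by rw [e]; group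
      _ = _ := ((hMc _ _ (hu b hb))).symm
  choose rep hrep hrepπ using h.onto
  have hf : ∀ b ∈ B, b * u * b⁻¹ * u⁻¹ = rep (π b) * u * (rep (π b))⁻¹ * u⁻¹ := by
    intro b hb
    have ha : (rep (π b))⁻¹ * b ∈ A := (h.pi_eq (hrep _) hb).1 (hrepπ _)
    calc b * u * b⁻¹ * u⁻¹ = rep (π b) * ((rep (π b))⁻¹ * b) * u * (rep (π b) * ((rep (π b))⁻¹ * b))⁻¹ * u⁻¹ := by
          group
      _ = _ := by rw [hmul _ (hrep _) _ (h.le ha), hA _ ha]; group
  have hz := h.functional_zero (fun v => rep v * u * (rep v)⁻¹ * u⁻¹) (fun v w => by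
    rw [← hmul _ (hrep v) _ (hrep w), hf _ (mul_mem (hrep v) (hrep w)), h.add _ (hrep v) _ (hrep w), hrepπ, hrepπ])
    (fun g v => by
      have hgb := ‹B.Normal›.conj_mem _ (hrep v) g
      have e := hf _ hgb
      rw [h.conj g _ (hrep v), hrepπ] at e
      show rep ((ρ g).mulVec v) * u * _ * u⁻¹ = _
      rw [← e, ← hinv g _ hgb, ← mul_inv_cancel_right (rep v * u * (rep v)⁻¹ * u⁻¹) g, ← hMc g _ (hu _ (hrep v))]
      group)
  intro b hb
  have := (hf b hb).trans (hz _)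
  rw [mul_inv_eq_one, mul_inv_eq_iff_eq_mul] at this
  exact this

/-- commutators of a natural section with values in a central subgroup vanish -/
theorem Model.comm_of_central {A B : Subgroup X} [B.Normal] {ρ : X →* M3} {π : X → V3} (h : Model Q A B ρ π)
    {M : Subgroup X} (hMc : ∀ g : X, ∀ m ∈ M, g * m = m * g)
    (hB : ∀ a ∈ B, ∀ b ∈ B, a * b * a⁻¹ * b⁻¹ ∈ M) (hA : ∀ a ∈ A, ∀ b ∈ B, a * b = b * a) :
    ∀ a ∈ B, ∀ b ∈ B, a * b = b * a := by
  have hmul : ∀ x ∈ B, ∀ y ∈ B, ∀ w ∈ B, x * (y * w) * x⁻¹ * (y * w)⁻¹ =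
      x * y * x⁻¹ * y⁻¹ * (x * w * x⁻¹ * w⁻¹) := by
    intro x hx y hy w hw
    calc x * (y * w) * x⁻¹ * (y * w)⁻¹ = x * y * x⁻¹ * y⁻¹ * (y * (x * w * x⁻¹ * w⁻¹) * y⁻¹) := by group
      _ = _ := by rw [hMc y _ (hB x hx w hw), mul_inv_cancel_right]
  -- the commutator depends only on the classes
  have hcls : ∀ x ∈ B, ∀ y ∈ B, ∀ x' ∈ B, ∀ y' ∈ B, π x = π x' → π y = π y' →
      x * y * x⁻¹ * y⁻¹ = x' * y' * x'⁻¹ * y'⁻¹ := by
    intro x hx y hy x' hx' y' hy' ex ey
    have hax : x⁻¹ * x' ∈ A := (h.pi_eq hx hx').1 ex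
    have hay : y⁻¹ * y' ∈ A := (h.pi_eq hy hy').1 ey
    have e1 : x' * y' * x'⁻¹ * y'⁻¹ = x * y' * x⁻¹ * y'⁻¹ := by
      calc x' * y' * x'⁻¹ * y'⁻¹ = x * ((x⁻¹ * x') * y') * (x⁻¹ * x')⁻¹ * x⁻¹ * y'⁻¹ := by group
        _ = _ := by rw [hA _ hax _ hy']; group
    rw [e1]
    conv_rhs => rw [show y' = y * (y⁻¹ * y') by group, hmul x hx y hy _ (h.le hay), ← hA _ hay x hx,
      mul_inv_cancel_right, mul_inv_cancel, mul_one]
  obtain ⟨x1, hx1, ex1⟩ := h.onto e1
  obtain ⟨x2, hx2, ex2⟩ := h.onto e2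
  obtain ⟨x3, hx3, ex3⟩ := h.onto e3
  have hconst : ∀ x ∈ B, ∀ y ∈ B, π x ≠ 0 → π y ≠ 0 → π x ≠ π y →
      x * y * x⁻¹ * y⁻¹ = x1 * x2 * x1⁻¹ * x2⁻¹ := by
    intro x hx y hy hx0 hy0 hxy
    obtain ⟨A', hA', e, e'⟩ := pair_transitive _ _ hx0 hy0 hxy
    obtain ⟨g, hg⟩ := h.surj A' hA'
    rw [hcls x hx y hy _ (‹B.Normal›.conj_mem x1 hx1 g) _ (‹B.Normal›.conj_mem x2 hx2 g)
      (by rw [h.conj g x1 hx1, ex1, hg, e]) (by rw [h.conj g x2 hx2, ex2, hg, e']),
      ← mul_inv_cancel_right (x1 * x2 * x1⁻¹ * x2⁻¹) g, ← hMc g _ (hB x1 hx1 x2 hx2)]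
    group
  have h0 : x1 * x2 * x1⁻¹ * x2⁻¹ = 1 := by
    have hy : π (x2 * x3) = e2 + e3 := by rw [h.add x2 hx2 x3 hx3, ex2, ex3]
    have e := hconst x1 hx1 (x2 * x3) (mul_mem hx2 hx3) (by rw [ex1]; decide) (by rw [hy]; decide)
      (by rw [ex1, hy]; decide)
    rw [hmul x1 hx1 x2 hx2 x3 hx3,
      hconst x1 hx1 x3 hx3 (by rw [ex1]; decide) (by rw [ex3]; decide) (by rw [ex1, ex3]; decide)] at e
    exact mul_eq_left.1 e
  intro x hx y hy
  rw [← mul_inv_eq_iff_eq_mul, ← mul_inv_eq_one]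
  by_cases hd : π x ≠ 0 ∧ π y ≠ 0 ∧ π x ≠ π y
  · rw [hconst x hx y hy hd.1 hd.2.1 hd.2.2, h0]
  · have : π x = 0 ∨ π y = 0 ∨ π x = π y := by tauto
    rcases this with e | e | e
    · rw [hA _ (h.mem_of_pi hx e) y hy]; group
    · rw [← hA _ (h.mem_of_pi hy e) x hx]; group
    · rw [hcls x hx y hy y hy y hy e rfl]; group

/-- `Q` is abelian when its derived subgroup has order two and the squares are central. -/
theorem Setup.abelian (S : Setup X Q) {M : Subgroup X} [M.Normal] (hM : Nat.card M = 2)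
    (hcomm : ∀ a ∈ Q, ∀ b ∈ Q, a * b * a⁻¹ * b⁻¹ ∈ M) (hP : ∀ a ∈ Sq Q, ∀ b ∈ Q, a * b = b * a) :
    ∀ a ∈ Q, ∀ b ∈ Q, a * b = b * a := by
  have hMc := central_of_two hM
  rcases S.top_section with ⟨-, ρ, π, h⟩ | ⟨-, ⟨E, hEn, ρ, π, h, hcard⟩ |
      ⟨u, hu, -, hcen, B, hBn, hPB, huB, hBb, ρ, π, h⟩⟩
  · exact h.comm_of_central hMc hcomm hP
  · have hEc := h.comm_of_central hMc (fun a ha b hb => hcomm a (h.leQ ha) b (h.leQ hb))
      (fun a ha b hb => hP a ha b (h.leQ hb))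
    obtain ⟨u, hu, huE⟩ : ∃ u ∈ Q, u ∉ E := by
      by_contra! hh
      have := Nat.card_le_card_of_injective _ (inclusion_injective hh)
      have hpos : 0 < Nat.card E := Nat.card_pos
      omega
    have hidx : ∀ q ∈ Q, q ∈ E ∨ u⁻¹ * q ∈ E := by
      intro q hq
      by_cases hqE : q ∈ E
      · exact Or.inl hqE
      refine Or.inr ?_
      haveI : (E.subgroupOf Q).Normal := inferInstance
      have hi : (E.subgroupOf Q).index = 2 := by
        have e := (E.subgroupOf Q).card_mul_index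
        rw [Nat.card_congr (subgroupOfEquivOfLe h.leQ).toEquiv, hcard, mul_comm 2] at e
        exact Nat.eq_of_mul_eq_mul_left Nat.card_pos e
      have := (mul_mem_iff_of_index_two hi (a := (⟨u⁻¹, inv_mem hu⟩ : Q)) (b := ⟨q, hq⟩)).2 (by
        simp only [mem_subgroupOf]
        exact ⟨fun e => absurd (inv_mem_iff.1 e) huE, fun e => absurd e hqE⟩)
      exact mem_subgroupOf.1 this
    have huc : ∀ b ∈ E, b * u = u * b := h.commute_right hMc (fun b hb => hcomm b (h.leQ hb) u hu)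
      (fun a ha => hP a ha u hu) (by
      intro g b hb
      have hgu := hQn.conj_mem u hu g
      rcases hidx _ hgu with e | e
      · exfalso
        have := hEn.conj_mem _ e g⁻¹
        rw [show g⁻¹ * (g * u * g⁻¹) * g⁻¹⁻¹ = u by group] at this
        exact huE this
      · have hd : b * (u⁻¹ * (g * u * g⁻¹)) = u⁻¹ * (g * u * g⁻¹) * b := hEc b hb _ e
        calc b * (g * u * g⁻¹) * b⁻¹ * (g * u * g⁻¹)⁻¹
            = b * u * b⁻¹ * (b * (u⁻¹ * (g * u * g⁻¹))) * b⁻¹ * (g * u * g⁻¹)⁻¹ := by group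
          _ = b * u * b⁻¹ * u⁻¹ := by rw [hd]; group)
    intro a ha b hb
    have hau : ∀ q ∈ Q, Commute u q := fun q hq => by
      rcases hidx q hq with e | e
      · exact (huc q e).symm
      · have := (Commute.refl u).mul_right (show Commute u (u⁻¹ * q) from (huc _ e).symm)
        rwa [mul_inv_cancel_left] at this
    rcases hidx a ha with ea | ea
    · rcases hidx b hb with eb | eb
      · exact hEc a ea b eb
      · have := (show Commute a u from huc a ea).mul_right (show Commute a (u⁻¹ * b) from hEc a ea _ eb)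
        rwa [mul_inv_cancel_left] at this
    · rcases hidx b hb with eb | eb
      · have := (hau b hb).mul_left (show Commute (u⁻¹ * a) b from hEc _ ea b eb)
        rwa [mul_inv_cancel_left] at this
      · have h2 : Commute (u⁻¹ * a) b := by
          have := (show Commute (u⁻¹ * a) u from huc _ ea).mul_right (show Commute (u⁻¹ * a) (u⁻¹ * b) from hEc _ ea _ eb)
          rwa [mul_inv_cancel_left] at this
        have := (hau b hb).mul_left h2
        rwa [mul_inv_cancel_left] at this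
  · have huc : ∀ q ∈ Q, q * u = u * q := h.commute_right hMc (fun b hb => hcomm b hb u hu) (fun a ha => by
        rcases hBb a ha with e | e
        · exact hP a e u hu
        · calc a * u = u * ((u⁻¹ * a) * u) := by group
            _ = u * (u * (u⁻¹ * a)) := by rw [hP _ e u hu]
            _ = u * a := by group) (by
      intro g b hb
      have hd := hP _ (hcen g) b hb
      calc b * (g * u * g⁻¹) * b⁻¹ * (g * u * g⁻¹)⁻¹
          = b * (g * u * g⁻¹ * u⁻¹) * u * b⁻¹ * u⁻¹ * (g * u * g⁻¹ * u⁻¹)⁻¹ := by group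
        _ = g * u * g⁻¹ * u⁻¹ * (b * u * b⁻¹ * u⁻¹) * (g * u * g⁻¹ * u⁻¹)⁻¹ := by rw [← hd]; group
        _ = b * u * b⁻¹ * u⁻¹ := by rw [hMc _ _ (hcomm b hb u hu), mul_inv_cancel_right])
    exact h.comm_of_central hMc hcomm (fun a ha b hb => by
      rcases hBb a ha with e | e
      · exact hP a e b hb
      · calc a * b = u * ((u⁻¹ * a) * b) := by group
          _ = u * (b * (u⁻¹ * a)) := by rw [hP _ e b hb]
          _ = b * u * (u⁻¹ * a) := by rw [← mul_assoc, huc b hb]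
          _ = b * a := by group)

end Cfsg.Agent.LinRad
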