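import Cfsg.Agent.LinRad.Tau

/-!
An elementary natural module with a central involution outside it gives a section of rank five, provided the
fourth powers of lifts of elements of order four lie in the module.
-/

set_option autoImplicit false
set_option maxHeartbeats 400000
set_option linter.unusedSectionVars false
set_option linter.style.haveILetI false

namespace Cfsg.Agent.LinRad

open Subgroup

variable {X : Type*} [Group X] [Finite X] {Q : Subgroup X} [hQn : Q.Normal] {ρ : X →* M3} {π : X → V3}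

omit hQn in
theorem Model.rho_inv_J {A B : Subgroup X} (h : Model Q A B ρ π) {U : X} (hU : ρ U = matJ) :
    ρ U⁻¹ = matJ * matJ * matJ := by
  calc ρ U⁻¹ = ρ U⁻¹ * (matJ * matJ * (matJ * matJ)) := by rw [rel.2.1, mul_one]
    _ = ρ U⁻¹ * ρ U * (matJ * matJ * matJ) := by rw [hU]; simp only [mul_assoc]
    _ = matJ * matJ * matJ := by rw [← map_mul, inv_mul_cancel, map_one, one_mul]

theorem Setup.rank_five_elementary (S : Setup X Q) (V : Subgroup X) [V.Normal] (h : Model Q ⊥ V ρ π)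
    (hcen : ∀ g : X, ∀ q ∈ Q, g * q * g⁻¹ * q⁻¹ ∈ V) (hexp : ∀ q ∈ Q, q ^ 4 ∈ V)
    (hfour : ∀ g : X, ρ g = matJ → g ^ 4 ∈ V) (c : X) (hcQ : c ∈ Q) (hcV : c ∉ V) (hc2 : c * c = 1)
    (hcc : ∀ g : X, g * c = c * g) : False := by
  have hV1 : ∀ a ∈ V, π a = 0 → a = 1 := fun a ha e => mem_bot.1 (h.mem_of_pi ha e)
  have hVa : ∀ a ∈ V, ∀ b ∈ V, a * b = b * a := fun a ha b hb => by
    have := hV1 _ (mul_mem (mul_mem ha hb) (inv_mem (mul_mem hb ha))) (by
      rw [h.add _ (mul_mem ha hb) _ (inv_mem (mul_mem hb ha)), h.pi_inv (mul_mem hb ha), h.add a ha b hb,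
        h.add b hb a ha, add_comm (π b)]
      have key : ∀ v : V3, v + v = 0 := by decide
      exact key _)
    exact mul_inv_eq_one.1 this
  have hV2 : ∀ a ∈ V, a * a = 1 := fun a ha => hV1 _ (mul_mem ha ha) (by
    rw [h.add a ha a ha]; ext i; exact CharTwo.add_self_eq_zero _)
  have hpos : ∀ v : V3, v + v = 0 := fun v => by ext i; exact CharTwo.add_self_eq_zero _
  obtain ⟨U, hU⟩ := h.surj matJ dets.1
  obtain ⟨W, hW⟩ := h.surj (matP * matJ * matP)
    (by rw [Matrix.det_mul, Matrix.det_mul, dets.1, dets.2.2.1]; rfl)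
  obtain ⟨hW4, d, hdQ, -, hZ4, hk0⟩ := h.lift_triple V hcen hexp hfour hU hW
  set Z := U * W * U⁻¹ * d with hZdef
  have hZρ : ρ Z = matU3 := by
    rw [hZdef, map_mul, map_mul, map_mul, hU, hW, h.rho_inv_J hU, (h.ker d).2 hdQ, mul_one, matU3]
  let N : Subgroup X :=
    { carrier := {b | b ∈ V ∧ (π b = 0 ∨ π b = e1)}
      one_mem' := ⟨one_mem V, Or.inl h.pi_one⟩
      mul_mem' := fun {a b} ha hb => ⟨mul_mem ha.1 hb.1, by
        rw [h.add a ha.1 b hb.1]
        rcases ha.2 with e | e <;> rcases hb.2 with e' | e' <;> simp [e, e', hpos]⟩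
      inv_mem' := fun {a} ha => ⟨inv_mem ha.1, by rw [h.pi_inv ha.1]; exact ha.2⟩ }
  -- fourth powers
  have hfix : ∀ g : X, g ^ 4 ∈ V → (∀ v : V3, (ρ g).mulVec v = v → v = 0 ∨ v = e1) → g ^ 4 ∈ N := by
    intro g hg hA
    refine ⟨hg, hA _ ?_⟩
    rw [← h.conj g _ hg, show g * g ^ 4 * g⁻¹ = g ^ 4 by group]
  have hUN : U ^ 4 ∈ N := hfix U (hfour U hU) (by rw [hU]; exact fixed_J)
  have hWN : W ^ 4 ∈ N := hfix W hW4 (by rw [hW]; exact fixed_P)
  have hZN : Z ^ 4 ∈ N := hfix Z hZ4 (by rw [hZρ]; exact fixed_U3)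
  set x := U * U with hx
  set y := W * W with hy
  have hxρ : ρ x = matJ * matJ := by rw [hx, map_mul, hU]
  have hyρ : ρ y = matT := by rw [hy, map_mul, hW, rel.2.2.2.1]
  -- commutators with the module
  have hmove : ∀ g : X, (∀ v : V3, (ρ g).mulVec v + v = 0 ∨ (ρ g).mulVec v + v = e1) →
      ∀ v ∈ V, g * v * g⁻¹ * v⁻¹ ∈ N := by
    intro g hg v hv
    have hgv := ‹V.Normal›.conj_mem v hv g
    refine ⟨mul_mem hgv (inv_mem hv), ?_⟩
    rw [h.add _ hgv _ (inv_mem hv), h.pi_inv hv, h.conj g v hv]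
    exact hg _
  have hNc : ∀ g : X, (ρ g).mulVec e1 = e1 → ∀ n ∈ N, g * n = n * g := by
    intro g hg n hn
    refine mul_inv_eq_iff_eq_mul.1 (mul_inv_eq_one.1 (hV1 _ (mul_mem (‹V.Normal›.conj_mem n hn.1 g) (inv_mem hn.1)) ?_))
    rw [h.add _ (‹V.Normal›.conj_mem n hn.1 g) _ (inv_mem hn.1), h.pi_inv hn.1, h.conj g n hn.1]
    rcases hn.2 with e | e <;> rw [e]
    · simp
    · rw [hg, hpos]
  let U' : Subgroup X :=
    { carrier := {b | b ∈ V ∨ c * b ∈ V}
      one_mem' := Or.inl (one_mem V)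
      mul_mem' := fun {a b} ha hb => by
        rcases ha with ha | ha <;> rcases hb with hb | hb
        · exact Or.inl (mul_mem ha hb)
        · exact Or.inr (by rw [← mul_assoc, ← hcc a, mul_assoc]; exact mul_mem ha hb)
        · exact Or.inr (by rw [← mul_assoc]; exact mul_mem ha hb)
        · refine Or.inl ?_
          have := mul_mem ha hb
          rwa [show c * a * (c * b) = c * (a * c) * b by group, hcc a, ← mul_assoc, hc2, one_mul] at this
      inv_mem' := fun {a} ha => by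
        rcases ha with ha | ha
        · exact Or.inl (inv_mem ha)
        · refine Or.inr ?_
          have hci : c⁻¹ = c := inv_eq_of_mul_eq_one_right hc2
          have := inv_mem ha
          rwa [mul_inv_rev, hci, hcc a⁻¹] at this }
  have hci : c⁻¹ = c := inv_eq_of_mul_eq_one_right hc2
  have hdec : ∀ b ∈ U', ∃ v ∈ V, b = v ∨ b = c * v := by
    rintro b (hb | hb)
    · exact ⟨b, hb, Or.inl rfl⟩
    · exact ⟨c * b, hb, Or.inr (by rw [← mul_assoc, hc2, one_mul])⟩
  have hUQ : U' ≤ Q := by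
    intro b hb
    obtain ⟨v, hv, rfl | rfl⟩ := hdec b hb
    · exact h.leQ hv
    · exact mul_mem hcQ (h.leQ hv)
  have hE : SecFour.Elem N U' := by
    refine ⟨fun b hb => Or.inl hb.1, fun k hk n hn => ?_, fun k hk => ?_⟩
    · obtain ⟨v, hv, rfl | rfl⟩ := hdec k hk
      · exact hVa _ hv n hn.1
      · rw [mul_assoc, hVa v hv n hn.1, ← mul_assoc, ← hcc n, mul_assoc]
    · obtain ⟨v, hv, rfl | rfl⟩ := hdec k hk
      · rw [hV2 _ hv]; exact N.one_mem
      · rw [(show Commute c v from (hcc v).symm).symm.mul_mul_mul_comm, hc2, hV2 v hv, one_mul]; exact N.one_mem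
  have hcard : 8 * Nat.card N ≤ Nat.card U' := by
    have hV8 : Nat.card V = 8 := by rw [h.card, card_bot, mul_one]
    have hN2 : Nat.card N ≤ 2 := by
      let f : N → Bool := fun n => decide (π (n : X) = e1)
      refine (Nat.card_le_card_of_injective f ?_).trans (by simp)
      intro a b e
      have hab : π (a : X) = π (b : X) := by
        rcases a.2.2 with ea | ea <;> rcases b.2.2 with eb | eb <;>
          simp [f, ea, eb, (by decide : (0 : V3) ≠ e1)] at e ⊢
      exact Subtype.ext (inv_mul_eq_one.1 (mem_bot.1 ((h.pi_eq a.2.1 b.2.1).1 hab)))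
    let g : Bool × V → U' := fun p => ⟨(if p.1 then c else 1) * p.2, by
      rcases p with ⟨_ | _, v⟩
      · exact Or.inl (by simp)
      · exact Or.inr (by simp [← mul_assoc, hc2])⟩
    have := Nat.card_le_card_of_injective g (by
      rintro ⟨b, v⟩ ⟨b', v'⟩ e
      have e' := congrArg Subtype.val e
      cases b <;> cases b' <;> simp [g] at e'
      · exact Prod.ext rfl e'
      · exact absurd (show c ∈ V by
          rw [show c = (v : X) * (v' : X)⁻¹ by rw [e']; group]; exact mul_mem v.2 (inv_mem v'.2)) hcV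
      · exact absurd (show c ∈ V by
          rw [show c = (v' : X) * (v : X)⁻¹ by rw [← e']; group]; exact mul_mem v'.2 (inv_mem v.2)) hcV
      · exact Prod.ext rfl e')
    rw [Nat.card_prod, Nat.card_eq_fintype_card (α := Bool), Fintype.card_bool, hV8] at this
    omega
  have hmv : ∀ g : X, (∀ v : V3, (ρ g).mulVec v + v = 0 ∨ (ρ g).mulVec v + v = e1) →
      ∀ k ∈ U', SecFour.CommMod N g k := by
    intro g hg k hk
    show g * k * g⁻¹ * k⁻¹ ∈ N
    obtain ⟨v, hv, rfl | rfl⟩ := hdec k hk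
    · exact hmove g hg _ hv
    · rw [show g * (c * v) * g⁻¹ * (c * v)⁻¹ = g * c * (v * g⁻¹ * v⁻¹) * c⁻¹ by group, hcc g,
        show c * g * (v * g⁻¹ * v⁻¹) * c⁻¹ = c * (g * v * g⁻¹ * v⁻¹) * c⁻¹ by group, ← hcc,
        mul_inv_cancel_right]
      exact hmove g hg _ hv
  have hdx : ∀ v : V3, (ρ x).mulVec v + v = 0 ∨ (ρ x).mulVec v + v = e1 := fun v => by
    rw [hxρ]; exact (sq_diff v).1
  have hdy : ∀ v : V3, (ρ y).mulVec v + v = 0 ∨ (ρ y).mulVec v + v = e1 := fun v => by
    rw [hyρ]; exact (sq_diff v).2.1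
  refine section_five S.rank h hE hUQ hcard hxρ hyρ (hNc x (by rw [hxρ]; decide +kernel))
    (hNc y (by rw [hyρ]; decide +kernel)) ?_ ?_ ?_ (hmv x hdx) (hmv y hdy)
  · rwa [hx, show U * U * (U * U) = U ^ 4 by simp only [pow_succ, pow_zero, one_mul, mul_assoc]]
  · rwa [hy, show W * W * (W * W) = W ^ 4 by simp only [pow_succ, pow_zero, one_mul, mul_assoc]]
  · set k := U * U * (W * W) * (Z * Z)⁻¹ with hk
    have hxy : x * y = k * (Z * Z) := by rw [hk, inv_mul_cancel_right]
    rw [hxy]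
    have e : k * (Z * Z) * (k * (Z * Z)) = k * (Z * Z * k * (Z * Z)⁻¹ * k⁻¹) * k * Z ^ 4 := by
      rw [show Z ^ 4 = Z * Z * (Z * Z) by simp only [pow_succ, pow_zero, one_mul, mul_assoc]]
      generalize Z * Z = w
      group
    have hd : Z * Z * k * (Z * Z)⁻¹ * k⁻¹ ∈ N :=
      hmove (Z * Z) (fun v => by rw [map_mul, hZρ]; exact (sq_diff v).2.2) k hk0
    rw [e]
    refine mul_mem ?_ hZN
    rw [hVa k hk0 _ hd.1, mul_assoc, hV2 k hk0, mul_one]
    exact hd

end Cfsg.Agent.LinRad
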