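import Cfsg.Agent.LinRad.Lift
import Cfsg.Agent.LinRad.RankV

/-!
A homocyclic normal subgroup of exponent four and rank three with natural action gives a section of rank five,
provided the fourth powers of lifts of elements of order four lie in it.
-/

set_option autoImplicit false
set_option maxHeartbeats 800000
set_option linter.unusedSectionVars false
set_option linter.style.haveILetI false

namespace Cfsg.Agent.LinRad

open Subgroup

variable {X : Type*} [Group X] [Finite X] {Q : Subgroup X} [hQn : Q.Normal] {ρ : X →* M3} {π : X → V3}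

theorem Setup.no_homocyclic (S : Setup X Q) (M K : Subgroup X) [K.Normal] (h : Model Q M K ρ π)
    (hK : ∀ a ∈ K, ∀ b ∈ K, a * b = b * a) (hM : Nat.card M = 8) (hsq : ∀ k ∈ K, k * k = 1 ↔ k ∈ M)
    (hcen : ∀ g : X, ∀ q ∈ Q, g * q * g⁻¹ * q⁻¹ ∈ K) (hexp : ∀ q ∈ Q, q ^ 4 ∈ K)
    (hfour : ∀ g : X, ρ g = matJ → g ^ 4 ∈ K) (hq : ∀ q ∈ Q, q * q ∉ K → ∀ k ∈ K, q * k = k * q) : False := by
  have hpos : ∀ v : V3, v + v = 0 := fun v => by ext i; exact CharTwo.add_self_eq_zero _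
  have hsq' : ∀ a ∈ K, ∀ b ∈ K, a * b * (a * b) = a * a * (b * b) := fun a ha b hb =>
    (show Commute b a from hK b hb a ha).mul_mul_mul_comm _ _
  have hMe : ∀ m ∈ M, m * m = 1 := fun m hm => (hsq m (h.le hm)).2 hm
  have hdet1 := dets
  obtain ⟨a, ha⟩ := h.surj matA hdet1.2.2.2.2.1
  obtain ⟨b, hb⟩ := h.surj matB hdet1.2.2.2.2.2.1
  obtain ⟨p, hp⟩ := h.surj matP hdet1.2.2.1
  set U := a * b * a⁻¹ * b⁻¹ with hUdef
  have hU : ρ U = matJ := by
    calc ρ U = matA * matB * ρ (a⁻¹ * b⁻¹) := by rw [hUdef, mul_assoc (a * b), map_mul, map_mul, ha, hb]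
      _ = matJ * (ρ b * ρ a * ρ (a⁻¹ * b⁻¹)) := by rw [rel.2.2.2.2.2.2.2, ← ha, ← hb]; simp only [mul_assoc]
      _ = matJ := by rw [← map_mul, ← map_mul, show b * a * (a⁻¹ * b⁻¹) = 1 by group, map_one, mul_one]
  set W := p * U * p⁻¹ with hWdef
  have hW : ρ W = matP * matJ * matP := by
    have hPi : ρ p⁻¹ = matP := by
      calc ρ p⁻¹ = ρ p⁻¹ * (matP * matP) := by rw [rel.2.2.1, mul_one]
        _ = ρ p⁻¹ * ρ p * matP := by rw [hp, mul_assoc]
        _ = matP := by rw [← map_mul, inv_mul_cancel, map_one, one_mul]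
    rw [hWdef, map_mul, map_mul, hp, hU, hPi]
  obtain ⟨hW4, d, hdQ, hd1, hZ4, hk0⟩ := h.lift_triple K hcen hexp hfour hU hW
  set Z := U * W * U⁻¹ * d with hZdef
  have hZρ : ρ Z = matU3 := by
    rw [hZdef, map_mul, map_mul, map_mul, hU, hW, h.rho_inv_J hU, (h.ker d).2 hdQ, mul_one, matU3]
  -- membership in the kernel of the determinant
  set D := commutator X ⊔ centralizer (K : Set X) with hD
  have hUD : U ∈ D := mem_sup_left (Subgroup.commutator_mem_commutator (mem_top a) (mem_top b))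
  have hWD : W ∈ D := (inferInstance : D.Normal).conj_mem U hUD p
  have hdD : d ∈ D := by
    rcases hd1 with rfl | hd1
    · exact one_mem D
    · exact mem_sup_right (mem_centralizer_iff.2 fun k hk => (hq d hdQ hd1 k hk).symm)
  have hZD : Z ∈ D := mul_mem ((inferInstance : D.Normal).conj_mem W hWD U) hdD
  let U' : Subgroup X :=
    { carrier := {k | k ∈ K ∧ (π k = 0 ∨ π k = e1)}
      one_mem' := ⟨one_mem K, Or.inl h.pi_one⟩
      mul_mem' := fun {a b} ha hb => ⟨mul_mem ha.1 hb.1, by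
        rw [h.add a ha.1 b hb.1]
        rcases ha.2 with e | e <;> rcases hb.2 with e' | e' <;> simp [e, e', hpos]⟩
      inv_mem' := fun {a} ha => ⟨inv_mem ha.1, by rw [h.pi_inv ha.1]; exact ha.2⟩ }
  let N : Subgroup X :=
    { carrier := {m | ∃ k ∈ U', k * k = m}
      one_mem' := ⟨1, one_mem U', one_mul 1⟩
      mul_mem' := by
        rintro _ _ ⟨a, ha, rfl⟩ ⟨b, hb, rfl⟩
        exact ⟨a * b, mul_mem ha hb, hsq' a ha.1 b hb.1⟩
      inv_mem' := by
        rintro _ ⟨a, ha, rfl⟩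
        exact ⟨a⁻¹, inv_mem ha, by rw [mul_inv_rev]⟩ }
  have hN : ∀ k ∈ K, π k = 0 ∨ π k = e1 → k * k ∈ N := fun k hk e => ⟨k, ⟨hk, e⟩, rfl⟩
  have hcv := cyclic_vectors
  obtain ⟨⟨a1, ha1, hx2⟩, hmx, hLx⟩ := h.good_lift hK hM hsq hN (hfour U hU) hUD e3 e2
    (by rw [hU]; exact hcv.1.1) (by rw [hU]; exact hcv.1.2) (by rw [hU]; exact act.1) hcv.2.2.2.1
  obtain ⟨⟨a2, ha2, hy2⟩, hmy, -⟩ := h.good_lift hK hM hsq hN hW4 hWD e2 e3
    (by rw [hW]; exact hcv.2.1.1) (by rw [hW]; exact hcv.2.1.2) (by rw [hW]; exact act.2.2.2) hcv.2.2.2.2.1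
  obtain ⟨⟨a3, ha3, hz2⟩, -, hLz⟩ := h.good_lift hK hM hsq hN hZ4 hZD (e1 + e2) (e2 + e3)
    (by rw [hZρ]; exact hcv.2.2.1.1) (by rw [hZρ]; exact hcv.2.2.1.2.1) (by rw [hZρ]; exact hcv.2.2.1.2.2)
    hcv.2.2.2.2.2
  have hρK : ∀ k ∈ K, ρ k = 1 := fun k hk => (h.ker k).2 (h.leQ hk)
  have hact : ∀ a' ∈ K, ∀ g k, k ∈ K → a' * g * k * (a' * g)⁻¹ = g * k * g⁻¹ := by
    intro a' ha' g k hk
    rw [show a' * g * k * (a' * g)⁻¹ = a' * (g * k * g⁻¹) * a'⁻¹ by group,
      hK a' ha' _ (‹K.Normal›.conj_mem k hk g), mul_inv_cancel_right]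
  set x0 := a1 * (U * U) with hx0
  set y := a2 * (W * W) with hy
  set z := a3 * (Z * Z) with hz
  -- the product of the normalised lifts
  obtain ⟨k, hk, hkz⟩ : ∃ k ∈ K, x0 * y = k * z := by
    refine ⟨a1 * (U * U * a2 * (U * U)⁻¹) * (U * U * (W * W) * (Z * Z)⁻¹) * a3⁻¹,
      mul_mem (mul_mem (mul_mem ha1 (‹K.Normal›.conj_mem a2 ha2 _)) hk0) (inv_mem ha3), ?_⟩
    rw [hx0, hy, hz]
    generalize U * U = u
    generalize W * W = w
    generalize Z * Z = v
    group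
  obtain ⟨e, he, hex, hez⟩ : ∃ e ∈ K, (ρ (U * U)).mulVec (π e) = π e ∧
      (ρ (Z * Z)).mulVec (π (e * k)) = π (e * k) := by
    by_cases hkf : (ρ (Z * Z)).mulVec (π k) = π k
    · exact ⟨1, one_mem K, by rw [h.pi_one, Matrix.mulVec_zero], by rw [one_mul]; exact hkf⟩
    · obtain ⟨e, he, hee⟩ := h.onto e2
      refine ⟨e, he, ?_, ?_⟩
      · rw [hee, map_mul, hU]; exact axis_three.1
      · rw [map_mul, hZρ] at hkf
        rw [h.add e he k hk, hee, map_mul, hZρ]
        exact axis_three.2 _ hkf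
  set x := e * x0 with hxdef
  have hxρ : ρ x = matJ * matJ := by
    rw [hxdef, hx0, map_mul, map_mul, map_mul, hρK e he, hρK a1 ha1, hU, one_mul, one_mul]
  have hyρ : ρ y = matT := by
    rw [hy, map_mul, map_mul, hρK a2 ha2, hW, one_mul, rel.2.2.2.1]
  have hcomm : ∀ g : X, (ρ g).mulVec e1 = e1 → ∀ n ∈ N, g * n = n * g := by
    rintro g hg _ ⟨j, ⟨hj, hjπ⟩, rfl⟩
    have hgj := ‹K.Normal›.conj_mem j hj g
    have hd : g * j * g⁻¹ * j⁻¹ ∈ M := h.mem_of_pi (mul_mem hgj (inv_mem hj)) (by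
      rw [h.add _ hgj _ (inv_mem hj), h.pi_inv hj, h.conj g j hj]
      rcases hjπ with e | e <;> rw [e]
      · simp
      · rw [hg, hpos])
    refine mul_inv_eq_iff_eq_mul.1 ?_
    calc g * (j * j) * g⁻¹ = g * j * g⁻¹ * j⁻¹ * j * (g * j * g⁻¹ * j⁻¹ * j) := by group
      _ = j * j := by rw [hsq' _ (h.le hd) j hj, hMe _ hd, one_mul]
  refine section_five S.rank h (U' := U') (N := N) ?_ (fun b hb => h.leQ hb.1) ?_ hxρ hyρ
    (hcomm x (by rw [hxρ]; decide +kernel)) (hcomm y (by rw [hyρ]; decide +kernel)) ?_ ?_ ?_ ?_ ?_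
  · refine ⟨?_, ?_, fun k hk => hN k hk.1 hk.2⟩
    · rintro _ ⟨j, ⟨hj, -⟩, rfl⟩
      exact ⟨mul_mem hj hj, Or.inl (by rw [h.add j hj j hj, hpos])⟩
    · rintro k ⟨hk, -⟩ _ ⟨j, ⟨hj, -⟩, rfl⟩
      exact hK k hk _ (mul_mem hj hj)
  · have hN2 : Nat.card N ≤ 2 := by
      obtain ⟨k1, hk1, hk1π⟩ := h.onto e1
      classical
      let f : N → Bool := fun n => decide ((n : X) = 1)
      refine (Nat.card_le_card_of_injective f ?_).trans (by simp)
      have hval : ∀ n : N, (n : X) = 1 ∨ (n : X) = k1 * k1 := by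
        rintro ⟨_, j, ⟨hj, hjπ⟩, rfl⟩
        rcases hjπ with e | e
        · exact Or.inl ((hsq j hj).2 (h.mem_of_pi hj e))
        · refine Or.inr ?_
          have hd := (h.pi_eq hk1 hj).1 (hk1π.trans e.symm)
          show j * j = k1 * k1
          calc j * j = k1 * (k1⁻¹ * j) * (k1 * (k1⁻¹ * j)) := by group
            _ = k1 * k1 := by rw [hsq' k1 hk1 _ (h.le hd), hMe _ hd, mul_one]
      have hk11 : k1 * k1 ≠ 1 := fun e => by
        have := (h.zero k1 hk1).2 ((hsq k1 hk1).1 e)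
        rw [hk1π] at this
        exact absurd this (by decide)
      intro n n' e
      rcases hval n with en | en <;> rcases hval n' with en' | en' <;> refine Subtype.ext ?_ <;>
        simp only [f, en, en'] at e ⊢ <;> simp [hk11] at e ⊢
    obtain ⟨k1, hk1, hk1π⟩ := h.onto e1
    let g : Bool × M → U' := fun p => ⟨(if p.1 then k1 else 1) * p.2, mul_mem (by split_ifs <;> simp [hk1]) (h.le p.2.2), by
      rw [h.add _ (by split_ifs <;> simp [hk1]) _ (h.le p.2.2), (h.zero _ (h.le p.2.2)).2 p.2.2, add_zero]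
      split_ifs <;> simp [hk1π, h.pi_one]⟩
    have := Nat.card_le_card_of_injective g (by
      rintro ⟨b, v⟩ ⟨b', v'⟩ e
      have e' := congrArg Subtype.val e
      have hne : k1 ∉ M := fun hm => by
        have := (h.zero k1 hk1).2 hm
        rw [hk1π] at this
        exact absurd this (by decide)
      cases b <;> cases b' <;> simp [g] at e'
      · exact Prod.ext rfl e'
      · exact absurd (show k1 ∈ M by
          rw [show k1 = (v : X) * (v' : X)⁻¹ by rw [e']; group]; exact mul_mem v.2 (inv_mem v'.2)) hne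
      · exact absurd (show k1 ∈ M by
          rw [show k1 = (v' : X) * (v : X)⁻¹ by rw [← e']; group]; exact mul_mem v'.2 (inv_mem v.2)) hne
      · exact Prod.ext rfl e')
    rw [Nat.card_prod, Nat.card_eq_fintype_card (α := Bool), Fintype.card_bool, hM] at this
    omega
  · have hc := hLx e he hex
    have e' : x * x = e * (x0 * e * x0⁻¹) * (x0 * x0) := by rw [hxdef]; group
    rw [e', hx2, mul_one, hx0, hact a1 ha1 _ e he]
    exact hc
  · rw [hy2]; exact one_mem N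
  · have hek := mul_mem he hk
    have e' : x * y * (x * y) = e * k * (z * (e * k) * z⁻¹) * (z * z) := by
      rw [hxdef, mul_assoc e x0 y, hkz, ← mul_assoc e k z]
      group
    rw [e', hz2, mul_one, hz, hact a3 ha3 _ _ hek]
    exact hLz _ hek hez
  · intro u hu
    show x * u * x⁻¹ * u⁻¹ ∈ N
    rw [hxdef, hx0, ← mul_assoc e, hact _ (mul_mem he ha1) _ u hu.1]
    exact hmx u hu.1 hu.2
  · intro u hu
    show y * u * y⁻¹ * u⁻¹ ∈ N
    rw [hy, hact a2 ha2 _ u hu.1]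
    exact hmy u hu.1 hu.2

end Cfsg.Agent.LinRad
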