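import Cfsg.Agent.LinRad.Eight
import Cfsg.Agent.LinRad.RankK

/-!
No radical of order 128 with squares filling a natural module.
-/

set_option autoImplicit false
set_option maxHeartbeats 800000
set_option linter.unusedSectionVars false
set_option linter.style.haveILetI false

namespace Cfsg.Agent.LinRad

open Subgroup

variable {X : Type*} [Group X] [Finite X] {Q : Subgroup X} [hQn : Q.Normal]

theorem Setup.no_128_sub (S : Setup X Q) {M : Subgroup X} [M.Normal] (hM : Eight Q M)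
    (hsqM : ∀ q ∈ Q, q * q ∈ M) (hcomm : ∀ a ∈ Q, ∀ b ∈ Q, a * b * a⁻¹ * b⁻¹ ∈ M) (hQ : Nat.card Q = 128)
    (hnocen : ∀ u ∈ Q, u * u = 1 → (∀ g : X, g * u = u * g) → u ∈ M) {E : Subgroup X} [E.Normal]
    {ρ : X →* M3} {π : X → V3} (h : Model Q M E ρ π) (hcard : Nat.card Q = 2 * Nat.card E) : False := by
  have hpos : ∀ v : V3, v + v = 0 := fun v => by ext i; exact CharTwo.add_self_eq_zero _
  obtain ⟨σ, hσ, hσM, hσadd, hσ1, hσs, hσc, hEc, hE1⟩ := h.square_section hM hM.exp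
    (fun a ha b hb => (hM.cen b (h.leQ hb) a ha).symm) (fun b hb => hsqM b (h.leQ hb)) (by
      by_contra! hh
      have hb := SecFour.rank_bound S.rank E ⊥ bot_le (fun k _ n hn => by rw [mem_bot] at hn; simp [hn])
        (fun k hk => mem_bot.2 (hh k hk))
      simp only [card_bot, mul_one] at hb
      omega)
  have hME : M ≤ E := h.le
  have hroot := h.root σ hσ hσs
  have hσ0 : σ 0 = 1 := by rw [← h.pi_one, ← hσ 1 (one_mem E), one_mul]
  have hσinj : ∀ v w, σ v = σ w → v = w := by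
    intro v w e
    have key : ∀ v w : V3, v + w = 0 → v = w := by decide
    exact key _ _ (hσ1 _ (by rw [hσadd, e, hM.exp _ (hσM w)]))
  have h4E : ∀ k ∈ E, k * k * (k * k) = 1 := fun k hk => hM.exp _ (hsqM k (h.leQ hk))
  obtain ⟨u, hu, huE⟩ := exists_not_mem hcard
  have hidx : ∀ {q : X}, q ∈ Q → q ∈ E ∨ u⁻¹ * q ∈ E := fun hq => index_two_cases h.leQ hcard hu huE hq
  have hgu : ∀ g : X, u⁻¹ * (g * u * g⁻¹) ∈ E := fun g => by
    rcases hidx (hQn.conj_mem u hu g) with e | e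
    · exfalso
      have := ‹E.Normal›.conj_mem _ e g⁻¹
      rw [show g⁻¹ * (g * u * g⁻¹) * g⁻¹⁻¹ = u by group] at this
      exact huE this
    · exact e
  have hdu : ∀ g : X, dlt g u ∈ E := fun g => by
    have := ‹E.Normal›.conj_mem _ (hgu g) u
    rwa [show u * (u⁻¹ * (g * u * g⁻¹)) * u⁻¹ = dlt g u by simp only [dlt]; group] at this
  have hinv : ∀ g : X, ∀ b ∈ E, b * (g * u * g⁻¹) * b⁻¹ * (g * u * g⁻¹)⁻¹ = b * u * b⁻¹ * u⁻¹ := by
    intro g b hb
    have hd := hEc b hb _ (hgu g)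
    calc b * (g * u * g⁻¹) * b⁻¹ * (g * u * g⁻¹)⁻¹
        = b * u * b⁻¹ * (b * (u⁻¹ * (g * u * g⁻¹))) * b⁻¹ * (g * u * g⁻¹)⁻¹ := by group
      _ = b * u * b⁻¹ * u⁻¹ := by rw [hd]; group
  rcases h.commutator_section hM (fun b hb => hcomm b (h.leQ hb) u hu) (fun a ha => (hM.cen u hu a ha).symm) hinv
    with hcen | ⟨φ, hφ, hφadd, hφ0, hφ1, hφs, hφc⟩
  · -- `Q` is abelian
    have huq : ∀ q ∈ Q, Commute u q := fun q hq => by
      rcases hidx hq with e | e
      · exact (hcen q e).symm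
      · have := (Commute.refl u).mul_right (show Commute u (u⁻¹ * q) from (hcen _ e).symm)
        rwa [mul_inv_cancel_left] at this
    have hEQ : ∀ b ∈ E, ∀ q ∈ Q, Commute b q := fun b hb q hq => by
      rcases hidx hq with e | e
      · exact hEc b hb q e
      · have := (show Commute b u from hcen b hb).mul_right (show Commute b (u⁻¹ * q) from hEc b hb _ e)
        rwa [mul_inv_cancel_left] at this
    have hab : ∀ a ∈ Q, ∀ b ∈ Q, Commute a b := fun a ha b hb => by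
      rcases hidx ha with e | e
      · exact hEQ a e b hb
      · have := (huq b hb).mul_left (hEQ _ e b hb)
        rwa [mul_inv_cancel_left] at this
    obtain ⟨j, hj, hje⟩ := hroot _ (hsqM u hu)
    set v := u * j⁻¹ with hv
    have hvQ : v ∈ Q := mul_mem hu (inv_mem (h.leQ hj))
    have hv2 : v * v = 1 := by
      rw [hv, (hab j⁻¹ (inv_mem (h.leQ hj)) u hu).mul_mul_mul_comm, ← hje, ← mul_inv_rev, mul_inv_cancel]
    have hvE : v ∉ E := fun e => huE (by
      have := mul_mem e hj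
      rwa [hv, inv_mul_cancel_right] at this)
    have hdv : ∀ g : X, dlt g v ∈ M := fun g => by
      have hE : dlt g v ∈ E := by
        rw [hv, dlt_mul (fun a ha b hb => (hab a ha b hb).eq) g hu (inv_mem (h.leQ hj))]
        exact mul_mem (hdu g) (dlt_mem g (inv_mem hj))
      refine (hE1 _ hE).1 ?_
      rw [← dlt_sq (fun a ha b hb => (hab a ha b hb).eq) g hvQ, hv2, dlt_one]
    have hnf : ∀ g : X, ρ g = matJ → ∀ m ∈ M, dlt g (v * m) ≠ 1 := fun g hg m hm =>
      hM.no_fixed S h (fun q hq => (hab q hq v hvQ).eq) hdv (fun a ha hh => hvE (by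
        have h1 := hnocen _ (mul_mem hvQ (hM.le ha))
          (by rw [(hab a (hM.le ha) v hvQ).mul_mul_mul_comm, hv2, hM.exp a ha, one_mul]) hh
        have := mul_mem (hME h1) (inv_mem (hME ha))
        rwa [mul_inv_cancel_right] at this)) hg hm
    by_cases hfour : ∀ g : X, ρ g = matJ → g ^ 4 ∈ E
    · refine S.no_homocyclic M E h hEc hM.card hE1 (fun g q hq => ?_)
        (fun q hq => hME (by rw [show q ^ 4 = q * q * (q * q) by simp only [pow_succ, pow_zero, one_mul, mul_assoc],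
          hM.exp _ (hsqM q hq)]; exact one_mem M)) hfour
        (fun q hq hh => absurd (hME (hsqM q hq)) hh)
      rcases hidx hq with e | e
      · exact dlt_mem g e
      · have := mul_mem (hdu g) (dlt_mem (K := E) g e)
        rwa [← dlt_mul (fun a ha b hb => (hab a ha b hb).eq) g hu (mul_mem (inv_mem hu) hq),
          mul_inv_cancel_left] at this
    push Not at hfour
    obtain ⟨g, hg, hg4⟩ := hfour
    have hg4Q := (h.four_mem hg).1
    obtain ⟨x, hx, hgx⟩ : ∃ x ∈ E, g ^ 4 = v * x := by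
      refine ⟨v⁻¹ * g ^ 4, ?_, (mul_inv_cancel_left _ _).symm⟩
      rcases hidx hg4Q with e | e
      · exact absurd e hg4
      · rw [hv, mul_inv_rev, inv_inv, mul_assoc]
        exact mul_mem hj e
    have hdx : dlt g v * dlt g x = 1 := by
      rw [← dlt_mul (fun a ha b hb => (hab a ha b hb).eq) g hvQ (h.leQ hx), ← hgx, dlt_eq_one]
      exact (Commute.pow_self g 4).symm.eq
    obtain ⟨m, hm, hme⟩ := h.fixed_shift hEc hE1 hroot hg (fun k hk => (hab _ hg4Q k (h.leQ hk)).eq) hx (by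
      rw [← dlt_eq_one, dlt_sq hEc g hx]
      have : dlt g x ∈ M := by
        rw [eq_inv_of_mul_eq_one_right hdx]; exact inv_mem (hdv g)
      exact hM.exp _ this)
    refine hnf g hg m hm ?_
    rw [dlt_mul (fun a ha b hb => (hab a ha b hb).eq) g hvQ (hM.le hm), ← hme, hdx]
  · -- `u` inverts
    have hinvu : ∀ b ∈ E, b * u * b⁻¹ * u⁻¹ = b * b := by
      have := h.equiv_unique σ φ hσinj (fun v => by
        obtain ⟨w, hw⟩ := hσs (φ v) (by
          obtain ⟨b, hb, e⟩ := h.onto v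
          rw [← e, ← hφ b hb]; exact hcomm b (h.leQ hb) u hu)
        exact ⟨w, hw.symm⟩) hσ0 hφ1 hφ0 hσc hφc
      intro b hb
      rw [hφ b hb, hσ b hb, this]
    have hflip : ∀ b ∈ E, u * b * u⁻¹ = b⁻¹ := by
      intro b hb
      have h1 := hinvu b hb
      have h2 : u * b⁻¹ * u⁻¹ = b := by
        calc u * b⁻¹ * u⁻¹ = b⁻¹ * (b * u * b⁻¹ * u⁻¹) := by group
          _ = b := by rw [h1, inv_mul_cancel_left]
      calc u * b * u⁻¹ = (u * b⁻¹ * u⁻¹)⁻¹ := by group
        _ = b⁻¹ := by rw [h2]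
    by_cases hfour : ∀ g : X, ρ g = matJ → g ^ 4 ∈ E
    · refine S.no_homocyclic M E h hEc hM.card hE1 (fun g q hq => ?_)
        (fun q hq => hME (by rw [show q ^ 4 = q * q * (q * q) by simp only [pow_succ, pow_zero, one_mul, mul_assoc],
          hM.exp _ (hsqM q hq)]; exact one_mem M)) hfour
        (fun q hq hh => absurd (hME (hsqM q hq)) hh)
      rcases hidx hq with e | e
      · exact dlt_mem g e
      · have h' := mul_mem (hdu g) (‹E.Normal›.conj_mem _ (dlt_mem (K := E) g e) u)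
        rwa [show dlt g u * (u * dlt g (u⁻¹ * q) * u⁻¹) = g * q * g⁻¹ * q⁻¹ by simp only [dlt]; group] at h'
    push Not at hfour
    obtain ⟨g, hg, hg4⟩ := hfour
    rcases hidx (h.four_mem hg).1 with e | e
    · exact hg4 e
    obtain ⟨k, hk, hkπ⟩ := h.onto e3
    have hact : g ^ 4 * k * (g ^ 4)⁻¹ = k⁻¹ := by
      rw [show g ^ 4 * k * (g ^ 4)⁻¹ = u * ((u⁻¹ * g ^ 4) * k * (u⁻¹ * g ^ 4)⁻¹) * u⁻¹ by group,
        hEc _ e k hk, mul_inv_cancel_right, hflip k hk]
    rw [conj_four E hEc h4E g hk] at hact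
    have hk1 := dlt_mem (K := E) g hk
    have hk2 := dlt_mem (K := E) g hk1
    have hr : dlt g (dlt g (dlt g k)) ∈ M := h.mem_of_pi (dlt_mem g hk2) (by
      rw [h.pi_dlt hg hk2, h.pi_dlt hg hk1, h.pi_dlt hg hk, hkπ]; decide)
    obtain ⟨j, hj, hje⟩ := hroot _ hr
    rw [← hje, dlt_sq hEc g hj, hσ _ hk2, hσ _ (dlt_mem g hj)] at hact
    have hsum : σ (π k + π (dlt g (dlt g k)) + π (dlt g j)) = 1 := by
      rw [hσadd, hσadd, ← hσ k hk]
      have e' := congrArg (k * ·) hact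
      simp only [mul_inv_cancel] at e'
      rw [← e']; simp only [mul_assoc]
    have := congrFun (hσ1 _ hsum) 2
    rw [h.pi_dlt hg hk1, h.pi_dlt hg hk, hkπ, h.pi_dlt hg hj] at this
    have key : ∀ a b : ZMod 2,
        (e3 + (((e3 : V3) 1 • e1 + (e3 : V3) 2 • e2) 1 • e1 + ((e3 : V3) 1 • e1 + (e3 : V3) 2 • e2) 2 • e2) +
          (a • e1 + b • e2)) 2 ≠ (0 : V3) 2 := by decide +kernel
    exact key _ _ this

theorem Setup.no_128 (S : Setup X Q) {M : Subgroup X} [M.Normal] (hM : Eight Q M) (hSM : Sq Q = M)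
    (hQ : Nat.card Q = 128) (hnocen : ∀ u ∈ Q, u * u = 1 → (∀ g : X, g * u = u * g) → u ∈ M) : False := by
  subst hSM
  set M := Sq Q
  have hpos : ∀ v : V3, v + v = 0 := fun v => by ext i; exact CharTwo.add_self_eq_zero _
  have hsqM : ∀ q ∈ Q, q * q ∈ M := fun q hq => mul_self_mem_Sq hq
  have h1 : ∀ x : X, QuotientGroup.mk' M x = 1 ↔ x ∈ M := fun x => QuotientGroup.eq_one_iff x
  have hmk := comm_of_sq (V := Q.map (QuotientGroup.mk' M)) (by
    rintro _ ⟨q, hq, rfl⟩; rw [← map_mul, h1]; exact hsqM q hq)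
  have hcomm : ∀ a ∈ Q, ∀ b ∈ Q, a * b * a⁻¹ * b⁻¹ ∈ M := fun a ha b hb => (h1 _).1 (by
    rw [map_mul, map_mul, map_mul, map_inv, map_inv, hmk _ (mem_map_of_mem _ ha) _ (mem_map_of_mem _ hb),
      mul_inv_cancel_right, mul_inv_cancel])
  rcases S.top_section with ⟨hc, -⟩ | ⟨-, ⟨E, hEn, ρ, π, h, hcard⟩ | ⟨u, hu, huM, hcen, B, hBn, hMB, huB, hBb, ρ, π, h⟩⟩
  · rw [hM.card] at hc; omega
  · exact S.no_128_sub hM hsqM hcomm hQ hnocen h hcard
  -- a fixed element modulo `M`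
  by_cases hsplit : ∃ g k : X, ρ g = matJ ∧ k ∈ Q ∧ π k = e1 ∧ g * k * g⁻¹ * k⁻¹ ∈ M
  · obtain ⟨g, k, hg, hk, hkπ, hgk⟩ := hsplit
    obtain ⟨E, hEn, -, -, -, hm, hcard⟩ := h.split hMB huB huM hBb hsqM hcen hcomm hg hk hkπ hgk
    exact S.no_128_sub hM hsqM hcomm hQ hnocen hm hcard
  push Not at hsplit
  have hu2 : u * u = 1 := hM.fix _ (hsqM u hu) fun g => by
    have hd := hcen g
    rw [← mul_inv_eq_iff_eq_mul]
    calc g * (u * u) * g⁻¹ = (g * u * g⁻¹ * u⁻¹) * u * (g * u * g⁻¹ * u⁻¹ * u) := by group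
      _ = (g * u * g⁻¹ * u⁻¹) * (u * (g * u * g⁻¹ * u⁻¹)) * u := by group
      _ = (g * u * g⁻¹ * u⁻¹) * (g * u * g⁻¹ * u⁻¹) * (u * u) := by rw [hM.cen u hu _ hd]; group
      _ = u * u := by rw [hM.exp _ hd, one_mul]
  have hBdec : ∀ b ∈ B, ∃ m ∈ M, b = m ∨ b = u * m := by
    intro b hb
    rcases hBb b hb with e | e
    · exact ⟨b, e, Or.inl rfl⟩
    · exact ⟨_, e, Or.inr (mul_inv_cancel_left u b).symm⟩
  have hBu : ∀ b ∈ B, b * u = u * b := by
    intro b hb
    obtain ⟨m, hm, rfl | rfl⟩ := hBdec b hb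
    · exact (hM.cen u hu _ hm).symm
    · calc u * m * u = u * (m * u) := by group
        _ = u * (u * m) := by rw [← hM.cen u hu m hm]
  have hinv : ∀ g : X, ∀ b ∈ Q, b * (g * u * g⁻¹) * b⁻¹ * (g * u * g⁻¹)⁻¹ = b * u * b⁻¹ * u⁻¹ := by
    intro g b hb
    have hd := hM.cen b hb _ (hcen g)
    calc b * (g * u * g⁻¹) * b⁻¹ * (g * u * g⁻¹)⁻¹
        = b * (g * u * g⁻¹ * u⁻¹) * u * b⁻¹ * u⁻¹ * (g * u * g⁻¹ * u⁻¹)⁻¹ := by group
      _ = g * u * g⁻¹ * u⁻¹ * (b * u * b⁻¹ * u⁻¹) * (g * u * g⁻¹ * u⁻¹)⁻¹ := by rw [hd]; group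
      _ = b * u * b⁻¹ * u⁻¹ := by
        rw [hM.comm _ (hcen g) _ (hcomm b hb u hu), mul_inv_cancel_right]
  obtain ⟨g, hg⟩ := h.surj matJ dets.1
  obtain ⟨k, hk, hkπ⟩ := h.onto e1
  have hgkB : g * k * g⁻¹ * k⁻¹ ∈ B := h.mem_of_pi (mul_mem (hQn.conj_mem k hk g) (inv_mem hk)) (by
    rw [h.add _ (hQn.conj_mem k hk g) _ (inv_mem hk), h.pi_inv hk, h.conj g k hk, hg, hkπ, act.1, hpos])
  obtain ⟨m0, hm0, hgk⟩ : ∃ m0 ∈ M, g * k * g⁻¹ * k⁻¹ = u * m0 := by
    rcases hBb _ hgkB with e | e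
    · exact absurd e (hsplit g k hg hk hkπ)
    · exact ⟨_, e, (mul_inv_cancel_left u _).symm⟩
  rcases h.commutator_section hM (fun b hb => hcomm b hb u hu) hBu hinv with hcenu |
    ⟨φ, hφ, -, hφ0, hφ1, hφs, hφc⟩
  · have hB1 : ∀ b ∈ B, b * b = 1 := by
      intro b hb
      obtain ⟨m, hm, rfl | rfl⟩ := hBdec b hb
      · exact hM.exp _ hm
      · rw [(show Commute m u from (hM.cen u hu m hm).symm).mul_mul_mul_comm, hu2, hM.exp m hm, one_mul]
    have hBc : ∀ a ∈ B, ∀ b ∈ Q, a * b = b * a := by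
      intro a ha b hb
      obtain ⟨m, hm, rfl | rfl⟩ := hBdec a ha
      · exact (hM.cen b hb _ hm).symm
      · exact ((show Commute b u from hcenu b hb).mul_right (hM.cen b hb m hm)).symm.eq
    obtain ⟨σ, hσ, hσM, hσadd, hσ1, hσs, hσc, hab, hQ1⟩ := h.square_section hM hB1 hBc hsqM (by
      by_contra! hh
      have hle := SecFour.rank_bound S.rank Q ⊥ bot_le (fun k _ n hn => by rw [mem_bot] at hn; simp [hn])
        (fun k hk => mem_bot.2 (hh k hk))
      simp only [card_bot, mul_one] at hle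
      omega)
    have hnf : ∀ a ∈ M, dlt g (u * a) ≠ 1 := fun a' ha' => hM.no_fixed S h (fun q hq => hab q hq u hu) hcen (fun a ha hh => huM (by
      have h1 := hnocen _ (mul_mem hu (hM.le ha)) (by
        rw [(show Commute a u from hab a (hM.le ha) u hu).mul_mul_mul_comm, hu2, hM.exp a ha, one_mul]) hh
      have := mul_mem h1 (inv_mem ha)
      rwa [mul_inv_cancel_right] at this)) hg ha'
    set f := dlt g u with hf
    obtain ⟨v, hv⟩ := hσs f (hcen g)
    have hv2 : v 2 = 1 := by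
      by_contra hh
      obtain ⟨m, hm, hme⟩ := h.shift_square hab hsqM σ hσ hg (not_one hh)
      refine hnf m hm ?_
      rw [dlt_mul hab g hu (hM.le hm), hme, hv]
      exact hM.exp _ (hcen g)
    obtain ⟨y, hy, hyπ⟩ := h.onto v
    obtain ⟨j, hj, hje⟩ := h.root σ hσ hσs m0 hm0
    have hyy : y * y = f := by rw [hσ y hy, hyπ, hv]
    have hdk : dlt g k = u * (j * j) := by rw [hje]; exact hgk
    have e := conj_four Q hab (fun q hq => hM.exp _ (hsqM q hq)) g hk
    rw [hab _ (h.four_mem hg).1 k hk, mul_inv_cancel_right, hdk,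
      dlt_mul hab g hu (mul_mem hj hj), dlt_sq hab g hj, ← hf, ← hyy] at e
    have hjd := dlt_mem (K := Q) g hj
    have hfM : y * y * (dlt g j * dlt g j) ∈ M := mul_mem (hsqM y hy) (hsqM _ hjd)
    rw [hM.exp _ hfM, mul_one] at e
    have eK := left_eq_mul.1 e
    have hy1 := dlt_mem (K := Q) g hy
    have hy2 := dlt_mem (K := Q) g hy1
    have hj2 := dlt_mem (K := Q) g hjd
    have hj3 := dlt_mem (K := Q) g hj2
    rw [dlt_mul hab g (mul_mem hy hy) (mul_mem hjd hjd), dlt_sq hab g hy, dlt_sq hab g hjd,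
      dlt_mul hab g (mul_mem hy1 hy1) (mul_mem hj2 hj2), dlt_sq hab g hy1, dlt_sq hab g hj2] at eK
    have hzero : dlt g (dlt g (dlt g j)) * dlt g (dlt g (dlt g j)) = 1 := (hQ1 _ hj3).2 (h.mem_of_pi hj3 (by
      rw [h.pi_dlt hg hj2, h.pi_dlt hg hjd, h.pi_dlt hg hj]
      have key : ∀ v : V3,
          (((v 1 • e1 + v 2 • e2 : V3) 1) • e1 + ((v 1 • e1 + v 2 • e2 : V3) 2) • e2 : V3) 1 • e1 +
          ((((v 1 • e1 + v 2 • e2 : V3) 1) • e1 + ((v 1 • e1 + v 2 • e2 : V3) 2) • e2 : V3) 2) • e2 = (0 : V3) := by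
        decide +kernel
      exact key _))
    rw [hzero, mul_one, hσ _ hy2, h.pi_dlt hg hy1, h.pi_dlt hg hy, hyπ, top_coord v hv2] at eK
    exact absurd (hσ1 _ eK) (by decide)
  · -- a bijective commutator with `u`
    have hfix : ∀ x : X, (ρ x).mulVec e1 = e1 → x * x * (k * k) * (x * x)⁻¹ = k * k := by
      intro x hx
      have hxk : k⁻¹ * (x * k * x⁻¹) ∈ B := by
        refine (h.pi_eq hk (hQn.conj_mem k hk x)).1 ?_
        rw [h.conj x k hk, hkπ, hx]
      set b := k⁻¹ * (x * k * x⁻¹) with hb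
      have hbb : b * (x * b * x⁻¹) ∈ M := by
        obtain ⟨m, hm, e | e⟩ := hBdec b hxk
        · rw [e]; exact mul_mem hm (‹M.Normal›.conj_mem m hm x)
        · rw [e]
          have := mul_mem (mul_mem hm (hcen x)) (‹M.Normal›.conj_mem m hm x)
          have hc1 := hM.cen u hu _ (mul_mem hm (hcen x))
          rwa [show u * m * (x * (u * m) * x⁻¹) = u * (m * (x * u * x⁻¹ * u⁻¹)) * u * (x * m * x⁻¹) by group,
            hc1, mul_assoc (m * (x * u * x⁻¹ * u⁻¹)) u u, hu2, mul_one]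
      have e : x * x * k * (x * x)⁻¹ = k * (b * (x * b * x⁻¹)) := by rw [hb]; group
      set m := b * (x * b * x⁻¹)
      calc x * x * (k * k) * (x * x)⁻¹ = (x * x * k * (x * x)⁻¹) * (x * x * k * (x * x)⁻¹) := by
            generalize x * x = w; group
        _ = k * k * (m * m) := by
            rw [e, (show Commute m k from (hM.cen k hk m hbb).symm).mul_mul_mul_comm]
        _ = k * k := by rw [hM.exp m hbb, mul_one]
    obtain ⟨W, hW⟩ := h.surj (matP * matJ * matP)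
      (by rw [Matrix.det_mul, Matrix.det_mul, dets.1, dets.2.2.1]; rfl)
    obtain ⟨v, hv⟩ := hφs _ (hsqM k hk)
    have hφinj : ∀ a ∈ Q, ∀ w, a * u * a⁻¹ * u⁻¹ = φ w → π a = w := by
      intro a ha w e
      obtain ⟨b, hb, hbw⟩ := h.onto w
      rw [← hbw] at e ⊢
      rw [← hφ b hb] at e
      refine (h.pi_eq ha hb).2 ?_
      have hd : b⁻¹ * a ∈ Q := mul_mem (inv_mem hb) ha
      have h' : π (b⁻¹ * a) = 0 := by
        refine hφ1 _ ?_
        rw [← hφ _ hd]
        calc b⁻¹ * a * u * (b⁻¹ * a)⁻¹ * u⁻¹ = b⁻¹ * ((a * u * a⁻¹ * u⁻¹) * (u * b)) * u⁻¹ := by group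
          _ = 1 := by rw [e]; group
      have := inv_mem (h.mem_of_pi hd h')
      rwa [mul_inv_rev, inv_inv] at this
    have hfv : ∀ x : X, (ρ x).mulVec e1 = e1 → (ρ (x * x)).mulVec v = v := by
      intro x hx
      have e : φ ((ρ (x * x)).mulVec v) = φ v := by rw [← hφc, hv, hfix x hx]
      obtain ⟨a, ha, haπ⟩ := h.onto ((ρ (x * x)).mulVec v)
      rw [← haπ] at e ⊢
      exact hφinj a ha v ((hφ a ha).trans e)
    have hv01 := fixed_two v (by
        have := hfv g (by rw [hg]; exact act.1)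
        rwa [map_mul, hg, ← Matrix.mulVec_mulVec] at this) (by
        have := hfv W (by rw [hW]; exact act.2.2.2)
        rwa [map_mul, hW, rel.2.2.2.1] at this)
    have hgfix : g * (k * k) * g⁻¹ = k * k := by
      rw [← hv, hφc, hg]
      rcases hv01 with rfl | rfl
      · rw [Matrix.mulVec_zero]
      · rw [act.1]
    have hg2 : g * k * g⁻¹ = u * k * m0 := by
      calc g * k * g⁻¹ = g * k * g⁻¹ * k⁻¹ * k := by group
        _ = u * (m0 * k) := by rw [hgk]; group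
        _ = u * (k * m0) := by rw [hM.cen k hk m0 hm0]
        _ = u * k * m0 := by group
    have huk : u * k * (u * k) = k * k := by
      rw [← hgfix, show g * (k * k) * g⁻¹ = g * k * g⁻¹ * (g * k * g⁻¹) by group, hg2,
        (show Commute m0 (u * k) from (hM.cen _ (mul_mem hu hk) m0 hm0).symm).mul_mul_mul_comm, hM.exp m0 hm0, mul_one]
    have hui : u⁻¹ = u := inv_eq_of_mul_eq_one_right hu2
    have e : k * u * k⁻¹ * u⁻¹ = 1 := by
      calc k * u * k⁻¹ * u⁻¹ = u⁻¹ * (u * k * (u * k)) * k⁻¹ * k⁻¹ * u⁻¹ := by group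
        _ = u⁻¹ * u⁻¹ := by rw [huk]; group
        _ = 1 := by rw [hui, hu2]
    rw [hφ k hk, hkπ] at e
    exact absurd (hφ1 _ e) (by decide)

end Cfsg.Agent.LinRad
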