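import Cfsg.Agent.LinRad.Shift
import Cfsg.Agent.LinRad.RankV

/-!
No radical of order sixty-four with an element of order eight.
-/

set_option autoImplicit false
set_option maxHeartbeats 800000
set_option linter.unusedSectionVars false
set_option linter.style.haveILetI false

namespace Cfsg.Agent.LinRad

open Subgroup

variable {X : Type*} [Group X] [Finite X] {Q : Subgroup X} [hQn : Q.Normal]

omit [Finite X] hQn in
theorem Sq_central {M : Subgroup X} (hM : ∀ m ∈ M, m * m = 1) (hMc : ∀ q ∈ Q, ∀ m ∈ M, q * m = m * q)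
    (hcomm : ∀ a ∈ Q, ∀ b ∈ Q, a * b * a⁻¹ * b⁻¹ ∈ M) : ∀ a ∈ Sq Q, ∀ b ∈ Q, a * b = b * a := by
  intro a ha b hb
  have hle : Sq Q ≤ centralizer (Q : Set X) := Sq_le fun q hq => mem_centralizer_iff.2 fun y hy => by
    have hc := hcomm q hq y hy
    symm
    rw [← mul_inv_eq_iff_eq_mul, ← mul_inv_eq_one]
    calc q * q * y * (q * q)⁻¹ * y⁻¹ = q * (q * y * q⁻¹ * y⁻¹) * q⁻¹ * (q * y * q⁻¹ * y⁻¹) := by
          group
      _ = 1 := by rw [hMc q hq _ hc, mul_inv_cancel_right, hM _ hc]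
  exact (mem_centralizer_iff.1 (hle ha) b hb).symm

theorem Setup.no_sixty_four (S : Setup X Q) {M : Subgroup X} [M.Normal] (hM : Nat.card M = 2) (hMP : M ≤ Sq Q)
    (hQ : Nat.card Q = 64) (hP : Nat.card (Sq Q) = 4) (hcomm : ∀ a ∈ Q, ∀ b ∈ Q, a * b * a⁻¹ * b⁻¹ ∈ M)
    (hq4 : ∀ q ∈ Q, q ^ 4 ∈ M) : False := by
  classical
  set P := Sq Q with hPdef
  have hMc := central_of_two hM
  obtain ⟨z, hzM, hz1, hMall⟩ := card_two_elim hM
  have hM2 : ∀ m ∈ M, m * m = 1 := fun m hm => by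
    have := pow_card_eq_one' (x := (⟨m, hm⟩ : M))
    rw [hM, pow_two] at this
    exact congrArg Subtype.val this
  have hab := S.abelian hM hcomm (Sq_central hM2 (fun q _ m hm => hMc q m hm) hcomm)
  have hsqm : ∀ a ∈ Q, ∀ b ∈ Q, a * b * (a * b) = a * a * (b * b) := fun a ha b hb =>
    (show Commute b a from hab b hb a ha).mul_mul_mul_comm _ _
  obtain ⟨c, h7, hcQ⟩ := S.exists_seven
  obtain ⟨q0, hq0, hq0c⟩ := S.nc c h7 hcQ
  -- the squaring map
  let D : Subgroup X :=
    { carrier := {x | x ∈ Q ∧ x * x = 1}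
      one_mem' := ⟨one_mem Q, one_mul 1⟩
      mul_mem' := fun {a b} ha hb => ⟨mul_mem ha.1 hb.1, by rw [hsqm a ha.1 b hb.1, ha.2, hb.2, one_mul]⟩
      inv_mem' := fun {a} ha => ⟨inv_mem ha.1, by rw [← mul_inv_rev, ha.2, inv_one]⟩ }
  haveI hDn : D.Normal := ⟨fun x hx g => ⟨hQn.conj_mem x hx.1 g, by
    rw [show g * x * g⁻¹ * (g * x * g⁻¹) = g * (x * x) * g⁻¹ by group, hx.2]; group⟩⟩
  let sq : ↥Q →* X := MonoidHom.mk' (fun q => (q : X) * q) fun a b => hsqm _ a.2 _ b.2
  have hker : sq.ker = D.subgroupOf Q := by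
    ext q
    rw [MonoidHom.mem_ker, mem_subgroupOf]
    exact ⟨fun e => ⟨q.2, e⟩, fun e => e.2⟩
  have hran : sq.range = P := by
    refine le_antisymm ?_ (Sq_le fun q hq => ⟨⟨q, hq⟩, rfl⟩)
    rintro _ ⟨q, rfl⟩
    exact mul_self_mem_Sq q.2
  have hroot : ∀ p ∈ P, ∃ q ∈ Q, q * q = p := by
    intro p hp
    rw [← hran] at hp
    obtain ⟨q, rfl⟩ := hp
    exact ⟨q, q.2, rfl⟩
  have hD16 : Nat.card D = 16 := by
    have e := sq.ker.card_mul_index
    rw [index_ker, hran, hP, hQ, hker, Nat.card_congr (subgroupOfEquivOfLe (show D ≤ Q from fun x hx => hx.1)).toEquiv] at e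
    omega
  have hDc := comm_of_sq (V := D) fun v hv => hv.2
  have hcP : ∀ (K : Subgroup X) [K.Normal], Nat.card K ≤ 4 → K ≤ Q → ∀ p ∈ K, c * p = p * c := by
    intro K _ hK4 hKQ
    haveI : Fact (Nat.Prime 7) := ⟨by norm_num⟩
    set C := K ⊓ centralizer {c}
    have hfix : Nat.card K ≡ Nat.card C [MOD 7] := by
      refine Nat.ModEq.symm (Nat.ModEq.trans ?_ (SecFour.fixed_modEq h7 (K : Set X) fun x hx => ‹K.Normal›.conj_mem x hx c))
      exact congrArg (· % 7) (Nat.card_congr (Equiv.subtypeEquivRight fun x => by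
        simp only [C, mem_inf, mem_centralizer_singleton_iff, eq_comm, SetLike.mem_coe]))
    have hle : Nat.card C ≤ Nat.card K := Nat.card_le_card_of_injective _ (inclusion_injective inf_le_left)
    have heq : Nat.card C = Nat.card K := by
      have : Nat.card K % 7 = Nat.card C % 7 := hfix
      omega
    intro p hp
    have hCK : C = K := eq_of_le_of_card_ge inf_le_left heq.ge
    have hpC : p ∈ C := by rw [hCK]; exact hp
    exact (mem_centralizer_singleton_iff.1 hpC.2).symm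
  have hcPf := hcP P hP.le (Sq_le_self Q)
  -- the element of order seven moves `D`
  have hmoveD : ∃ v ∈ D, c * v ≠ v * c := by
    by_contra! hh
    refine hq0c (fixed_of_step S.two (d := q0⁻¹ * (c * q0 * c⁻¹)) h7 ?_ (hh _ ?_) (mul_inv_cancel_left _ _).symm)
    · exact mul_mem (inv_mem hq0) (hQn.conj_mem q0 hq0 c)
    · refine ⟨mul_mem (inv_mem hq0) (hQn.conj_mem q0 hq0 c), ?_⟩
      rw [hsqm _ (inv_mem hq0) _ (hQn.conj_mem q0 hq0 c), show c * q0 * c⁻¹ * (c * q0 * c⁻¹) = c * (q0 * q0) * c⁻¹ by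
        group, hcPf _ (mul_self_mem_Sq hq0)]
      group
  obtain ⟨u, hu, hu4⟩ : ∃ u ∈ Q, u * u * (u * u) ≠ 1 := by
    by_contra! hh
    rcases S.elementary h7 (V := D) (fun x hx => hx.1) (fun v hv => hv.2) (fun q hq v hv => hab q hq v hv.1) hmoveD
      with ⟨h8, -⟩ | ⟨-, u, -, -, -, huniq, -⟩
    · omega
    · have hPD : P ≤ D := fun p hp => by
        obtain ⟨q, hq, rfl⟩ := hroot p hp
        exact ⟨mul_mem hq hq, hh q hq⟩
      let f : P → Bool := fun p => decide ((p : X) = 1)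
      have := Nat.card_le_card_of_injective f (by
        intro a b e
        rcases huniq a (hPD a.2) (hcPf a a.2) with ea | ea <;> rcases huniq b (hPD b.2) (hcPf b b.2) with eb | eb <;>
          refine Subtype.ext ?_ <;> simp only [f, ea, eb] at e ⊢ <;> simp_all)
      rw [hP, Nat.card_eq_fintype_card (α := Bool), Fintype.card_bool] at this
      omega
  have hu2P : u * u ∈ P := mul_self_mem_Sq hu
  have hzu : u ^ 4 = z := by
    refine (hMall _ (hq4 u hu)).resolve_left fun e => hu4 ?_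
    rw [← e]; simp only [pow_succ, pow_zero, one_mul, mul_assoc]
  have ho : orderOf (u * u) = 4 := by
    refine orderOf_eq_prime_pow (p := 2) (n := 1) ?_ ?_
    · rw [pow_one, pow_two]; exact hu4
    · rw [show (2 : ℕ) ^ (1 + 1) = 2 + 2 from rfl, pow_add, pow_two, ← hM2 z hzM, ← hzu]
      simp only [pow_succ, pow_zero, one_mul, mul_assoc]
  have hPz : ∀ p ∈ P, ∃ i < 4, (u * u) ^ i = p := by
    have he : zpowers (u * u) = P := eq_of_le_of_card_ge (zpowers_le.2 hu2P) (by rw [Nat.card_zpowers, ho, hP])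
    intro p hp
    rw [← he] at hp
    obtain ⟨n, rfl⟩ := mem_powers_iff_mem_zpowers.2 hp
    exact ⟨n % 4, Nat.mod_lt _ (by norm_num), by rw [← ho]; exact pow_mod_orderOf _ _⟩
  have hPfix : ∀ g : X, g * (u * u) = u * u * g := by
    let R : Subgroup X := centralizer {u * u}
    have hR : ∀ g, g ∈ R ↔ g * (u * u) = u * u * g := fun g => mem_centralizer_singleton_iff
    have hQR : Q ≤ R := fun q hq => (hR q).2 (hab q hq _ (mul_mem hu hu))
    intro g
    refine (hR g).1 (S.sq_top R hQR (fun g => (hR _).2 ?_) g)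
    obtain ⟨i, hi, e⟩ := hPz _ ((Sq_normal Q).conj_mem _ hu2P g)
    have h4' : (u * u) ^ 4 = 1 := ho ▸ pow_orderOf_eq_one _
    have hgg : g * g * (u * u) * (g * g)⁻¹ = (u * u) ^ (i * i) := by
      calc g * g * (u * u) * (g * g)⁻¹ = g * (g * (u * u) * g⁻¹) * g⁻¹ := by group
        _ = (g * (u * u) * g⁻¹) ^ i := by rw [conj_pow, e]
        _ = _ := by rw [← e, ← pow_mul]
    have hodd : i * i % 4 = 1 := by
      have hne : i ≠ 0 ∧ i ≠ 2 := by
        constructor <;> rintro rfl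
        · rw [pow_zero, eq_comm, mul_inv_eq_one, mul_eq_left] at e
          exact hu4 (by rw [e, one_mul])
        · have e' : (g * (u * u) * g⁻¹) ^ 2 = 1 := by rw [← e, ← pow_mul, show 2 * 2 = 4 from rfl, h4']
          rw [conj_pow, mul_inv_eq_one, mul_eq_left, pow_two] at e'
          exact hu4 e'
      interval_cases i <;> first | rfl | exact absurd rfl hne.1 | exact absurd rfl hne.2
    rw [pow_eq_pow_mod _ h4', hodd, pow_one] at hgg
    exact mul_inv_eq_iff_eq_mul.1 hgg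
  have hdec : ∀ q ∈ Q, ∃ i < 4, (u ^ i)⁻¹ * q ∈ D := by
    intro q hq
    obtain ⟨i, hi, e⟩ := hPz _ (mul_self_mem_Sq hq)
    refine ⟨i, hi, mul_mem (inv_mem (pow_mem hu i)) hq, ?_⟩
    rw [hsqm _ (inv_mem (pow_mem hu i)) q hq, ← mul_inv_rev, ← e, (show Commute u u from rfl).mul_pow, inv_mul_cancel]
  have hdlt : ∀ g : X, dlt g u ∈ D := fun g => by
    refine ⟨dlt_mem g hu, ?_⟩
    rw [← dlt_sq hab g hu, dlt_eq_one]
    exact hPfix g
  -- the natural section
  have hMD : M ≤ D := fun m hm => ⟨Sq_le_self Q (hMP hm), hM2 m hm⟩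
  obtain ⟨ρ, π, hπ⟩ := S.exists_model M D hMD (fun x hx => hx.1) (by rw [hD16, hM])
    (fun b hb => by rw [hb.2]; exact one_mem M)
    (fun q hq b hb => by rw [hab q hq b hb.1, mul_inv_cancel_right, mul_inv_cancel]; exact one_mem M) (by
      obtain ⟨v, hv, hne⟩ := hmoveD
      refine ⟨c, v, hv, fun e => hne (fixed_of_step S.two h7 (Sq_le_self Q (hMP e)) (hMc c _ e) ?_)⟩
      rw [hDc v hv _ (hMD e)]; group)
  have hπdlt : ∀ (g : X), ρ g = matJ → ∀ a ∈ D, π (dlt g a) = π a 1 • e1 + π a 2 • e2 := by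
    intro g hg a ha
    show π (g * a * g⁻¹ * a⁻¹) = _
    rw [hπ.add _ (hDn.conj_mem a ha g) _ (inv_mem ha), hπ.pi_inv ha, hπ.conj g a ha, hg]
    exact diffJ _
  have hcard4 : ∀ x : X, x * x = 1 → x ∈ Q → x ∈ D := fun x hx hxQ => ⟨hxQ, hx⟩
  have hDP : ∀ x ∈ D, x ∈ P → x ∈ M := by
    intro x hx hxP
    obtain ⟨i, hi, e⟩ := hPz x hxP
    have h2 : (u * u) ^ (i * 2) = 1 := by rw [pow_mul, e, pow_two]; exact hx.2
    have hd := orderOf_dvd_of_pow_eq_one h2
    rw [ho] at hd
    interval_cases i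
    · rw [← e, pow_zero]; exact one_mem M
    · omega
    · rw [← e, pow_two, show u * u * (u * u) = u ^ 4 by simp only [pow_succ, pow_zero, one_mul, mul_assoc]]
      exact hq4 u hu
    · omega
  -- the elements centralised modulo the squares
  have key1 : ¬ ∃ e ∈ D, ∀ g : X, dlt g (u * e) ∈ M := by
    rintro ⟨e, he, hfix⟩
    set u' := u * e with hu'
    have hu'Q : u' ∈ Q := mul_mem hu he.1
    have hu'2 : u' * u' = u * u := by rw [hu', hsqm u hu e he.1, he.2, mul_one]
    haveI : P.Normal := inferInstanceAs (Sq Q).Normal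
    obtain ⟨ρ', π', hm', hρ'⟩ := hπ.quotient P (Sq_le_self Q) hDP
    set mk := QuotientGroup.mk' P with hmk
    have h1 : ∀ x, mk x = 1 ↔ x ∈ P := fun x => QuotientGroup.eq_one_iff x
    have hMb : M.map mk = ⊥ := by
      rw [eq_bot_iff]; rintro _ ⟨m, hm, rfl⟩; rw [mem_bot, h1]; exact hMP hm
    rw [hMb] at hm'
    haveI : (Q.map mk).Normal := hQn.map mk (QuotientGroup.mk'_surjective P)
    haveI : (D.map mk).Normal := hDn.map mk (QuotientGroup.mk'_surjective P)
    have S' := S.quotient P (Sq_le_self Q) fun c h7 hc => S.moves_mod_Sq h7 hc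
    have hdec' : ∀ q ∈ Q, ∃ i < 4, (u' ^ i)⁻¹ * q ∈ D := by
      intro q hq
      obtain ⟨i, hi, hd⟩ := hdec q hq
      refine ⟨i, hi, ?_⟩
      rw [hu', (show Commute u e from hab u hu e he.1).mul_pow, mul_inv_rev, mul_assoc]
      exact mul_mem (inv_mem (pow_mem he i)) hd
    refine S'.rank_five_elementary (D.map mk) hm' ?_ ?_ ?_ (mk u') (mem_map_of_mem mk hu'Q) ?_ ?_ ?_
    · rintro y _ ⟨q, hq, rfl⟩
      obtain ⟨g, rfl⟩ := QuotientGroup.mk'_surjective P y
      rw [← map_inv, ← map_inv, ← map_mul, ← map_mul, ← map_mul]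
      refine mem_map_of_mem mk ?_
      obtain ⟨i, -, hd⟩ := hdec' q hq
      have e' : g * q * g⁻¹ * q⁻¹ = dlt g (u' ^ i) * dlt g ((u' ^ i)⁻¹ * q) := by
        rw [← dlt_mul hab g (pow_mem hu'Q i) (mul_mem (inv_mem (pow_mem hu'Q i)) hq), mul_inv_cancel_left]; rfl
      rw [e']
      refine mul_mem (hMD ?_) (dlt_mem g hd)
      clear hd e'
      induction i with
      | zero => rw [pow_zero, dlt_one]; exact one_mem M
      | succ n ih => rw [pow_succ, dlt_mul hab g (pow_mem hu'Q n) hu'Q]; exact mul_mem ih (hfix g)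
    · rintro _ ⟨q, hq, rfl⟩
      rw [← map_pow]
      exact mem_map_of_mem mk (hMD (hq4 q hq))
    · intro y hy
      obtain ⟨g, rfl⟩ := QuotientGroup.mk'_surjective P y
      rw [hρ'] at hy
      have hg4 : g ^ 4 ∈ Q := (hπ.ker _).1 (by
        rw [map_pow, hy, show (4 : ℕ) = 2 + 2 from rfl, pow_add, pow_two]; exact rel.2.1)
      have hcenD : ∀ g : X, ∀ q ∈ Q, g * q * g⁻¹ * q⁻¹ ∈ D := by
        intro g q hq
        obtain ⟨i, -, hd⟩ := hdec q hq
        have e' : g * q * g⁻¹ * q⁻¹ = dlt g (u ^ i) * dlt g ((u ^ i)⁻¹ * q) := by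
          rw [← dlt_mul hab g (pow_mem hu i) (mul_mem (inv_mem (pow_mem hu i)) hq), mul_inv_cancel_left]; rfl
        rw [e']
        refine mul_mem ?_ (dlt_mem g hd)
        clear hd e'
        induction i with
        | zero => rw [pow_zero, dlt_one]; exact one_mem D
        | succ n ih => rw [pow_succ, dlt_mul hab g (pow_mem hu n) hu]; exact mul_mem ih (hdlt g)
      have h8 := hπ.fourth_sq D hcenD (fun q hq => ?_) hy
      · obtain ⟨i, hi, hd⟩ := hdec' _ hg4
        have hgD : g ^ 4 * g ^ 4 * (g ^ 4 * g ^ 4) = 1 := h8.2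
        rw [← map_pow]
        rw [show g ^ 4 = u' ^ i * ((u' ^ i)⁻¹ * g ^ 4) by group] at hgD ⊢
        rw [map_mul]
        generalize (u' ^ i)⁻¹ * g ^ 4 = d at hd hgD
        have e' : (u' * u' * (u' * u')) ^ i = 1 := by
          rw [hsqm _ (pow_mem hu'Q i) d hd.1, hd.2, mul_one] at hgD
          rw [← hgD, (show Commute (u' * u') (u' * u') from rfl).mul_pow, (show Commute u' u' from rfl).mul_pow]
        refine mul_mem ?_ (mem_map_of_mem mk hd)
        rw [hu'2] at e'
        have hi2 : i = 0 ∨ i = 2 := by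
          rw [show (u * u * (u * u)) ^ i = (u * u) ^ (2 * i) by rw [pow_mul, pow_two]] at e'
          have := orderOf_dvd_of_pow_eq_one e'
          rw [ho] at this
          omega
        rcases hi2 with rfl | rfl
        · rw [pow_zero, map_one]; exact one_mem _
        · rw [pow_two, hu'2, (h1 _).2 hu2P]; exact one_mem _
      · refine ⟨pow_mem hq 8, ?_⟩
        calc q ^ 8 * q ^ 8 = (q ^ 4 * q ^ 4) * (q ^ 4 * q ^ 4) := by simp only [← pow_add]
          _ = 1 := by rw [hM2 _ (hq4 q hq), one_mul]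
    · rintro ⟨d, hd, e'⟩
      have hP' : d⁻¹ * u' ∈ P := QuotientGroup.eq.1 (show (d : X ⧸ P) = u' from e')
      obtain ⟨i, hi, e''⟩ := hPz _ hP'
      have e3 : u' = d * (u * u) ^ i := by rw [e'', mul_inv_cancel_left]
      have e4 : u * u = (u * u) ^ (i * 2) := by
        calc u * u = u' * u' := hu'2.symm
          _ = (d * (u * u) ^ i) * (d * (u * u) ^ i) := by rw [← e3]
          _ = _ := by rw [hsqm d hd.1 _ (pow_mem (mul_mem hu hu) i), hd.2, one_mul, pow_mul, pow_two]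
      have hd' : orderOf (u * u) ∣ i * 2 + 3 := by
        refine orderOf_dvd_of_pow_eq_one ?_
        rw [pow_add, ← e4, ← pow_succ']
        rw [show 3 + 1 = orderOf (u * u) from ho.symm]
        exact pow_orderOf_eq_one _
      rw [ho] at hd'
      omega
    · rw [← map_mul, h1, hu'2]; exact hu2P
    · intro y
      obtain ⟨g, rfl⟩ := QuotientGroup.mk'_surjective P y
      have e' := (h1 _).2 (hMP (hfix g))
      show mk g * mk u' = mk u' * mk g
      rw [show dlt g u' = g * u' * g⁻¹ * u'⁻¹ from rfl, map_mul, map_mul, map_mul, map_inv, map_inv, mul_inv_eq_one,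
        mul_inv_eq_iff_eq_mul] at e'
      exact e'
  -- no element of order four fixes `u` modulo the squares
  have hne : ∀ g : X, ρ g = matJ → ∀ e ∈ D, dlt g (u * e) ∉ M := by
    haveI : P.Normal := inferInstanceAs (Sq Q).Normal
    set mk := QuotientGroup.mk' P with hmk
    have h1 : ∀ x, mk x = 1 ↔ x ∈ P := fun x => QuotientGroup.eq_one_iff x
    haveI : (Q.map mk).Normal := hQn.map mk (QuotientGroup.mk'_surjective P)
    haveI : (D.map mk).Normal := hDn.map mk (QuotientGroup.mk'_surjective P)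
    have S' := S.quotient P (Sq_le_self Q) fun c h7 hc => S.moves_mod_Sq h7 hc
    have hc7 : mk c ^ 7 = 1 := by rw [← map_pow, h7, map_one]
    have hV8 : Nat.card (D.map mk) = 8 := by
      have hker : (mk.comp D.subtype).ker = M.subgroupOf D := by
        ext b
        rw [MonoidHom.mem_ker, mem_subgroupOf]
        show mk (b : X) = 1 ↔ _
        rw [h1]
        exact ⟨fun e => hDP _ b.2 e, fun e => hMP e⟩
      have e := (mk.comp D.subtype).ker.card_mul_index
      rw [index_ker, hker, Nat.card_congr (subgroupOfEquivOfLe hMD).toEquiv, MonoidHom.range_comp, range_subtype,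
        hM, hD16] at e
      omega
    have hV1 : ∀ m ∈ D.map mk, mk c * m = m * mk c → m = 1 := by
      rintro _ ⟨d, hd, rfl⟩ e
      have hd' : dlt c d ∈ M := hDP _ (dlt_mem c hd) ((h1 _).1 (by
        rw [show dlt c d = c * d * c⁻¹ * d⁻¹ from rfl, map_mul, map_mul, map_mul, map_inv, map_inv, e,
          mul_inv_cancel_right, mul_inv_cancel]))
      have hcd : c * d = d * c := fixed_of_step S.two h7 (Sq_le_self Q (hMP hd')) (hMc c _ hd')
        (by rw [hDc d hd _ (hMD hd')]; simp [dlt, mul_assoc])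
      have h0 : π d = 0 := by
        have e' := hπ.conj c d hd
        rw [show c * d * c⁻¹ = d by rw [hcd, mul_inv_cancel_right]] at e'
        have hρc : ρ c ^ 7 = 1 ∧ ρ c ≠ 1 := ⟨by rw [← map_pow, h7, map_one], fun e => hcQ ((hπ.ker c).1 e)⟩
        exact seven_fixed _ hρc.1 hρc.2 _ e'.symm
      exact (h1 d).2 (hMP (hπ.mem_of_pi hd h0))
    intro g hg e he hge
    have hu1 : ∀ y : X ⧸ P, (mk u)⁻¹ * (y * mk u * y⁻¹) ∈ D.map mk := by
      intro y
      obtain ⟨x, rfl⟩ := QuotientGroup.mk'_surjective P y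
      refine ⟨dlt x u, hdlt x, ?_⟩
      rw [show dlt x u = u⁻¹ * (x * u * x⁻¹) by rw [hab u⁻¹ (inv_mem hu) _ (hQn.conj_mem u hu x)]; rfl]
      simp only [map_mul, map_inv, mk]
    rcases S'.coset (c := mk c) hc7 hV8 hV1 hu1 (by
        rintro _ ⟨a, ha, rfl⟩ _ ⟨q, hq, rfl⟩
        rw [← map_mul, ← map_mul, ← map_mul, hab q hq _ (mul_mem hu ha.1)]) with ⟨m, ⟨a, ha, rfl⟩, hm⟩ | hm
    · refine key1 ⟨a, ha, fun x => hDP _ ?_ ((h1 _).1 ?_)⟩
      · rw [dlt_mul hab x hu ha.1]; exact mul_mem (hdlt x) (dlt_mem x ha)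
      · rw [show dlt x (u * a) = x * (u * a) * x⁻¹ * (u * a)⁻¹ from rfl, map_mul, map_mul, map_mul, map_inv, map_inv,
          map_mul mk u a, hm (mk x), mul_inv_cancel_right, mul_inv_cancel]
    · refine hm (mk g) ?_ ?_ (mk e) (mem_map_of_mem mk he) ?_
      · rw [← map_pow]
        exact mem_map_of_mem mk ((hπ.ker _).1 (by
          rw [map_pow, hg, show (4 : ℕ) = 2 + 2 from rfl, pow_add, pow_two]; exact rel.2.1))
      · rw [← map_mul]
        intro hh
        have := (hπ.ker _).2 (mem_map_mk (Sq_le_self Q) hh)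
        rw [map_mul, hg] at this
        exact rel.1 this
      · have := (h1 _).2 (hMP hge)
        rw [show dlt g (u * e) = g * (u * e) * g⁻¹ * (u * e)⁻¹ from rfl, map_mul, map_mul, map_mul, map_inv, map_inv,
          mul_inv_eq_one, mul_inv_eq_iff_eq_mul, map_mul] at this
        exact this
  -- an element of order four
  obtain ⟨g, hg⟩ := hπ.surj matJ dets.1
  set f := dlt g u with hf
  have hf3 : π f 2 = 1 := by
    by_contra hh
    have h0 : π f 2 = 0 := ((show ∀ a : ZMod 2, a = 0 ∨ a = 1 by decide) _).resolve_right hh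
    obtain ⟨e, he, heπ⟩ := hπ.onto (π f 0 • e2 + π f 1 • e3)
    refine hne g hg e he (hπ.mem_of_pi ?_ ?_)
    · rw [dlt_mul hab g hu he.1]; exact mul_mem (hdlt g) (dlt_mem g he)
    · rw [dlt_mul hab g hu he.1, hπ.add _ (hdlt g) _ (dlt_mem g he), hπdlt g hg e he, heπ]
      have key : ∀ v : V3, v 2 = 0 → v + ((v 0 • e2 + v 1 • e3) 1 • e1 + (v 0 • e2 + v 1 • e3) 2 • e2) = 0 := by
        decide +kernel
      exact key _ h0
  set k := dlt g (dlt g f) with hk
  have hkD : k ∈ D := dlt_mem g (dlt_mem g (hdlt g))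
  have hkπ : π k = e1 := by
    rw [hk, hπdlt g hg _ (dlt_mem g (hdlt g)), hπdlt g hg f (hdlt g)]
    have key : ∀ v : V3, v 2 = 1 → (v 1 • e1 + v 2 • e2) 1 • e1 + (v 1 • e1 + v 2 • e2) 2 • e2 = e1 := by
      decide +kernel
    exact key _ hf3
  have hgk : dlt g k = 1 := by
    have hg4 : g ^ 4 ∈ Q := (hπ.ker _).1 (by
      rw [map_pow, hg, show (4 : ℕ) = 2 + 2 from rfl, pow_add, pow_two]; exact rel.2.1)
    have e := conj_four D hDc (fun x hx => by rw [hx.2, one_mul]) g (k := f) (hdlt g)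
    have e' : g ^ 4 * u * (g ^ 4)⁻¹ = u := by rw [hab _ hg4 u hu, mul_inv_cancel_right]
    have e'' : g ^ 4 * u * (g ^ 4)⁻¹ = g * (g * (g * (g * u * g⁻¹) * g⁻¹) * g⁻¹) * g⁻¹ := by
      simp only [pow_succ, pow_zero, one_mul, mul_assoc, mul_inv_rev]
    have h1' : ∀ x ∈ D, g * x * g⁻¹ = x * dlt g x := fun x hx => by
      rw [hDc x hx _ (dlt_mem g hx)]; simp [dlt]
    have hfu : g * u * g⁻¹ = u * f := by
      rw [hab u hu f (hdlt g).1]; simp [hf, dlt]
    have hd1 := dlt_mem g (hdlt g) (K := D)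
    have hd2 := dlt_mem g hd1 (K := D)
    have hcj : ∀ x ∈ D, g * (u * x) * g⁻¹ = u * (f * (x * dlt g x)) := fun x hx => by
      rw [show g * (u * x) * g⁻¹ = g * u * g⁻¹ * (g * x * g⁻¹) by group, hfu, h1' x hx, mul_assoc u f]
    have e3 := e''.symm.trans e'
    have hA : g * u * g⁻¹ = u * f := hfu
    have hB : g * (g * u * g⁻¹) * g⁻¹ = u * dlt g f := by
      rw [hA, hcj f (hdlt g), ← mul_assoc f f, (hdlt g).2, one_mul]
    have hC : g * (g * (g * u * g⁻¹) * g⁻¹) * g⁻¹ = u * (f * (dlt g f * k)) := by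
      rw [hB, hcj _ hd1]
    have hD4 : g * (g * (g * (g * u * g⁻¹) * g⁻¹) * g⁻¹) * g⁻¹ = u * dlt g k := by
      rw [hC, hcj _ (mul_mem (hdlt g) (mul_mem hd1 hkD)), dlt_mul hab g (hdlt g).1 (mul_mem hd1 hkD).1,
        dlt_mul hab g hd1.1 hkD.1, ← hk]
      congr 1
      have hf2 : f * f = 1 := (hdlt g).2
      have hd2' : dlt g f * dlt g f = 1 := hd1.2
      have hk2' : k * k = 1 := hkD.2
      calc f * (f * (dlt g f * k) * (dlt g f * (k * dlt g k)))
          = (f * f) * (dlt g f * (k * dlt g f) * k * dlt g k) := by group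
        _ = (f * f) * (dlt g f * dlt g f * (k * k) * dlt g k) := by
            rw [hDc k hkD _ hd1]; simp only [hf]; group
        _ = dlt g k := by rw [hf2, hd2', hk2', one_mul, one_mul, one_mul]
    rw [hD4] at e3
    exact mul_eq_left.1 e3
  obtain ⟨E, hEn, hME, hED, hzE, hEm, -⟩ := hπ.split (A := ⊥) (u := z) bot_le hzM (fun e => hz1 (mem_bot.1 e))
    (fun b hb => (hMall b hb).imp (fun e => mem_bot.2 e) fun e => mem_bot.2 (by rw [e, inv_mul_cancel]))
    (fun d hd => mem_bot.2 hd.2)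
    (fun x => mem_bot.2 (by rw [hMc x z hzM, mul_inv_cancel_right, mul_inv_cancel]))
    (fun q hq d hd => mem_bot.2 (by rw [hab q hq d hd.1, mul_inv_cancel_right, mul_inv_cancel]))
    hg hkD hkπ (mem_bot.2 (by simpa [dlt] using hgk))
  haveI := hEn
  have hDE : ∀ d ∈ D, d ∈ E ∨ z⁻¹ * d ∈ E := by
    intro d hd
    obtain ⟨e, he, heπ⟩ := hEm.onto (π d)
    have hem : e⁻¹ * d ∈ M := (hπ.pi_eq (hED he) hd).1 heπ
    rcases hMall _ hem with e' | e'
    · left; rwa [← inv_mul_eq_one.1 e']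
    · right
      have hd' : d = e * z := by rw [← e', mul_inv_cancel_left]
      rw [hd', hMc e z hzM, inv_mul_cancel_left]
      exact he
  set mk := QuotientGroup.mk' M with hmk
  have h1 : ∀ x, mk x = 1 ↔ x ∈ M := fun x => QuotientGroup.eq_one_iff x
  obtain ⟨ρ', π', hm', hρ'⟩ := hEm.quotient M (fun m hm => Sq_le_self Q (hMP hm)) (fun b hb hbM => mem_bot.2 (by
    rcases hMall b hbM with e | e
    · exact e
    · exact absurd (e ▸ hb) hzE))
  rw [Subgroup.map_bot] at hm'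
  haveI : (Q.map mk).Normal := hQn.map mk (QuotientGroup.mk'_surjective M)
  haveI : (E.map mk).Normal := hEn.map mk (QuotientGroup.mk'_surjective M)
  have S' := S.quotient M (fun m hm => Sq_le_self Q (hMP hm)) fun c h7 hc => by
    obtain ⟨q, hq, hqn⟩ := S.moves_mod_Sq h7 hc
    exact ⟨q, hq, fun e => hqn (hMP e)⟩
  have hDmk : ∀ x ∈ D, mk x ∈ E.map mk := by
    intro x hx
    rcases hDE x hx with e | e
    · exact mem_map_of_mem mk e
    · exact ⟨z⁻¹ * x, e, by rw [map_mul, map_inv, (h1 z).2 hzM, inv_one, one_mul]⟩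
  -- modulo `E` the element `u` is centralised
  let R : Subgroup X :=
    { carrier := {x | dlt x u ∈ E}
      one_mem' := by simp [dlt]
      mul_mem' := fun {a b} ha hb => by
        show a * b * u * (a * b)⁻¹ * u⁻¹ ∈ E
        have := mul_mem (hEn.conj_mem _ hb a) ha
        rwa [show a * dlt b u * a⁻¹ * dlt a u = a * b * u * (a * b)⁻¹ * u⁻¹ by simp only [dlt]; group] at this
      inv_mem' := fun {a} ha => by
        show a⁻¹ * u * a⁻¹⁻¹ * u⁻¹ ∈ E
        have := inv_mem (hEn.conj_mem _ ha a⁻¹)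
        rwa [show (a⁻¹ * dlt a u * a⁻¹⁻¹)⁻¹ = a⁻¹ * u * a⁻¹⁻¹ * u⁻¹ by simp only [dlt]; group] at this }
  have hRall : ∀ x : X, dlt x u ∈ E := fun x => S.sq_top R (fun q hq => by
      show dlt q u ∈ E
      rw [show dlt q u = 1 from dlt_eq_one.2 (hab q hq u hu)]; exact one_mem E)
    (fun y => by
      show y * y * u * (y * y)⁻¹ * u⁻¹ ∈ E
      have e' : y * y * u * (y * y)⁻¹ * u⁻¹ = y * dlt y u * y⁻¹ * dlt y u := by simp only [dlt]; group
      rw [e']
      rcases hDE _ (hdlt y) with e | e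
      · exact mul_mem (hEn.conj_mem _ e y) e
      · have h' := mul_mem (hEn.conj_mem _ e y) e
        have hzi : z⁻¹ = z := inv_eq_of_mul_eq_one_right (hM2 z hzM)
        rw [hzi] at h'
        rwa [show y * (z * dlt y u) * y⁻¹ * (z * dlt y u) = (y * z * y⁻¹) * ((y * dlt y u * y⁻¹) * z) * dlt y u by group,
          show y * z * y⁻¹ = z by rw [hMc y z hzM, mul_inv_cancel_right], hMc (y * dlt y u * y⁻¹) z hzM,
          ← mul_assoc z z, hM2 z hzM, one_mul] at h')
    x
  have hcenE : ∀ x : X, ∀ q ∈ Q, x * q * x⁻¹ * q⁻¹ ∈ E := by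
    intro x q hq
    obtain ⟨i, -, hd⟩ := hdec q hq
    have e' : x * q * x⁻¹ * q⁻¹ = dlt x (u ^ i) * dlt x ((u ^ i)⁻¹ * q) := by
      rw [← dlt_mul hab x (pow_mem hu i) (mul_mem (inv_mem (pow_mem hu i)) hq), mul_inv_cancel_left]; rfl
    rw [e']
    refine mul_mem ?_ ?_
    · clear hd e'
      induction i with
      | zero => rw [pow_zero, dlt_one]; exact one_mem E
      | succ n ih => rw [pow_succ, dlt_mul hab x (pow_mem hu n) hu]; exact mul_mem ih (hRall x)
    · rcases hDE _ hd with e | e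
      · exact dlt_mem x e
      · have := dlt_mem (K := E) x e
        rwa [dlt_mul hab x (inv_mem (Sq_le_self Q (hMP hzM))) hd.1,
          show dlt x z⁻¹ = 1 from dlt_eq_one.2 (hMc x _ (inv_mem hzM)), one_mul] at this
  refine S'.rank_five_elementary (E.map mk) hm' ?_ ?_ ?_ (mk (u * u)) (mem_map_of_mem mk (mul_mem hu hu)) ?_ ?_ ?_
  · rintro y _ ⟨q, hq, rfl⟩
    obtain ⟨x, rfl⟩ := QuotientGroup.mk'_surjective M y
    rw [← map_inv, ← map_inv, ← map_mul, ← map_mul, ← map_mul]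
    exact mem_map_of_mem mk (hcenE x q hq)
  · rintro _ ⟨q, hq, rfl⟩
    rw [← map_pow, (h1 _).2 (hq4 q hq)]
    exact one_mem _
  · intro y hy
    obtain ⟨x, rfl⟩ := QuotientGroup.mk'_surjective M y
    rw [hρ'] at hy
    have hx4 : x ^ 4 ∈ Q := (hπ.ker _).1 (by
      rw [map_pow, hy, show (4 : ℕ) = 2 + 2 from rfl, pow_add, pow_two]; exact rel.2.1)
    have h8 := hπ.fourth_sq E hcenE (fun q hq => by
      rw [show q ^ 8 = q ^ 4 * q ^ 4 by rw [← pow_add], hM2 _ (hq4 q hq)]
      exact one_mem E) hy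
    obtain ⟨i, hi, hd⟩ := hdec _ hx4
    rw [← map_pow]
    rw [show x ^ 4 = u ^ i * ((u ^ i)⁻¹ * x ^ 4) by group] at h8 ⊢
    generalize (u ^ i)⁻¹ * x ^ 4 = d at hd h8
    rw [hsqm _ (pow_mem hu i) d hd.1, hd.2, mul_one, ← (show Commute u u from rfl).mul_pow] at h8
    have hi2 : i = 0 ∨ i = 2 := by
      by_contra hh
      rcases (show i = 1 ∨ i = 3 by omega) with rfl | rfl
      · rw [pow_one] at h8
        exact hu4 (hED h8).2
      · refine hu4 ?_
        have h' := (hED h8).2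
        have h4' : (u * u) ^ 4 = 1 := ho ▸ pow_orderOf_eq_one _
        rw [← pow_add, pow_eq_pow_mod _ h4'] at h'
        rw [← pow_two]; exact h'
    rcases hi2 with rfl | rfl
    · rw [pow_zero, one_mul]; exact hDmk d hd
    · exfalso
      refine hzE ?_
      rwa [pow_two, show u * u * (u * u) = u ^ 4 by simp only [pow_succ, pow_zero, one_mul, mul_assoc], hzu] at h8
  · rintro ⟨e, he, e'⟩
    have h' : e⁻¹ * (u * u) ∈ M := QuotientGroup.eq.1 (show (e : X ⧸ M) = ((u * u : X) : X ⧸ M) from e')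
    have := mul_mem (hED he) (hMD h')
    rw [mul_inv_cancel_left] at this
    exact hu4 this.2
  · rw [← map_mul, h1, show u * u * (u * u) = u ^ 4 by simp only [pow_succ, pow_zero, one_mul, mul_assoc]]
    exact hq4 u hu
  · intro y
    obtain ⟨x, rfl⟩ := QuotientGroup.mk'_surjective M y
    rw [← map_mul, ← map_mul, hPfix x]

end Cfsg.Agent.LinRad
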