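import Cfsg.Agent.LinRad.CaseB
import Cfsg.Agent.LinRad.CaseC

/-!
No radical of order 256 with squares of order sixteen.
-/

set_option autoImplicit false
set_option maxHeartbeats 800000
set_option linter.unusedSectionVars false
set_option linter.style.haveILetI false

namespace Cfsg.Agent.LinRad

open Subgroup

variable {X : Type*} [Group X] [Finite X] {Q : Subgroup X} [hQn : Q.Normal]

theorem Setup.no_256 (S : Setup X Q) {M : Subgroup X} [M.Normal] (hM : Eight Q M) (hMS : M ≤ Sq Q)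
    (hQ : Nat.card Q = 256) (hP : Nat.card (Sq Q) = 16) (hcomm : ∀ a ∈ Q, ∀ b ∈ Q, a * b * a⁻¹ * b⁻¹ ∈ M)
    (hnocen : ∀ x ∈ Sq Q, x * x = 1 → (∀ g : X, g * x = x * g) → x = 1) : False := by
  classical
  have hpos : ∀ v : V3, v + v = 0 := fun v => by ext i; exact CharTwo.add_self_eq_zero _
  set P := Sq Q with hPdef
  have hPc := Sq_central hM.exp hM.cen hcomm
  obtain ⟨c, h7, hcQ⟩ := S.exists_seven
  obtain ⟨u, hu, hu2⟩ : ∃ u ∈ Q, u * u ∉ M := by
    by_contra! hh
    have := Nat.card_le_card_of_injective _ (inclusion_injective (Sq_le hh))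
    rw [hP, hM.card] at this
    omega
  set p := u * u with hp
  have hpP : p ∈ P := mul_self_mem_Sq hu
  have hP2 : Nat.card P = 2 * Nat.card M := by rw [hP, hM.card]
  have hPdec : ∀ x ∈ P, x ∈ M ∨ p⁻¹ * x ∈ M := by
    intro x hx
    by_cases hxM : x ∈ M
    · exact Or.inl hxM
    refine Or.inr ?_
    have hi : (M.subgroupOf P).index = 2 := by
      have e := (M.subgroupOf P).card_mul_index
      rw [Nat.card_congr (subgroupOfEquivOfLe hMS).toEquiv, hP2, mul_comm 2] at e
      exact Nat.eq_of_mul_eq_mul_left Nat.card_pos e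
    have := (mul_mem_iff_of_index_two hi (a := (⟨p⁻¹, inv_mem hpP⟩ : P)) (b := ⟨x, hx⟩)).2 (by
      simp only [mem_subgroupOf]
      exact ⟨fun e => absurd (inv_mem_iff.1 e) hu2, fun e => absurd e hxM⟩)
    exact mem_subgroupOf.1 this
  have hPQ := Sq_le_self Q
  have hp2M : p * p ∈ M := by
    rcases hPdec _ (mul_mem hpP hpP) with e | e
    · exact e
    · rw [inv_mul_cancel_left] at e; exact absurd e hu2
  have hdp : ∀ g : X, dlt g p ∈ M := by
    intro g
    rcases hPdec _ ((Sq_normal Q).conj_mem p hpP g) with e | e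
    · exfalso
      have := ‹M.Normal›.conj_mem _ e g⁻¹
      rw [show g⁻¹ * (g * p * g⁻¹) * g⁻¹⁻¹ = p by group] at this
      exact hu2 this
    · have := ‹M.Normal›.conj_mem _ e p
      rwa [show p * (p⁻¹ * (g * p * g⁻¹)) * p⁻¹ = dlt g p by simp only [dlt]; group] at this
  have hpp : p * p = 1 := hM.fix _ hp2M fun g => by
    have hd := hdp g
    rw [← mul_inv_eq_iff_eq_mul]
    calc g * (p * p) * g⁻¹ = dlt g p * (p * dlt g p) * p := by simp only [dlt]; group
      _ = dlt g p * dlt g p * (p * p) := by rw [hM.cen p (hPQ hpP) _ hd]; group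
      _ = p * p := by rw [hM.exp _ hd, one_mul]
  have hP1 : ∀ x ∈ P, x * x = 1 := by
    intro x hx
    rcases hPdec x hx with e | e
    · exact hM.exp x e
    · have e' : x = p * (p⁻¹ * x) := (mul_inv_cancel_left p x).symm
      rw [e', (show Commute (p⁻¹ * x) p from (hPc p hpP _ (hM.le e)).symm).mul_mul_mul_comm, hpp, hM.exp _ e,
        one_mul]
  have hsqmul : ∀ a ∈ Q, ∀ b ∈ Q,
      a * b * (a * b) = a * a * (b * b) * (b⁻¹ * (b⁻¹ * a⁻¹ * b * a)⁻¹⁻¹ * b) := by
    intro a ha b hb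
    group
  let D : Subgroup X :=
    { carrier := {x | x ∈ Q ∧ x * x ∈ M}
      one_mem' := ⟨one_mem Q, by rw [one_mul]; exact one_mem M⟩
      mul_mem' := fun {a b} ha hb => ⟨mul_mem ha.1 hb.1, by
        rw [hsqmul a ha.1 b hb.1, inv_inv]
        refine mul_mem (mul_mem ha.2 hb.2) ?_
        have := hcomm b⁻¹ (inv_mem hb.1) a⁻¹ (inv_mem ha.1)
        rw [inv_inv, inv_inv] at this
        have h' := ‹M.Normal›.conj_mem _ this b⁻¹
        rwa [inv_inv] at h'⟩
      inv_mem' := fun {a} ha => ⟨inv_mem ha.1, by rw [← mul_inv_rev]; exact inv_mem ha.2⟩ }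
  haveI hDn : D.Normal := ⟨fun x hx g => ⟨hQn.conj_mem x hx.1 g, by
    rw [show g * x * g⁻¹ * (g * x * g⁻¹) = g * (x * x) * g⁻¹ by group]; exact ‹M.Normal›.conj_mem _ hx.2 g⟩⟩
  have huD : u ∉ D := fun e => hu2 e.2
  have hidx : ∀ {q : X}, q ∈ Q → q ∈ D ∨ u⁻¹ * q ∈ D := by
    intro q hq
    rcases hPdec _ (mul_self_mem_Sq hq) with e | e
    · exact Or.inl ⟨hq, e⟩
    refine Or.inr ⟨mul_mem (inv_mem hu) hq, ?_⟩
    rw [hsqmul _ (inv_mem hu) q hq, inv_inv]
    refine mul_mem ?_ ?_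
    · rwa [← mul_inv_rev, ← hp]
    · have := hcomm q⁻¹ (inv_mem hq) u hu
      rw [inv_inv] at this
      have h' := ‹M.Normal›.conj_mem _ this q⁻¹
      rw [inv_inv] at h'
      rwa [inv_inv]
  have hDQ : D ≤ Q := fun x hx => hx.1
  have hDc : Nat.card D = 128 := by
    have hi : (D.subgroupOf Q).index = 2 := by
      rw [index_eq_two_iff_exists_notMem_and]
      refine ⟨⟨u, hu⟩, by rw [mem_subgroupOf]; exact huD, fun b => ?_⟩
      rcases hidx b.2 with e | e
      · exact Or.inr (mem_subgroupOf.2 e)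
      · left
        rw [mem_subgroupOf]
        have h1 := hDn.conj_mem _ e u
        rw [show u * (u⁻¹ * (b : X)) * u⁻¹ = b * u⁻¹ by group] at h1
        have hpD : p ∈ D := ⟨hPQ hpP, hp2M⟩
        have := mul_mem h1 hpD
        rwa [hp, show (b : X) * u⁻¹ * (u * u) = b * u by group] at this
    have e := (D.subgroupOf Q).card_mul_index
    rw [Nat.card_congr (subgroupOfEquivOfLe hDQ).toEquiv, hi, hQ] at e
    omega
  have hPD : P ≤ D := fun x hx => ⟨hPQ hx, by rw [hP1 x hx]; exact one_mem M⟩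
  -- the element of order seven moves `D` modulo `P`
  set mk := QuotientGroup.mk' P with hmk
  have h1 : ∀ x, mk x = 1 ↔ x ∈ P := fun x => QuotientGroup.eq_one_iff x
  have hQQ : ∀ q ∈ Q, ∀ b ∈ Q, q * b * q⁻¹ * b⁻¹ ∈ P := fun q hq b hb => hMS (hcomm q hq b hb)
  obtain ⟨ρ, π, h⟩ := S.exists_model P D hPD hDQ (by rw [hDc, hP]) (fun b hb => mul_self_mem_Sq hb.1)
    (fun q hq b hb => hQQ q hq b hb.1) (by
    refine ⟨c, ?_⟩
    by_contra! hh
    obtain ⟨q, hq, hqn⟩ := S.moves_mod_Sq h7 hcQ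
    haveI : (Q.map mk).Normal := hQn.map mk (QuotientGroup.mk'_surjective P)
    have S' := S.quotient P hPQ fun c h7 hc => S.moves_mod_Sq h7 hc
    have hDfix : ∀ d ∈ D, mk c * mk d = mk d * mk c := fun d hd => by
      have e := (h1 _).2 (hh d hd)
      rwa [map_mul, map_mul, map_mul, map_inv, map_inv, mul_inv_eq_one, mul_inv_eq_iff_eq_mul] at e
    have hd0 : u⁻¹ * (c * u * c⁻¹) ∈ D := by
      rcases hidx (hQn.conj_mem u hu c) with e | e
      · exfalso
        have := hDn.conj_mem _ e c⁻¹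
        rw [show c⁻¹ * (c * u * c⁻¹) * c⁻¹⁻¹ = u by group] at this
        exact huD this
      · exact e
    have hcu : mk c * mk u = mk u * mk c := fixed_of_step S'.two (by rw [← map_pow, h7, map_one])
      (mem_map_of_mem mk hd0.1) (hDfix _ hd0) (by simp only [← map_inv, ← map_mul]; rw [mul_inv_cancel_left])
    refine hqn ((h1 _).1 ?_)
    have hcq : Commute (mk c) (mk q) := by
      rcases hidx hq with e | e
      · exact hDfix q e
      · have := (show Commute (mk c) (mk u) from hcu).mul_right (show Commute (mk c) (mk (u⁻¹ * q)) from hDfix _ e)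
        rwa [← map_mul, mul_inv_cancel_left] at this
    rw [map_mul, map_mul, map_mul, map_inv, map_inv, hcq.eq, mul_inv_cancel_right, mul_inv_cancel])
  obtain ⟨σ, hσ, hσM, hσadd, hσ1, hσs, hσc, hDab, hD1⟩ := h.square_section hM hP1
    (fun a ha b hb => hPc a ha b hb.1) (fun b hb => hb.2) (by
      by_contra! hh
      have hle := SecFour.rank_bound S.rank D ⊥ bot_le (fun k _ n hn => by rw [mem_bot] at hn; simp [hn])
        (fun k hk => mem_bot.2 (hh k hk))
      simp only [card_bot, mul_one] at hle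
      omega)
  have hσ0 : σ 0 = 1 := by rw [← h.pi_one, ← hσ 1 (one_mem D), one_mul]
  have hσinj : ∀ v w, σ v = σ w → v = w := by
    intro v w e
    have key : ∀ v w : V3, v + w = 0 → v = w := by decide
    exact key _ _ (hσ1 _ (by rw [hσadd, e, hM.exp _ (hσM w)]))
  have hroot := h.root σ hσ hσs
  have hgu : ∀ g : X, u⁻¹ * (g * u * g⁻¹) ∈ D := fun g => by
    rcases hidx (hQn.conj_mem u hu g) with e | e
    · exfalso
      have := hDn.conj_mem _ e g⁻¹
      rw [show g⁻¹ * (g * u * g⁻¹) * g⁻¹⁻¹ = u by group] at this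
      exact huD this
    · exact e
  have hinv : ∀ g : X, ∀ b ∈ D, b * (g * u * g⁻¹) * b⁻¹ * (g * u * g⁻¹)⁻¹ = b * u * b⁻¹ * u⁻¹ := by
    intro g b hb
    have hd := hDab b hb _ (hgu g)
    calc b * (g * u * g⁻¹) * b⁻¹ * (g * u * g⁻¹)⁻¹
        = b * u * b⁻¹ * (b * (u⁻¹ * (g * u * g⁻¹))) * b⁻¹ * (g * u * g⁻¹)⁻¹ := by group
      _ = b * u * b⁻¹ * u⁻¹ := by rw [hd]; group
  have hpne : p ≠ 1 := fun e => hu2 (e ▸ one_mem M)
  rcases h.commutator_section hM (fun b hb => hcomm b hb.1 u hu) (fun a ha => hPc a ha u hu) hinv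
    with hcen | ⟨φ, hφ, -, hφ0, hφ1, hφs, hφc⟩
  case inr =>
    -- `u` inverts `D`, so `p` is central
    have huniq := h.equiv_unique σ φ hσinj (fun v => by
      obtain ⟨w, hw⟩ := hσs (φ v) (by
        obtain ⟨b, hb, e⟩ := h.onto v
        rw [← e, ← hφ b hb]; exact hcomm b hb.1 u hu)
      exact ⟨w, hw.symm⟩) hσ0 hφ1 hφ0 hσc hφc
    have hflip : ∀ b ∈ D, u * b⁻¹ * u⁻¹ = b := by
      intro b hb
      have h1 : b * u * b⁻¹ * u⁻¹ = b * b := by rw [hφ b hb, hσ b hb, huniq]
      calc u * b⁻¹ * u⁻¹ = b⁻¹ * (b * u * b⁻¹ * u⁻¹) := by group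
        _ = b := by rw [h1, inv_mul_cancel_left]
    refine hpne (hnocen p hpP hpp fun g => mul_inv_eq_iff_eq_mul.1 ?_)
    set d := u⁻¹ * (g * u * g⁻¹) with hd
    have hf := hflip d (hgu g)
    calc g * p * g⁻¹ = (u * d) * (u * d) := by rw [hp, hd]; group
      _ = u * d * (u * (u * d⁻¹ * u⁻¹)) := by rw [hf]
      _ = u * (d * p * d⁻¹) * u⁻¹ := by rw [hp]; group
      _ = u * p * u⁻¹ := by rw [← hPc p hpP d (hgu g).1, mul_inv_cancel_right]
      _ = p := by rw [← hPc p hpP u hu, mul_inv_cancel_right]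
  -- `Q` is abelian
  have huq : ∀ q ∈ Q, Commute u q := fun q hq => by
    rcases hidx hq with e | e
    · exact (hcen q e).symm
    · have := (Commute.refl u).mul_right (show Commute u (u⁻¹ * q) from (hcen _ e).symm)
      rwa [mul_inv_cancel_left] at this
  have hab : ∀ a ∈ Q, ∀ b ∈ Q, a * b = b * a := by
    have hDQ' : ∀ b ∈ D, ∀ q ∈ Q, Commute b q := fun b hb q hq => by
      rcases hidx hq with e | e
      · exact hDab b hb q e
      · have := (show Commute b u from hcen b hb).mul_right (show Commute b (u⁻¹ * q) from hDab b hb _ e)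
        rwa [mul_inv_cancel_left] at this
    intro a ha b hb
    rcases hidx ha with e | e
    · exact hDQ' a e b hb
    · have := (huq b hb).mul_left (hDQ' _ e b hb)
      rwa [mul_inv_cancel_left] at this
  have hdu : ∀ g : X, dlt g u ∈ D := fun g => by
    have := hgu g
    rwa [hab u⁻¹ (inv_mem hu) _ (hQn.conj_mem u hu g)] at this
  have hq4 : ∀ q ∈ Q, q * q * (q * q) = 1 := fun q hq => hP1 _ (mul_self_mem_Sq hq)
  have hnf : ∀ g : X, ρ g = matJ → ∀ m ∈ M, dlt g (p * m) ≠ 1 := fun g hg m hm =>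
    hM.no_fixed S h (fun q hq => hab q hq p (hPQ hpP)) hdp (fun a ha hh => hu2 (by
      have hpa := hnocen _ (mul_mem hpP (hMS ha)) (hP1 _ (mul_mem hpP (hMS ha))) hh
      rw [eq_inv_of_mul_eq_one_left hpa]
      exact inv_mem ha)) hg hm
  obtain ⟨g, hg⟩ := h.surj matJ dets.1
  set f := dlt g u with hf
  have hfD : f ∈ D := hdu g
  have hf2 : π f 2 = 1 := by
    by_contra hh
    obtain ⟨m, hm, hme⟩ := h.shift_square hDab (fun b hb => hb.2) σ hσ hg (not_one hh)
    refine hnf g hg m hm ?_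
    rw [dlt_mul hab g (hPQ hpP) (hM.le hm), hp, dlt_sq hab g hu, hme, ← hf, hσ f hfD]
    exact hM.exp _ (hσM _)
  have hf1 := dlt_mem (K := D) g hfD
  have hk2 := dlt_mem (K := D) g hf1
  set k := dlt g (dlt g f) with hk
  have hkπ : π k = e1 := by rw [hk, h.pi_dlt hg hf1, h.pi_dlt hg hfD]; exact top_coord _ hf2
  have hgk : dlt g k ∈ M := by
    have e := conj_four Q hab hq4 g hu
    rw [hab _ (h.four_mem hg).1 u hu, mul_inv_cancel_right, ← hf, ← hk, mul_assoc] at e
    rw [eq_inv_of_mul_eq_one_right (left_eq_mul.1 e)]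
    exact inv_mem hf1.2
  obtain ⟨E, hEn, hME, hED, hpE, hEm, hEc⟩ := h.split hMS hpP hu2 hPdec (fun d hd => hd.2) hdp
    (fun q hq d hd => hcomm q hq d hd.1) hg hk2 hkπ hgk
  haveI := hEn
  have hEab : ∀ a ∈ E, ∀ b ∈ E, a * b = b * a := fun a ha b hb => hDab a (hED ha) b (hED hb)
  have hEsq : ∀ x ∈ E, x * x = 1 ↔ x ∈ M := by
    intro x hx
    refine ⟨fun e => ?_, fun e => hM.exp x e⟩
    rcases hPdec _ ((hD1 x (hED hx)).1 e) with e' | e'
    · exact e'
    · exfalso
      refine hpE ?_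
      have := mul_mem hx (inv_mem (hME e'))
      rwa [mul_inv_rev, inv_inv, mul_inv_cancel_left] at this
  have hDE : ∀ d ∈ D, d ∈ E ∨ p⁻¹ * d ∈ E := fun d hd =>
    index_two_cases (Q := D) hED hEc (hPD hpP) hpE hd
  -- modulo `E` the element `u` is centralised
  let R : Subgroup X :=
    { carrier := {x | dlt x u ∈ E}
      one_mem' := by simp [dlt]
      mul_mem' := fun {a b} ha hb => by
        show a * b * u * (a * b)⁻¹ * u⁻¹ ∈ E
        have := mul_mem (hEn.conj_mem _ hb a) ha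
        rwa [show a * dlt b u * a⁻¹ * dlt a u = a * b * u * (a * b)⁻¹ * u⁻¹ by simp only [dlt]; group] at this
      inv_mem' := fun {a} ha => by
        show a⁻¹ * u * a⁻¹⁻¹ * u⁻¹ ∈ E
        have := inv_mem (hEn.conj_mem _ ha a⁻¹)
        rwa [show (a⁻¹ * dlt a u * a⁻¹⁻¹)⁻¹ = a⁻¹ * u * a⁻¹⁻¹ * u⁻¹ by simp only [dlt]; group] at this }
  have hRall : ∀ x : X, dlt x u ∈ E := fun x => S.sq_top R (fun q hq => by
      show dlt q u ∈ E
      rw [show dlt q u = 1 from dlt_eq_one.2 (hab q hq u hu)]; exact one_mem E)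
    (fun y => by
      show y * y * u * (y * y)⁻¹ * u⁻¹ ∈ E
      have hd := dlt_mem (K := D) y (hdu y)
      have e : y * y * u * (y * y)⁻¹ * u⁻¹ = dlt y (dlt y u) * (dlt y u * dlt y u) := by
        simp only [dlt]; group
      rw [e]
      refine mul_mem ?_ (hME (hdu y).2)
      rcases hDE _ (hdu y) with e' | e'
      · exact dlt_mem y e'
      · have h' := mul_mem (hME (hdp y)) (dlt_mem (K := E) y e')
        rwa [← dlt_mul hab y (hPQ hpP) (hDQ (hED e')), mul_inv_cancel_left] at h') x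
  have hcenE : ∀ x : X, ∀ q ∈ Q, x * q * x⁻¹ * q⁻¹ ∈ E := by
    intro x q hq
    have hDd : ∀ d ∈ D, dlt x d ∈ E := fun d hd => by
      rcases hDE d hd with e | e
      · exact dlt_mem x e
      · have h' := mul_mem (hME (hdp x)) (dlt_mem (K := E) x e)
        rwa [← dlt_mul hab x (hPQ hpP) (hDQ (hED e)), mul_inv_cancel_left] at h'
    rcases hidx hq with e | e
    · exact hDd q e
    · have h' := mul_mem (hRall x) (hDd _ e)
      rwa [← dlt_mul hab x hu e.1, mul_inv_cancel_left] at h'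
  have hexp : ∀ q ∈ Q, q ^ 4 ∈ E := fun q hq => by
    rw [show q ^ 4 = q * q * (q * q) by simp only [pow_succ, pow_zero, one_mul, mul_assoc], hq4 q hq]
    exact one_mem E
  by_cases hfour : ∀ g : X, ρ g = matJ → g ^ 4 ∈ E
  · exact S.no_homocyclic M E hEm hEab hM.card hEsq hcenE hexp hfour
      (fun q hq _ b hb => hab q hq b (hDQ (hED hb)))
  push Not at hfour
  obtain ⟨y, hy, hy4⟩ := hfour
  have hy4Q := (h.four_mem hy).1
  have h8 := h.fourth_sq E hcenE (fun q hq => by
    rw [show q ^ 8 = q ^ 4 * q ^ 4 by rw [← pow_add]]; exact mul_mem (hexp q hq) (hexp q hq)) hy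
  set q := y ^ 4 with hqdef
  have hqD : q ∈ D := by
    refine ⟨hy4Q, ?_⟩
    rcases hPdec _ (mul_self_mem_Sq hy4Q) with e | e
    · exact e
    · exfalso
      refine hpE ?_
      have := mul_mem h8 (inv_mem (hME e))
      rwa [mul_inv_rev, inv_inv, mul_inv_cancel_left] at this
  obtain ⟨x, hx, hqx⟩ : ∃ x ∈ E, q = p * x := by
    rcases hDE q hqD with e | e
    · exact absurd e hy4
    · exact ⟨_, e, (mul_inv_cancel_left p q).symm⟩
  have hdx : dlt y p * dlt y x = 1 := by
    rw [← dlt_mul hab y (hPQ hpP) (hDQ (hED hx)), ← hqx, dlt_eq_one, hqdef]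
    exact (Commute.pow_self y 4).symm.eq
  obtain ⟨m, hm, hme⟩ := hEm.fixed_shift hEab hEsq (fun m hm => by
      obtain ⟨j, hj, e⟩ := hroot m hm
      rcases hDE j hj with e' | e'
      · exact ⟨j, e', e⟩
      · refine ⟨_, e', ?_⟩
        have e'' : j * j = p * (p⁻¹ * j) * (p * (p⁻¹ * j)) := by rw [mul_inv_cancel_left]
        rw [← e, e'', (show Commute (p⁻¹ * j) p from hab _ (hDQ (hED e')) p (hPQ hpP)).mul_mul_mul_comm, hpp, one_mul])
    hy (fun b hb => hab _ hy4Q b (hDQ (hED hb))) hx (by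
      rw [← dlt_eq_one, dlt_sq hEab y hx]
      have : dlt y x ∈ M := by
        rw [eq_inv_of_mul_eq_one_right hdx]; exact inv_mem (hdp y)
      exact hM.exp _ this)
  refine hnf y hy m hm ?_
  rw [dlt_mul hab y (hPQ hpP) (hM.le hm), ← hme, hdx]

end Cfsg.Agent.LinRad
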