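import Cfsg.Agent.LinRad.Shift

/-!
A minimal normal subgroup of order eight below natural sections: squaring and commutation.
-/

set_option autoImplicit false
set_option maxHeartbeats 400000
set_option linter.unusedSectionVars false
set_option linter.style.haveILetI false

namespace Cfsg.Agent.LinRad

open Subgroup

variable {X : Type*} [Group X] [Finite X] {Q : Subgroup X} [hQn : Q.Normal]

/-- a minimal normal subgroup of order eight -/
structure Eight (Q M : Subgroup X) : Prop where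
  card : Nat.card M = 8
  le : M ≤ Q
  exp : ∀ m ∈ M, m * m = 1
  cen : ∀ q ∈ Q, ∀ m ∈ M, q * m = m * q
  fix : ∀ m ∈ M, (∀ g : X, g * m = m * g) → m = 1

omit [Finite X] hQn in
theorem Eight.comm {M : Subgroup X} (hM : Eight Q M) : ∀ a ∈ M, ∀ b ∈ M, a * b = b * a := comm_of_sq hM.exp

theorem Eight.seven (S : Setup X Q) {M : Subgroup X} [M.Normal] (hM : Eight Q M) {c : X} (h7 : c ^ 7 = 1)
    (hcQ : c ∉ Q) : ∀ m ∈ M, c * m = m * c → m = 1 := by
  have hmove : ∃ v ∈ M, c * v ≠ v * c := by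
    by_contra! hh
    have hQc : Q ≤ centralizer (M : Set X) := fun q hq => mem_centralizer_iff.2 fun m hm => (hM.cen q hq m hm).symm
    have := S.everywhere (centralizer (M : Set X)) hQc (x := c)
      (mem_centralizer_iff.2 fun m hm => (hh m hm).symm) hcQ
    have hb : M = ⊥ := (Subgroup.eq_bot_iff_forall _).2 fun m hm => hM.fix m hm fun g =>
      (mem_centralizer_iff.1 (this ▸ mem_top g) m hm).symm
    have h8 := hM.card
    rw [hb, card_bot] at h8
    omega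
  rcases S.elementary h7 hM.le hM.exp hM.cen hmove with ⟨-, h⟩ | ⟨h, -⟩
  · exact h
  · rw [hM.card] at h; omega

theorem Model.four_mem {A B : Subgroup X} {ρ : X →* M3} {π : X → V3} (h : Model Q A B ρ π) {g : X}
    (hg : ρ g = matJ) : g ^ 4 ∈ Q ∧ g * g ∉ Q := by
  refine ⟨(h.ker _).1 ?_, fun e => ?_⟩
  · rw [map_pow, hg, show (4 : ℕ) = 2 + 2 from rfl, pow_add, pow_two]; exact rel.2.1
  · have := (h.ker _).2 e
    rw [map_mul, hg] at this
    exact rel.1 this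

theorem Model.pi_dlt {A B : Subgroup X} [B.Normal] {ρ : X →* M3} {π : X → V3} (h : Model Q A B ρ π) {g : X}
    (hg : ρ g = matJ) {a : X} (ha : a ∈ B) : π (dlt g a) = π a 1 • e1 + π a 2 • e2 := by
  show π (g * a * g⁻¹ * a⁻¹) = _
  rw [h.add _ (‹B.Normal›.conj_mem a ha g) _ (inv_mem ha), h.pi_inv ha, h.conj g a ha, hg]
  exact diffJ _

/-- the third coordinate survives two commutations with an element of order four -/
theorem top_coord : ∀ v : V3, v 2 = 1 →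
    (v 1 • e1 + v 2 • e2) 1 • e1 + (v 1 • e1 + v 2 • e2) 2 • e2 = e1 := by decide +kernel

theorem not_one {a : ZMod 2} (h : a ≠ 1) : a = 0 := by
  have key : ∀ a : ZMod 2, a ≠ 1 → a = 0 := by decide
  exact key a h

/-- coset of a minimal normal subgroup without central elements -/
theorem Eight.no_fixed (S : Setup X Q) {M : Subgroup X} [M.Normal] (hM : Eight Q M) {A B : Subgroup X}
    {ρ : X →* M3} {π : X → V3} (h : Model Q A B ρ π) {u : X} (huQ : ∀ q ∈ Q, q * u = u * q)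
    (hu : ∀ g : X, dlt g u ∈ M) (hno : ∀ m ∈ M, ¬ ∀ g : X, g * (u * m) = u * m * g) {g : X} (hg : ρ g = matJ)
    {m : X} (hm : m ∈ M) : dlt g (u * m) ≠ 1 := by
  obtain ⟨c, h7, hcQ⟩ := S.exists_seven
  obtain ⟨hg4, hg2⟩ := h.four_mem hg
  rcases S.coset h7 hM.card (hM.seven S h7 hcQ) (u := u) (fun x => by
      have := ‹M.Normal›.conj_mem _ (hu x) u⁻¹
      rwa [show u⁻¹ * dlt x u * u⁻¹⁻¹ = u⁻¹ * (x * u * x⁻¹) by simp only [dlt]; group] at this)
    (fun a ha q hq => (show Commute q u from huQ q hq).mul_right (hM.cen q hq a ha)) with ⟨a, ha, hh⟩ | hh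
  · exact absurd hh (hno a ha)
  · exact fun e => hh g hg4 hg2 m hm (dlt_eq_one.1 e)

/-- squaring from a natural section onto a minimal normal subgroup of order eight -/
theorem Model.square_section {A B : Subgroup X} [B.Normal] {ρ : X →* M3} {π : X → V3} (h : Model Q A B ρ π)
    {M : Subgroup X} [M.Normal] (hM : Eight Q M) (hA : ∀ a ∈ A, a * a = 1) (hAB : ∀ a ∈ A, ∀ b ∈ B, a * b = b * a)
    (hsq : ∀ b ∈ B, b * b ∈ M) (hne : ∃ b ∈ B, b * b ≠ 1) :
    ∃ σ : V3 → X, (∀ b ∈ B, b * b = σ (π b)) ∧ (∀ v, σ v ∈ M) ∧ (∀ v w, σ (v + w) = σ v * σ w) ∧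
      (∀ v, σ v = 1 → v = 0) ∧ (∀ m ∈ M, ∃ v, σ v = m) ∧ (∀ g v, g * σ v * g⁻¹ = σ ((ρ g).mulVec v)) ∧
      (∀ a ∈ B, ∀ b ∈ B, a * b = b * a) ∧ (∀ b ∈ B, b * b = 1 ↔ b ∈ A) := by
  choose rep hrep hrepπ using h.onto
  have hval : ∀ b ∈ B, b * b = rep (π b) * rep (π b) := by
    intro b hb
    have hd : (rep (π b))⁻¹ * b ∈ A := (h.pi_eq (hrep _) hb).1 (hrepπ _)
    calc b * b = rep (π b) * ((rep (π b))⁻¹ * b) * (rep (π b) * ((rep (π b))⁻¹ * b)) := by group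
      _ = rep (π b) * rep (π b) * ((rep (π b))⁻¹ * b * ((rep (π b))⁻¹ * b)) :=
          (show Commute ((rep (π b))⁻¹ * b) (rep (π b)) from hAB _ hd _ (hrep _)).mul_mul_mul_comm _ _
      _ = _ := by rw [hA _ hd, mul_one]
  obtain ⟨σ, hσ⟩ : ∃ σ : V3 → X, ∀ v, σ v = rep v * rep v := ⟨_, fun v => rfl⟩
  have hb' : ∀ b ∈ B, b * b = σ (π b) := fun b hb => by rw [hσ]; exact hval b hb
  have h0 : σ 0 = 1 := by rw [← h.pi_one, ← hb' 1 (one_mem B), one_mul]
  rcases h.equiv_linear hM.card hM.exp hM.fix σ (fun v => hσ v ▸ hsq _ (hrep v)) h0 (fun g v => by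
    rw [hσ, show g * (rep v * rep v) * g⁻¹ = g * rep v * g⁻¹ * (g * rep v * g⁻¹) by group,
      hb' _ (‹B.Normal›.conj_mem _ (hrep v) g), h.conj g _ (hrep v), hrepπ]) with hz | ⟨hadd, hinj, hsur⟩
  · obtain ⟨b, hb, hbne⟩ := hne
    exact absurd ((hb' b hb).trans (hz _)) hbne
  refine ⟨σ, hb', fun v => hσ v ▸ hsq _ (hrep v), hadd, hinj, hsur, fun g v => ?_, ?_, fun b hb => ?_⟩
  · rw [hσ, show g * (rep v * rep v) * g⁻¹ = g * rep v * g⁻¹ * (g * rep v * g⁻¹) by group,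
      hb' _ (‹B.Normal›.conj_mem _ (hrep v) g), h.conj g _ (hrep v), hrepπ]
  · intro a ha b hb
    have e : a * b * (a * b) = a * a * (b * b) := by
      rw [hb' _ (mul_mem ha hb), h.add a ha b hb, hadd, ← hb' a ha, ← hb' b hb]
    have e' : a * (b * a) * b = a * (a * b) * b := by
      calc a * (b * a) * b = a * b * (a * b) := by group
        _ = a * (a * b) * b := by rw [e]; group
    exact (mul_left_cancel (mul_right_cancel e')).symm
  · rw [hb' b hb, ← h.zero b hb]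
    exact ⟨hinj _, fun e => e ▸ h0⟩

/-- commutation with an element into a minimal normal subgroup of order eight -/
theorem Model.commutator_section {A B : Subgroup X} [B.Normal] {ρ : X →* M3} {π : X → V3} (h : Model Q A B ρ π)
    {M : Subgroup X} [M.Normal] (hM : Eight Q M) {u : X} (huM : ∀ b ∈ B, b * u * b⁻¹ * u⁻¹ ∈ M)
    (hA : ∀ a ∈ A, a * u = u * a)
    (hinv : ∀ g : X, ∀ b ∈ B, b * (g * u * g⁻¹) * b⁻¹ * (g * u * g⁻¹)⁻¹ = b * u * b⁻¹ * u⁻¹) :
    (∀ b ∈ B, b * u = u * b) ∨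
      ∃ φ : V3 → X, (∀ b ∈ B, b * u * b⁻¹ * u⁻¹ = φ (π b)) ∧ (∀ v w, φ (v + w) = φ v * φ w) ∧ φ 0 = 1 ∧
        (∀ v, φ v = 1 → v = 0) ∧ (∀ m ∈ M, ∃ v, φ v = m) ∧ ∀ g v, g * φ v * g⁻¹ = φ ((ρ g).mulVec v) := by
  choose rep hrep hrepπ using h.onto
  obtain ⟨φ, hφ⟩ : ∃ φ : V3 → X, ∀ v, φ v = rep v * u * (rep v)⁻¹ * u⁻¹ := ⟨_, fun v => rfl⟩
  have hb' : ∀ b ∈ B, b * u * b⁻¹ * u⁻¹ = φ (π b) := by
    intro b hb
    rw [hφ]
    have hd : (rep (π b))⁻¹ * b ∈ A := (h.pi_eq (hrep _) hb).1 (hrepπ _)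
    calc b * u * b⁻¹ * u⁻¹
        = rep (π b) * (((rep (π b))⁻¹ * b) * u * ((rep (π b))⁻¹ * b)⁻¹) * (rep (π b))⁻¹ * u⁻¹ := by group
      _ = _ := by rw [hA _ hd, mul_inv_cancel_right]
  have h0 : φ 0 = 1 := by rw [← h.pi_one, ← hb' 1 (one_mem B)]; group
  have hconj : ∀ g v, g * φ v * g⁻¹ = φ ((ρ g).mulVec v) := by
    intro g v
    have hgb := ‹B.Normal›.conj_mem _ (hrep v) g
    calc g * φ v * g⁻¹ = g * rep v * g⁻¹ * (g * u * g⁻¹) * (g * rep v * g⁻¹)⁻¹ * (g * u * g⁻¹)⁻¹ := by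
          rw [hφ]; group
      _ = _ := by rw [hinv g _ hgb, hb' _ hgb, h.conj g _ (hrep v), hrepπ]
  rcases h.equiv_linear hM.card hM.exp hM.fix φ (fun v => hφ v ▸ huM _ (hrep v)) h0 hconj with hz | ⟨hadd, hne, hsur⟩
  · exact Or.inl fun b hb => by
      have := (hb' b hb).trans (hz _)
      rwa [mul_inv_eq_one, mul_inv_eq_iff_eq_mul] at this
  · exact Or.inr ⟨φ, hb', hadd, h0, hne, hsur, hconj⟩

/-- a square below the third coordinate is a commutator of the minimal normal subgroup -/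
theorem Model.shift_square {A B : Subgroup X} [B.Normal] {ρ : X →* M3} {π : X → V3} (h : Model Q A B ρ π)
    (hB : ∀ a ∈ B, ∀ b ∈ B, a * b = b * a) {M : Subgroup X} (hsq : ∀ b ∈ B, b * b ∈ M) (σ : V3 → X)
    (hσ : ∀ b ∈ B, b * b = σ (π b)) {g : X} (hg : ρ g = matJ) {v : V3} (hv : v 2 = 0) :
    ∃ m ∈ M, dlt g m = σ v := by
  obtain ⟨y, hy, hyπ⟩ := h.onto (v 0 • e2 + v 1 • e3)
  refine ⟨y * y, hsq y hy, ?_⟩
  rw [dlt_sq hB g hy, hσ _ (dlt_mem g hy), h.pi_dlt hg hy, hyπ]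
  congr 1
  have key : ∀ v : V3, v 2 = 0 → (v 0 • e2 + v 1 • e3) 1 • e1 + (v 0 • e2 + v 1 • e3) 2 • e2 = v := by
    decide +kernel
  exact key v hv

/-- a root of a square in a natural section -/
theorem Model.root {A B : Subgroup X} [B.Normal] {ρ : X →* M3} {π : X → V3} (h : Model Q A B ρ π)
    {M : Subgroup X} (σ : V3 → X) (hσ : ∀ b ∈ B, b * b = σ (π b)) (hs : ∀ m ∈ M, ∃ v, σ v = m) :
    ∀ m ∈ M, ∃ j ∈ B, j * j = m := by
  intro m hm
  obtain ⟨v, rfl⟩ := hs m hm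
  obtain ⟨j, hj, e⟩ := h.onto v
  exact ⟨j, hj, by rw [hσ j hj, e]⟩

omit [Finite X] hQn in
/-- dichotomy by a subgroup of index two -/
theorem index_two_cases [Finite X] {E : Subgroup X} (hEQ : E ≤ Q) (hcard : Nat.card Q = 2 * Nat.card E) {u : X}
    (hu : u ∈ Q) (huE : u ∉ E) {q : X} (hq : q ∈ Q) : q ∈ E ∨ u⁻¹ * q ∈ E := by
  by_cases hqE : q ∈ E
  · exact Or.inl hqE
  refine Or.inr ?_
  have hi : (E.subgroupOf Q).index = 2 := by
    have e := (E.subgroupOf Q).card_mul_index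
    rw [Nat.card_congr (subgroupOfEquivOfLe hEQ).toEquiv, hcard, mul_comm 2] at e
    exact Nat.eq_of_mul_eq_mul_left Nat.card_pos e
  have := (mul_mem_iff_of_index_two hi (a := (⟨u⁻¹, inv_mem hu⟩ : Q)) (b := ⟨q, hq⟩)).2 (by
    simp only [mem_subgroupOf]
    exact ⟨fun e => absurd (inv_mem_iff.1 e) huE, fun e => absurd e hqE⟩)
  exact mem_subgroupOf.1 this

omit [Finite X] hQn in
theorem exists_not_mem [Finite X] {E : Subgroup X} (hcard : Nat.card Q = 2 * Nat.card E) : ∃ u ∈ Q, u ∉ E := by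
  by_contra! hh
  have := Nat.card_le_card_of_injective _ (inclusion_injective (show Q ≤ E from hh))
  have hpos : 0 < Nat.card E := Nat.card_pos
  omega

end Cfsg.Agent.LinRad
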