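import Cfsg.Agent.LinRad.Tau

/-!
An element of order four of the linear group acting with determinant one on a homocyclic group of exponent four
and rank three: coordinates adapted to it.
-/

set_option autoImplicit false
set_option maxHeartbeats 1000000
set_option linter.unusedSectionVars false
set_option linter.style.haveILetI false

namespace Cfsg.Agent.LinRad

open Subgroup

/-- the matrix of a Jordan block of determinant one modulo four in adapted coordinates -/
def matA4 : Matrix (Fin 3) (Fin 3) (ZMod 4) := !![1, 0, 0; 1, 1, 2; 0, 1, 3]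

theorem coord_facts :
    (∀ v : Fin 3 → ZMod 4, matA4.mulVec v = v →
      ∃ a : Fin 3 → ZMod 4, a + matA4.mulVec (matA4.mulVec a) + v = 0) ∧
    (∀ v : Fin 3 → ZMod 4, v + v = 0 ∨ v + v = ![0, 0, 2] →
      matA4.mulVec (matA4.mulVec v) - v = 0 ∨ matA4.mulVec (matA4.mulVec v) - v = ![0, 0, 2]) ∧
    (∀ v : Fin 3 → ZMod 4, (matA4.mulVec (matA4.mulVec v) - v) + (matA4.mulVec (matA4.mulVec v) - v) = 0 →
      v + matA4.mulVec (matA4.mulVec v) = 0 ∨ v + matA4.mulVec (matA4.mulVec v) = ![0, 0, 2]) := by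
  decide +kernel

theorem zero_or_one : ∀ a : ZMod 2, a = 0 ∨ a = 1 := by decide

variable {X : Type*} [Group X] [Finite X] {Q M K : Subgroup X} {ρ : X →* M3} {π : X → V3}

theorem Model.sq_rep (h : Model Q M K ρ π) (hK : ∀ a ∈ K, ∀ b ∈ K, a * b = b * a) (hM : Nat.card M = 8)
    (hsq : ∀ k ∈ K, k * k = 1 ↔ k ∈ M) : ∀ m ∈ M, ∃ j ∈ K, j * j = m := by
  intro m hm
  choose rep hrep hrepπ using h.onto
  have hin : ∀ v, rep v * rep v ∈ M := fun v => h.mem_of_pi (mul_mem (hrep v) (hrep v)) (by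
    rw [h.add _ (hrep v) _ (hrep v)]; ext i; exact CharTwo.add_self_eq_zero _)
  let f : V3 → M := fun v => ⟨rep v * rep v, hin v⟩
  have hf : Function.Bijective f := by
    rw [Nat.bijective_iff_injective_and_card]
    refine ⟨fun v w e => ?_, by rw [hM, Nat.card_eq_fintype_card]; rfl⟩
    have e' : rep v * rep v = rep w * rep w := congrArg Subtype.val e
    have hd : (rep v)⁻¹ * rep w ∈ M := by
      refine (hsq _ (mul_mem (inv_mem (hrep v)) (hrep w))).1 ?_
      rw [(show Commute (rep w) (rep v)⁻¹ from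
        (show Commute (rep w) (rep v) from hK _ (hrep w) _ (hrep v)).inv_right).mul_mul_mul_comm, ← mul_inv_rev, e',
        inv_mul_cancel]
    rw [← hrepπ v, ← hrepπ w]
    exact (h.pi_eq (hrep v) (hrep w)).2 hd
  obtain ⟨v, hv⟩ := hf.2 ⟨m, hm⟩
  exact ⟨rep v, hrep v, congrArg Subtype.val hv⟩

theorem Model.good_lift [hKn : K.Normal] (h : Model Q M K ρ π) (hK : ∀ a ∈ K, ∀ b ∈ K, a * b = b * a)
    (hM : Nat.card M = 8) (hsq : ∀ k ∈ K, k * k = 1 ↔ k ∈ M) {N : Subgroup X}
    (hN : ∀ k ∈ K, π k = 0 ∨ π k = e1 → k * k ∈ N) {g : X} (hg4 : g ^ 4 ∈ K)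
    (hgD : g ∈ commutator X ⊔ centralizer (K : Set X)) (v3 v2 : V3) (hv3 : (ρ g).mulVec v3 = v3 + v2)
    (hv2 : (ρ g).mulVec v2 = v2 + e1) (hv1 : (ρ g).mulVec e1 = e1)
    (hspan : ∀ v : V3, ∃ a b c : ZMod 2, v = a • v3 + b • v2 + c • e1) :
    (∃ a ∈ K, a * (g * g) * (a * (g * g)) = 1) ∧
      (∀ k ∈ K, π k = 0 ∨ π k = e1 → g * g * k * (g * g)⁻¹ * k⁻¹ ∈ N) ∧
      (∀ k ∈ K, (ρ (g * g)).mulVec (π k) = π k → k * (g * g * k * (g * g)⁻¹) ∈ N) := by
  classical
  have hrepM := h.sq_rep hK hM hsq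
  letI : CommGroup K := { (inferInstance : Group K) with mul_comm := fun a b => Subtype.ext (hK a a.2 b b.2) }
  have h4 : ∀ a : K, a * a * (a * a) = 1 := fun a => Subtype.ext (by
    have hm : (a : X) * a ∈ M := h.mem_of_pi (mul_mem a.2 a.2) (by
      rw [h.add _ a.2 _ a.2]; ext i; exact CharTwo.add_self_eq_zero _)
    exact (hsq _ (mul_mem a.2 a.2)).2 hm)
  letI : Module (ZMod 4) (Additive K) := AddCommGroup.zmodModule (fun x => by
    show 4 • x = 0
    have := congrArg Additive.ofMul (h4 x.toMul)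
    rw [show (4 : ℕ) = 2 + 2 from rfl, add_nsmul, two_nsmul]
    exact this)
  let P : Additive K →+ V3 := AddMonoidHom.mk' (fun x => π (x.toMul : X))
    (fun x y => h.add _ x.toMul.2 _ y.toMul.2)
  have hP0 : ∀ x : Additive K, P x = 0 ↔ x + x = 0 := by
    intro x
    show π (x.toMul : X) = 0 ↔ _
    rw [h.zero _ x.toMul.2, ← hsq _ x.toMul.2]
    exact ⟨fun e => Additive.toMul.injective (Subtype.ext e), fun e => congrArg Subtype.val (congrArg Additive.toMul e)⟩
  let cj : X → (Additive K →ₗ[ZMod 4] Additive K) := fun x =>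
    (MonoidHom.toAdditive (MonoidHom.mk' (fun a : K => (⟨x * a * x⁻¹, hKn.conj_mem _ a.2 x⟩ : K))
      fun a b => Subtype.ext (by
        show x * ((a : X) * b) * x⁻¹ = x * a * x⁻¹ * (x * b * x⁻¹)
        group))).toZModLinearMap 4
  have hPc : ∀ x a, P (cj x a) = (ρ x).mulVec (P a) := fun x a => h.conj x _ a.toMul.2
  -- adapted coordinates
  obtain ⟨k3, hk3, hk3π⟩ := h.onto v3
  let x3 : Additive K := Additive.ofMul ⟨k3, hk3⟩
  let x2 : Additive K := cj g x3 - x3
  let x1 : Additive K := cj g x2 - x2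
  have hvv : ∀ v w : V3, v + w - v = w := fun v w => add_sub_cancel_left v w
  have hP3 : P x3 = v3 := hk3π
  have hP2 : P x2 = v2 := by rw [map_sub, hPc, hP3, hv3, hvv]
  have hP1 : P x1 = e1 := by rw [map_sub, hPc, hP2, hv2, hvv]
  let L : (Fin 3 → ZMod 4) →ₗ[ZMod 4] Additive K := Fintype.linearCombination (ZMod 4) ![x3, x2, x1]
  have hL : ∀ a b c, L ![a, b, c] = a • x3 + b • x2 + c • x1 := fun a b c => by
    simp [L, Fintype.linearCombination_apply, Fin.sum_univ_three]
  have hLeta : ∀ v : Fin 3 → ZMod 4, v = ![v 0, v 1, v 2] := fun v => by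
    ext i; fin_cases i <;> rfl
  have hLs : Function.Surjective L := by
    have step : ∀ x : Additive K, ∃ v, P (L v) = P x := by
      intro x
      obtain ⟨a, b, c, e⟩ := hspan (P x)
      refine ⟨![if a = 0 then 0 else 1, if b = 0 then 0 else 1, if c = 0 then 0 else 1], ?_⟩
      rw [hL, e]
      rcases zero_or_one a with rfl | rfl <;> rcases zero_or_one b with rfl | rfl <;>
        rcases zero_or_one c with rfl | rfl <;> simp [hP3, hP2, hP1]
    intro x
    obtain ⟨v, hv⟩ := step x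
    have hd : ((x - L v).toMul : X) ∈ M := h.mem_of_pi (x - L v).toMul.2 (by
      show P (x - L v) = 0
      rw [map_sub, hv, sub_self])
    obtain ⟨j, hj, hje⟩ := hrepM _ hd
    obtain ⟨w, hw⟩ := step (Additive.ofMul (⟨j, hj⟩ : K))
    refine ⟨v + (w + w), ?_⟩
    have h1 : L w + L w = Additive.ofMul (⟨j, hj⟩ : K) + Additive.ofMul (⟨j, hj⟩ : K) := by
      have := (hP0 (L w - Additive.ofMul ⟨j, hj⟩)).1 (by rw [map_sub, hw, sub_self])
      rw [← sub_eq_zero, ← this]
      abel
    have h2 : Additive.ofMul (⟨j, hj⟩ : K) + Additive.ofMul (⟨j, hj⟩ : K) = x - L v :=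
      Additive.toMul.injective (Subtype.ext hje)
    rw [map_add, map_add, h1, h2, add_sub_cancel]
  have hLi : Function.Injective L := by
    have hb : Function.Bijective L := by
      rw [Nat.bijective_iff_surjective_and_card]
      refine ⟨hLs, ?_⟩
      rw [Nat.card_congr (Additive.toMul (α := K)), h.card, hM, Nat.card_eq_fintype_card]
      rfl
    exact hb.1
  -- the fourth power acts trivially
  have hS4 : ∀ x, cj g (cj g (cj g (cj g x))) = x := by
    intro x
    refine Additive.toMul.injective (Subtype.ext ?_)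
    show g * (g * (g * (g * (x.toMul : X) * g⁻¹) * g⁻¹) * g⁻¹) * g⁻¹ = x.toMul
    calc g * (g * (g * (g * (x.toMul : X) * g⁻¹) * g⁻¹) * g⁻¹) * g⁻¹ = g ^ 4 * x.toMul * (g ^ 4)⁻¹ := by
          simp only [pow_succ, pow_zero, one_mul, mul_assoc, mul_inv_rev]
      _ = _ := by rw [hK _ hg4 _ x.toMul.2, mul_inv_cancel_right]
  have hS3 : cj g x3 = x3 + x2 := (add_sub_cancel _ _).symm
  have hS2 : cj g x2 = x2 + x1 := (add_sub_cancel _ _).symm
  set r := cj g x1 - x1 with hr
  have hS1 : cj g x1 = x1 + r := (add_sub_cancel _ _).symm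
  obtain ⟨j, hjr⟩ : ∃ v : Fin 3 → ZMod 4, L v + L v = r := by
    have hr0 : (r.toMul : X) ∈ M := h.mem_of_pi r.toMul.2 (by
      show P r = 0
      rw [hr, map_sub, hPc, hP1, hv1, sub_self])
    obtain ⟨j, hj, hje⟩ := hrepM _ hr0
    obtain ⟨v, hv⟩ := hLs (Additive.ofMul ⟨j, hj⟩)
    exact ⟨v, by rw [hv]; exact Additive.toMul.injective (Subtype.ext hje)⟩
  have hfour' : ∀ y : Additive K, (4 : ZMod 4) • y = 0 := fun y => by
    rw [show (4 : ZMod 4) = 0 from rfl, zero_smul]
  have hrj : r = (2 * j 0) • x3 + (2 * j 1) • x2 + (2 * j 2) • x1 := by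
    rw [← hjr, hLeta j, hL]; dsimp; module
  have hrr : (2 : ZMod 4) • r = 0 := by
    calc (2 : ZMod 4) • r = (4 : ZMod 4) • (j 0 • x3 + j 1 • x2 + j 2 • x1) := by rw [hrj]; module
      _ = 0 := hfour' _
  have hSr : cj g r = r + (2 * j 0) • x2 + (2 * j 1) • x1 := by
    calc cj g r = (2 * j 0) • (x3 + x2) + (2 * j 1) • (x2 + x1) + (2 * j 2) • (x1 + r) := by
          nth_rw 1 [hrj]; simp only [map_add, map_smul, hS3, hS2, hS1]
      _ = (r + (2 * j 0) • x2 + (2 * j 1) • x1) + j 2 • ((2 : ZMod 4) • r) := by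
          nth_rw 2 [hrj]; module
      _ = _ := by rw [hrr, smul_zero, add_zero]
  have hcoef : 2 * j 0 = 0 ∧ 2 + 2 * j 1 = 0 := by
    have e := hS4 x3
    simp only [hS3, hS2, hS1, map_add, hSr] at e
    have e' : L ![0, 2 * j 0, 2 + 2 * j 1] = 0 := by
      rw [hL]
      have h6 : (6 : ZMod 4) = 2 := rfl
      calc (0 : ZMod 4) • x3 + (2 * j 0) • x2 + (2 + 2 * j 1) • x1
          = (x3 + x2 + (x2 + x1) + (x2 + x1 + (x1 + r)) +
              (x2 + x1 + (x1 + r) + (x1 + r + (r + (2 * j 0) • x2 + (2 * j 1) • x1)))) - x3 -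
              (4 : ZMod 4) • x2 - (4 : ZMod 4) • x1 - (4 : ZMod 4) • r := by module
        _ = 0 := by rw [e, sub_self, hfour', hfour', hfour']; simp
    rw [← map_zero L] at e'
    have e'' := hLi e'
    exact ⟨by simpa using congrFun e'' 1, by simpa using congrFun e'' 2⟩
  -- the determinant
  have hdet : 2 * j 2 = 2 := by
    let D : X →* ZMod 4 :=
      { toFun := fun x => LinearMap.det (cj x)
        map_one' := by
          have : cj 1 = LinearMap.id := LinearMap.ext fun a => Additive.toMul.injective (Subtype.ext (by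
            show (1 : X) * _ * (1 : X)⁻¹ = _
            simp))
          rw [this, LinearMap.det_id]
        map_mul' := fun x y => by
          rw [← LinearMap.det_comp]
          congr 1
          refine LinearMap.ext fun a => Additive.toMul.injective (Subtype.ext ?_)
          show x * y * _ * (x * y)⁻¹ = x * (y * _ * y⁻¹) * x⁻¹
          group }
    have hk : commutator X ⊔ centralizer (K : Set X) ≤ D.toHomUnits.ker := by
      refine sup_le (Abelianization.commutator_subset_ker _) fun x hx => ?_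
      rw [MonoidHom.mem_ker, Units.ext_iff]
      show LinearMap.det (cj x) = 1
      have : cj x = LinearMap.id := LinearMap.ext fun a => Additive.toMul.injective (Subtype.ext (by
        show x * (a.toMul : X) * x⁻¹ = a.toMul
        rw [← mem_centralizer_iff.1 hx _ a.toMul.2, mul_inv_cancel_right]))
      rw [this, LinearMap.det_id]
    have hD1 : LinearMap.det (cj g) = 1 := congrArg Units.val (MonoidHom.mem_ker.1 (hk hgD))
    let Le := LinearEquiv.ofBijective L ⟨hLi, hLs⟩
    let A : Matrix (Fin 3) (Fin 3) (ZMod 4) := !![1, 0, 0; 1, 1, 2 * j 1; 0, 1, 1 + 2 * j 2]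
    have hA : cj g = Le.toLinearMap ∘ₗ Matrix.toLin' A ∘ₗ Le.symm.toLinearMap := by
      refine LinearMap.ext fun y => ?_
      obtain ⟨v, rfl⟩ := Le.surjective y
      simp only [LinearMap.comp_apply, LinearEquiv.coe_coe, LinearEquiv.symm_apply_apply, Matrix.toLin'_apply]
      show cj g (L v) = L (A.mulVec v)
      have e : A.mulVec v = ![v 0, v 0 + v 1 + 2 * j 1 * v 2, v 1 + (1 + 2 * j 2) * v 2] := by
        ext i; fin_cases i <;> simp [A, Matrix.mulVec, dotProduct, Fin.sum_univ_three]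
      rw [e, hL]
      nth_rw 1 [hLeta v]
      rw [hL]
      simp only [map_add, map_smul, hS3, hS2, hS1]
      rw [hrj, hcoef.1]
      module
    rw [hA] at hD1
    have e := LinearMap.det_conj (Matrix.toLin' A) Le
    rw [e, LinearMap.det_toLin', Matrix.det_fin_three] at hD1
    simp [A] at hD1
    have key : ∀ a b : ZMod 4, 2 + 2 * b = 0 → 1 + 2 * a - 2 * b = 1 → 2 * a = 2 := by decide
    exact key _ _ hcoef.2 hD1
  have hj1 : 2 * j 1 = 2 := by
    have key : ∀ b : ZMod 4, 2 + 2 * b = 0 → 2 * b = 2 := by decide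
    exact key _ hcoef.2
  have hcj : ∀ v : Fin 3 → ZMod 4, cj g (L v) = L (matA4.mulVec v) := by
    intro v
    have e : matA4.mulVec v = ![v 0, v 0 + v 1 + 2 * v 2, v 1 + 3 * v 2] := by
      ext i; fin_cases i <;> simp [matA4, Matrix.mulVec, dotProduct, Fin.sum_univ_three]
    rw [e, hL]
    nth_rw 1 [hLeta v]
    rw [hL]
    simp only [map_add, map_smul, hS3, hS2, hS1]
    rw [hrj, hcoef.1, hdet, hj1]
    module
  have hN1 : ∀ v : Fin 3 → ZMod 4, v = 0 ∨ v = ![0, 0, 2] → ((L v).toMul : X) ∈ N := by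
    rintro v (rfl | rfl)
    · rw [map_zero]; exact one_mem N
    · rw [hL]
      have : ((0 : ZMod 4) • x3 + (0 : ZMod 4) • x2 + (2 : ZMod 4) • x1) = x1 + x1 := by module
      rw [this]
      exact hN _ x1.toMul.2 (Or.inr hP1)
  refine ⟨?_, ?_, ?_⟩
  · obtain ⟨v, hv⟩ := hLs (Additive.ofMul (⟨g ^ 4, hg4⟩ : K))
    have hfix : cj g (L v) = L v := by
      rw [hv]
      exact Additive.toMul.injective (Subtype.ext (show g * g ^ 4 * g⁻¹ = g ^ 4 by group))
    obtain ⟨a, ha⟩ := coord_facts.1 v (hLi (by rw [← hcj]; exact hfix))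
    refine ⟨((L a).toMul : X), (L a).toMul.2, ?_⟩
    have e : L a + cj g (cj g (L a)) + L v = 0 := by rw [hcj, hcj, ← map_add, ← map_add, ha, map_zero]
    rw [hv] at e
    have e' : ((L a).toMul : X) * (g * (g * (L a).toMul * g⁻¹) * g⁻¹) * g ^ 4 = 1 :=
      congrArg Subtype.val (congrArg Additive.toMul e)
    rw [← e', show g ^ 4 = g * g * (g * g) by simp only [pow_succ, pow_zero, one_mul, mul_assoc]]
    simp [mul_assoc]
  · intro k hk hkπ
    obtain ⟨v, hv⟩ := hLs (Additive.ofMul (⟨k, hk⟩ : K))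
    have hv2 : v + v = 0 ∨ v + v = ![0, 0, 2] := by
      rcases hkπ with e | e
      · left
        refine hLi ?_
        rw [map_zero, map_add, hv]
        exact (hP0 _).1 e
      · right
        refine hLi ?_
        rw [map_add, hv, hL]
        have e' := (hP0 (Additive.ofMul (⟨k, hk⟩ : K) - x1)).1 (by
          rw [map_sub, hP1, show P (Additive.ofMul (⟨k, hk⟩ : K)) = e1 from e, sub_self])
        rw [← sub_eq_zero, ← e']
        module
    have := hN1 _ (coord_facts.2.1 v hv2)
    rw [map_sub, ← hcj, ← hcj, hv, sub_eq_add_neg] at this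
    have e' : g * (g * k * g⁻¹) * g⁻¹ * k⁻¹ ∈ N := this
    convert e' using 1
    group
  · intro k hk hkπ
    obtain ⟨v, hv⟩ := hLs (Additive.ofMul (⟨k, hk⟩ : K))
    have h2 : (matA4.mulVec (matA4.mulVec v) - v) + (matA4.mulVec (matA4.mulVec v) - v) = 0 := by
      refine hLi ?_
      rw [map_zero, map_add, map_sub, ← hcj, ← hcj, hv]
      refine (hP0 _).1 ?_
      rw [map_sub, hPc, hPc, Matrix.mulVec_mulVec, ← map_mul]
      show (ρ (g * g)).mulVec (π k) - π k = 0
      rw [hkπ, sub_self]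
    have := hN1 _ (coord_facts.2.2 v h2)
    rw [map_add, ← hcj, ← hcj, hv] at this
    have e' : k * (g * (g * k * g⁻¹) * g⁻¹) ∈ N := this
    convert e' using 1
    group

end Cfsg.Agent.LinRad
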