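import Cfsg.Agent.LinRad.CaseF

/-!
The radical of a group with quotient the linear group of degree three over the field with two elements and
sectional rank at most four.
-/

set_option autoImplicit false
set_option maxHeartbeats 800000
set_option linter.unusedSectionVars false
set_option linter.style.haveILetI false

namespace Cfsg.Agent.LinRad

open Subgroup

universe u

/-- the possible radicals -/
def Good {X : Type*} [Group X] (Q : Subgroup X) : Prop :=
  ((∀ q ∈ Q, q * q = 1) ∧ (Nat.card Q = 8 ∨ Nat.card Q = 16)) ∨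
    (Nat.card Q = 32 ∧ (∀ a ∈ Q, ∀ b ∈ Q, a * b = b * a) ∧ Nat.card (Sq Q) = 2)

theorem Sq_map {X Y : Type*} [Group X] [Group Y] (f : X →* Y) (Q : Subgroup X) : Sq (Q.map f) = (Sq Q).map f := by
  refine le_antisymm (Sq_le ?_) (map_le_iff_le_comap.2 (Sq_le fun q hq => ?_))
  · rintro _ ⟨q, hq, rfl⟩
    exact ⟨q * q, mul_self_mem_Sq hq, map_mul f q q⟩
  · rw [mem_comap, map_mul]
    exact mul_self_mem_Sq (mem_map_of_mem f hq)

theorem card_quotient_lt {X : Type*} [Group X] [Finite X] (N : Subgroup X) [N.Normal] (hN : N ≠ ⊥) :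
    Nat.card (X ⧸ N) < Nat.card X := by
  rw [N.card_eq_card_quotient_mul_card_subgroup]
  have h1 : 1 < Nat.card N := (Subgroup.one_lt_card_iff_ne_bot N).2 hN
  have h2 : 0 < Nat.card (X ⧸ N) := Nat.card_pos
  nlinarith

theorem Setup.good : ∀ (n : ℕ) (X : Type u) [Group X] [Finite X] (Q : Subgroup X) [Q.Normal],
    Nat.card X = n → Setup X Q → Good Q := by
  intro n
  induction n using Nat.strong_induction_on with
  | _ n ih =>
  intro X _ _ Q _ hn S
  classical
  have IH : ∀ (N : Subgroup X) [N.Normal], N ≠ ⊥ → Setup (X ⧸ N) (Q.map (QuotientGroup.mk' N)) →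
      Good (Q.map (QuotientGroup.mk' N)) := by
    intro N _ hN hS
    haveI : (Q.map (QuotientGroup.mk' N)).Normal := ‹Q.Normal›.map _ (QuotientGroup.mk'_surjective N)
    exact ih _ (hn ▸ card_quotient_lt N hN) (X ⧸ N) _ rfl hS
  have hPQ := Sq_le_self Q
  obtain ⟨c, h7, hcQ⟩ := S.exists_seven
  by_cases hP0 : Sq Q = ⊥
  · have hexp : ∀ q ∈ Q, q * q = 1 := fun q hq => mem_bot.1 (hP0 ▸ mul_self_mem_Sq hq)
    obtain ⟨q, hq, hne⟩ := S.nc c h7 hcQ
    refine Or.inl ⟨hexp, ?_⟩
    rcases S.elementary h7 le_rfl hexp (comm_of_sq hexp) ⟨q, hq, hne⟩ with h | h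
    · exact Or.inl h.1
    · exact Or.inr h.1
  -- a minimal normal subgroup below the squares, of order two if possible
  obtain ⟨M, hMn, hMP, hM⟩ : ∃ M : Subgroup X, M.Normal ∧ M ≤ Sq Q ∧ (Nat.card M = 2 ∨
      (Eight Q M ∧ ∀ x ∈ Sq Q, x * x = 1 → (∀ g : X, g * x = x * g) → x = 1)) := by
    by_cases hz : ∃ z ∈ Sq Q, z ≠ 1 ∧ z * z = 1 ∧ ∀ g : X, g * z = z * g
    · obtain ⟨z, hzP, hz1, hz2, hzc⟩ := hz
      refine ⟨zpowers z, ⟨fun a ha g => ?_⟩, zpowers_le.2 hzP, Or.inl ?_⟩
      · obtain ⟨i, rfl⟩ := ha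
        have e : g * z ^ i * g⁻¹ = z ^ i := by
          rw [((show Commute g z from hzc g).zpow_right i).eq, mul_inv_cancel_right]
        show g * z ^ i * g⁻¹ ∈ zpowers z
        rw [e]; exact zpow_mem (mem_zpowers z) i
      · rw [Nat.card_zpowers]; exact orderOf_eq_prime (by rw [pow_two]; exact hz2) hz1
    push Not at hz
    obtain ⟨M, ⟨hMn, hMP, hM1⟩, hmin⟩ := Set.Finite.exists_minimal
      (Set.toFinite {N : Subgroup X | N.Normal ∧ N ≤ Sq Q ∧ N ≠ ⊥}) ⟨Sq Q, inferInstance, le_rfl, hP0⟩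
    haveI := hMn
    have hmin' : ∀ N : Subgroup X, N.Normal → N ≤ M → N = ⊥ ∨ N = M := fun N hN hNM =>
      or_iff_not_imp_left.2 fun h => le_antisymm hNM (hmin ⟨hN, hNM.trans hMP, h⟩ hNM)
    obtain ⟨hQc, hexp, -⟩ := SecFour.minimal_facts S.two (hMP.trans hPQ) hM1 hmin'
    have hfix : ∀ m ∈ M, (∀ g : X, g * m = m * g) → m = 1 := fun m hm h => by
      by_contra hne
      obtain ⟨g, hg⟩ := hz m (hMP hm) hne (hexp m hm)
      exact hg (h g)
    have hcen : ∀ q ∈ Q, ∀ m ∈ M, q * m = m * q := fun q hq m hm =>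
      (mem_centralizer_iff.1 (hQc hq) m hm).symm
    refine ⟨M, hMn, hMP, Or.inr ⟨⟨?_, hMP.trans hPQ, hexp, hcen, hfix⟩, fun x hx hx2 hxc => by
      by_contra hne
      obtain ⟨g, hg⟩ := hz x hx hne hx2
      exact hg (hxc g)⟩⟩
    have hmove : ∃ v ∈ M, c * v ≠ v * c := by
      by_contra! hh
      have := S.everywhere (centralizer (M : Set X)) hQc (x := c)
        (mem_centralizer_iff.2 fun m hm => (hh m hm).symm) hcQ
      exact hM1 ((Subgroup.eq_bot_iff_forall _).2 fun m hm => hfix m hm fun g =>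
        (mem_centralizer_iff.1 (this ▸ mem_top g) m hm).symm)
    rcases S.elementary h7 (hMP.trans hPQ) hexp hcen hmove with h | ⟨h16, v, hv, hv1, -, -, h⟩
    · exact h.1
    · rcases h with h | ⟨E, hEn, hEM, hvE, hE8⟩
      · exact absurd (hfix v hv h) hv1
      · exfalso
        rcases hmin' E hEn hEM with e | e
        · rw [e, card_bot] at hE8; omega
        · exact hvE (e ▸ hv)
  haveI := hMn
  have hMQ : M ≤ Q := hMP.trans hPQ
  have hM1 : M ≠ ⊥ := by
    rintro rfl
    rcases hM with h | ⟨h, -⟩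
    · rw [card_bot] at h; omega
    · have := h.card; rw [card_bot] at this; omega
  set mk := QuotientGroup.mk' M with hmk
  have h1 : ∀ x, mk x = 1 ↔ x ∈ M := fun x => QuotientGroup.eq_one_iff x
  have S' := S.quotient M hMQ fun c h7 hc => by
    obtain ⟨q, hq, hqn⟩ := S.moves_mod_Sq h7 hc
    exact ⟨q, hq, fun e => hqn (hMP e)⟩
  have hG := IH M hM1 S'
  have hcQ' := card_map_quotient M hMQ
  have hcP' := card_map_quotient M hMP
  rw [← Sq_map] at hcP'
  have hcommQ : (∀ a ∈ Q.map mk, ∀ b ∈ Q.map mk, a * b = b * a) →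
      ∀ a ∈ Q, ∀ b ∈ Q, a * b * a⁻¹ * b⁻¹ ∈ M := fun h a ha b hb => (h1 _).1 (by
    rw [map_mul, map_mul, map_mul, map_inv, map_inv, h _ (mem_map_of_mem mk ha) _ (mem_map_of_mem mk hb),
      mul_inv_cancel_right, mul_inv_cancel])
  have hM2exp : Nat.card M = 2 → ∀ m ∈ M, m * m = 1 := fun h2 m hm => by
    have := pow_card_eq_one' (x := (⟨m, hm⟩ : M))
    rw [h2, pow_two] at this
    exact congrArg Subtype.val this
  rcases hG with ⟨hexp, hcard⟩ | ⟨h32, hab, hP2⟩
  · have hsqM : ∀ q ∈ Q, q * q ∈ M := fun q hq => (h1 _).1 (by rw [map_mul]; exact hexp _ (mem_map_of_mem mk hq))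
    have hcomm := hcommQ (comm_of_sq hexp)
    have hPM : Sq Q = M := le_antisymm (Sq_le hsqM) hMP
    rcases hM with hM2 | ⟨hM8, hnoc⟩
    · have hMc := central_of_two hM2
      have hab := S.abelian hM2 hcomm (Sq_central (hM2exp hM2) (fun q _ m hm => hMc q m hm) hcomm)
      rcases hcard with h8 | h16
      · exfalso
        rcases S.top_section with ⟨-, ρ, π, h⟩ | ⟨hc, -⟩
        · choose rep hrep hrepπ using h.onto
          have hval : ∀ b ∈ Q, b * b = rep (π b) * rep (π b) := fun b hb => by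
            have hd : (rep (π b))⁻¹ * b ∈ M := hPM ▸ (h.pi_eq (hrep _) hb).1 (hrepπ _)
            calc b * b = rep (π b) * ((rep (π b))⁻¹ * b) * (rep (π b) * ((rep (π b))⁻¹ * b)) := by group
              _ = rep (π b) * rep (π b) * ((rep (π b))⁻¹ * b * ((rep (π b))⁻¹ * b)) :=
                  (show Commute ((rep (π b))⁻¹ * b) (rep (π b)) from (hMc _ _ hd).symm).mul_mul_mul_comm _ _
              _ = _ := by rw [hM2exp hM2 _ hd, mul_one]
          have hz := h.functional_zero (fun v => rep v * rep v) (fun v w => by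
            rw [← (show Commute (rep w) (rep v) from hab _ (hrep w) _ (hrep v)).mul_mul_mul_comm,
              hval _ (mul_mem (hrep v) (hrep w)), h.add _ (hrep v) _ (hrep w), hrepπ, hrepπ]) (fun g v => by
            have hgb := ‹Q.Normal›.conj_mem _ (hrep v) g
            have e := hval _ hgb
            rw [h.conj g _ (hrep v), hrepπ] at e
            show rep ((ρ g).mulVec v) * rep ((ρ g).mulVec v) = _
            rw [← e, show g * rep v * g⁻¹ * (g * rep v * g⁻¹) = g * (rep v * rep v) * g⁻¹ by group,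
              hMc g _ (hsqM _ (hrep v)), mul_inv_cancel_right])
          refine hP0 (le_bot_iff.1 (Sq_le fun q hq => ?_))
          rw [mem_bot, hval q hq]
          exact hz _
        · rw [hPM, hM2, ← hcQ', h8, hM2] at hc; omega
      · exact Or.inr ⟨by rw [← hcQ', h16, hM2], hab, by rw [hPM, hM2]⟩
    · exfalso
      rcases hcard with h8 | h16
      · rcases S.top_section with ⟨-, ρ, π, h⟩ | ⟨hc, -⟩
        · rw [hPM] at h
          have hQ64 : Nat.card Q = 64 := by rw [← hcQ', h8, hM8.card]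
          obtain ⟨σ, -, -, -, -, -, -, hab, hQ1⟩ := h.square_section hM8 hM8.exp
            (fun a ha b hb => (hM8.cen b hb a ha).symm) hsqM (by
              by_contra! hh
              have hle := SecFour.rank_bound S.rank Q ⊥ bot_le (fun k _ n hn => by rw [mem_bot] at hn; simp [hn])
                (fun k hk => mem_bot.2 (hh k hk))
              simp only [card_bot, mul_one] at hle
              omega)
          exact S.no_homocyclic M Q h hab hM8.card hQ1
            (fun g q hq => mul_mem (‹Q.Normal›.conj_mem q hq g) (inv_mem hq)) (fun q hq => pow_mem hq 4)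
            (fun g hg => (h.four_mem hg).1) (fun q hq hh => absurd (mul_mem hq hq) hh)
        · rw [hPM, hM8.card, ← hcQ', h8, hM8.card] at hc; omega
      · refine S.no_128 hM8 hPM (by rw [← hcQ', h16, hM8.card]) fun w hw hw2 hwc => ?_
        by_contra hwM
        have hw1 : w ≠ 1 := fun e => hwM (e ▸ one_mem M)
        haveI : (zpowers w).Normal := ⟨fun a ha g => by
          obtain ⟨i, rfl⟩ := ha
          show g * w ^ i * g⁻¹ ∈ zpowers w
          rw [((show Commute g w from hwc g).zpow_right i).eq, mul_inv_cancel_right]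
          exact zpow_mem (mem_zpowers w) i⟩
        have hwQ : zpowers w ≤ Q := zpowers_le.2 hw
        have Sw := S.quotient (zpowers w) hwQ fun d hd hdQ => by
          by_contra! hh
          obtain ⟨q, hq, hne⟩ := S.nc d hd hdQ
          refine hne ?_
          obtain ⟨i, hi⟩ := hh q hq
          refine fixed_of_step S.two hd (zpow_mem hw i) ((show Commute d w from hwc d).zpow_right i).eq ?_
          calc d * q * d⁻¹ = d * q * d⁻¹ * q⁻¹ * q := by group
            _ = w ^ i * q := by rw [← hi]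
            _ = q * w ^ i := ((show Commute q w from hwc q).zpow_right i).symm.eq
        have hG := IH (zpowers w) (fun e => hw1 (zpowers_eq_bot.1 e)) Sw
        have hc64 := card_map_quotient (zpowers w) hwQ
        rw [Nat.card_zpowers, orderOf_eq_prime (by rw [pow_two]; exact hw2) hw1, ← hcQ', h16, hM8.card] at hc64
        rcases hG with ⟨-, hh⟩ | ⟨hh, -⟩ <;> omega
  · have hq4 : ∀ q ∈ Q, q ^ 4 ∈ M := fun q hq => (h1 _).1 (by
      have hm : mk q * mk q ∈ Sq (Q.map mk) := mul_self_mem_Sq (mem_map_of_mem mk hq)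
      have := pow_card_eq_one' (x := (⟨_, hm⟩ : Sq (Q.map mk)))
      rw [hP2, pow_two] at this
      rw [map_pow, show (4 : ℕ) = 2 + 2 from rfl, pow_add, pow_two]
      exact congrArg Subtype.val this)
    exfalso
    rcases hM with hM2 | ⟨hM8, hnoc⟩
    · exact S.no_sixty_four hM2 hMP (by rw [← hcQ', h32, hM2]) (by rw [← hcP', hP2, hM2]) (hcommQ hab) hq4
    · exact S.no_256 hM8 hMP (by rw [← hcQ', h32, hM8.card]) (by rw [← hcP', hP2, hM8.card]) (hcommQ hab) hnoc

/-- The abelian group of order 32. -/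
theorem good_iso {X : Type*} [Group X] [Finite X] {Q : Subgroup X} (h32 : Nat.card Q = 32)
    (hab : ∀ a ∈ Q, ∀ b ∈ Q, a * b = b * a) (hP : Nat.card (Sq Q) = 2) :
    Nonempty (↥Q ≃* Multiplicative (ZMod 4) × (Fin 3 → Multiplicative (ZMod 2))) := by
  classical
  obtain ⟨z, hzP, hz1, hPall⟩ := card_two_elim hP
  have hz2 : z * z = 1 := by
    rcases hPall _ (mul_mem hzP hzP) with e | e
    · exact e
    · exact absurd (mul_eq_left.1 e) hz1
  obtain ⟨w, hw, hww⟩ : ∃ w ∈ Q, w * w = z := by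
    by_contra! hh
    have : Sq Q ≤ ⊥ := Sq_le fun q hq =>
      mem_bot.2 ((hPall _ (mul_self_mem_Sq hq)).resolve_right (hh q hq))
    exact hz1 (mem_bot.1 (this hzP))
  let D : Subgroup X :=
    { carrier := {x | x ∈ Q ∧ x * x = 1}
      one_mem' := ⟨one_mem Q, one_mul 1⟩
      mul_mem' := fun {a b} ha hb => ⟨mul_mem ha.1 hb.1, by
        rw [(show Commute b a from hab b hb.1 a ha.1).mul_mul_mul_comm, ha.2, hb.2, one_mul]⟩
      inv_mem' := fun {a} ha => ⟨inv_mem ha.1, by rw [← mul_inv_rev, ha.2, inv_one]⟩ }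
  have hwD : w ∉ D := fun e => hz1 (hww ▸ e.2)
  have hdec : ∀ q ∈ Q, q ∈ D ∨ w⁻¹ * q ∈ D := by
    intro q hq
    rcases hPall _ (mul_self_mem_Sq hq) with e | e
    · exact Or.inl ⟨hq, e⟩
    · refine Or.inr ⟨mul_mem (inv_mem hw) hq, ?_⟩
      rw [(show Commute q w⁻¹ from hab q hq _ (inv_mem hw)).mul_mul_mul_comm, e, ← mul_inv_rev, hww,
        inv_mul_cancel]
  have hzD : z ∈ D := ⟨hww ▸ mul_mem hw hw, hz2⟩
  obtain ⟨E, ⟨hED, hzE⟩, hmax⟩ := Set.Finite.exists_maximal
    (Set.toFinite {K : Subgroup X | K ≤ D ∧ z ∉ K}) ⟨⊥, bot_le, fun h => hz1 (mem_bot.1 h)⟩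
  have hsplit : ∀ d ∈ D, d ∈ E ∨ z * d ∈ E := by
    intro d hd
    by_contra! hh
    let K : Subgroup X :=
      { carrier := {x | x ∈ E ∨ ∃ e ∈ E, x = d * e}
        one_mem' := Or.inl (one_mem E)
        mul_mem' := by
          rintro a b (ha | ⟨ea, hea, rfl⟩) (hb | ⟨eb, heb, rfl⟩)
          · exact Or.inl (mul_mem ha hb)
          · exact Or.inr ⟨a * eb, mul_mem ha heb, by rw [← mul_assoc, hab a (hED ha).1 d hd.1, mul_assoc]⟩
          · exact Or.inr ⟨ea * b, mul_mem hea hb, mul_assoc _ _ _⟩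
          · exact Or.inl (by
              rw [(show Commute ea d from hab ea (hED hea).1 d hd.1).mul_mul_mul_comm, hd.2, one_mul]
              exact mul_mem hea heb)
        inv_mem' := by
          rintro a (ha | ⟨e, he, rfl⟩)
          · exact Or.inl (inv_mem ha)
          · exact Or.inr ⟨e⁻¹, inv_mem he, by
              rw [mul_inv_rev, inv_eq_of_mul_eq_one_right hd.2, hab _ (inv_mem (hED he).1) d hd.1]⟩ }
    have hzK : z ∉ K := by
      rintro (h | ⟨e, he, h⟩)
      · exact hzE h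
      · refine hh.2 ?_
        have : z * d = e := by
          rw [h, hab (d * e) (mul_mem hd.1 (hED he).1) d hd.1, ← mul_assoc, hd.2, one_mul]
        rw [this]; exact he
    have hKD : K ≤ D := by
      rintro x (h | ⟨e, he, rfl⟩)
      · exact hED h
      · exact mul_mem hd (hED he)
    exact hh.1 (hmax ⟨hKD, hzK⟩ (fun x hx => Or.inl hx) (Or.inr ⟨1, one_mem E, (mul_one d).symm⟩))
  have hw4 : w ^ 4 = 1 := by
    rw [show (4 : ℕ) = 2 + 2 from rfl, pow_add, pow_two, hww, hz2]
  let f : Multiplicative (ZMod 4) × ↥E →* ↥Q := MonoidHom.mk'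
    (fun p => ⟨w ^ p.1.toAdd.val * (p.2 : X), mul_mem (pow_mem hw _) (hED p.2.2).1⟩) (by
      rintro ⟨a, e⟩ ⟨b, e'⟩
      refine Subtype.ext ?_
      show w ^ (a * b).toAdd.val * ((e : X) * e') = w ^ a.toAdd.val * e * (w ^ b.toAdd.val * e')
      rw [(show Commute (e : X) (w ^ b.toAdd.val) from hab _ (hED e.2).1 _ (pow_mem hw _)).mul_mul_mul_comm,
        ← pow_add, toAdd_mul, ZMod.val_add, ← pow_eq_pow_mod _ hw4])
  have hfi : Function.Injective f := by
    rw [injective_iff_map_eq_one]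
    rintro ⟨a, e⟩ h
    have h' : w ^ a.toAdd.val * (e : X) = 1 := congrArg Subtype.val h
    have hlt := ZMod.val_lt a.toAdd
    have hwe : w ^ a.toAdd.val ∈ E := by rw [eq_inv_of_mul_eq_one_left h']; exact inv_mem e.2
    have ha : a.toAdd.val = 0 := by
      have key : ∀ i < 4, w ^ i ∈ E → i = 0 := by
        intro i hi hiE
        interval_cases i
        · rfl
        · exact absurd (hED (by simpa using hiE)) hwD
        · rw [pow_two, hww] at hiE; exact absurd hiE hzE
        · refine absurd ?_ hwD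
          have hd := hED hiE
          have : w = w ^ 3 * z := by
            rw [← hww, ← pow_two, ← pow_add, show 3 + 2 = 4 + 1 from rfl, pow_add, hw4, one_mul, pow_one]
          rw [this]; exact mul_mem hd hzD
      exact key _ hlt hwe
    refine Prod.ext ?_ ?_
    · show a = 1
      exact Multiplicative.toAdd.injective ((ZMod.val_eq_zero _).1 ha)
    · refine Subtype.ext ?_
      rw [ha, pow_zero, one_mul] at h'
      exact h'
  have hfs : Function.Surjective f := by
    rintro ⟨q, hq⟩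
    have hD : ∀ d ∈ D, ∃ i, i < 4 ∧ ∃ e ∈ E, d = w ^ i * e := by
      intro d hd
      rcases hsplit d hd with e | e
      · exact ⟨0, by norm_num, d, e, by simp⟩
      · exact ⟨2, by norm_num, _, e, by rw [pow_two, hww, ← mul_assoc, hz2, one_mul]⟩
    obtain ⟨i, e, he, rfl⟩ : ∃ i, ∃ e ∈ E, q = w ^ i * e := by
      rcases hdec q hq with h | h
      · obtain ⟨i, -, e, he, h'⟩ := hD q h; exact ⟨i, e, he, h'⟩
      · obtain ⟨i, -, e, he, h'⟩ := hD _ h
        exact ⟨i + 1, e, he, by rw [pow_succ', mul_assoc, ← h', mul_inv_cancel_left]⟩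
    refine ⟨(Multiplicative.ofAdd (i : ZMod 4), ⟨e, he⟩), Subtype.ext ?_⟩
    show w ^ ((i : ZMod 4)).val * e = w ^ i * e
    rw [ZMod.val_natCast, ← pow_eq_pow_mod _ hw4]
  have hE8 : Nat.card E = 8 := by
    have h := Nat.card_eq_of_bijective f ⟨hfi, hfs⟩
    rw [Nat.card_prod, h32, Nat.card_congr Multiplicative.toAdd, Nat.card_zmod] at h
    omega
  have hE2 : ∀ e : ↥E, e * e = 1 := fun e => Subtype.ext (hED e.2).2
  letI : CommGroup ↥E := { (inferInstance : Group ↥E) with
    mul_comm := fun a b => Subtype.ext (hab _ (hED a.2).1 _ (hED b.2).1) }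
  letI : Module (ZMod 2) (Additive ↥E) := AddCommGroup.zmodModule (fun x => by
    rw [two_nsmul]; exact congrArg Additive.ofMul (hE2 x.toMul))
  have hfr : Module.finrank (ZMod 2) (Additive ↥E) = 3 := by
    have h := Module.natCard_eq_pow_finrank (K := ZMod 2) (V := Additive ↥E)
    rw [Nat.card_congr Additive.toMul, hE8, Nat.card_zmod] at h
    exact Nat.pow_right_injective le_rfl (h.symm.trans (by norm_num : (8 : ℕ) = 2 ^ 3))
  let L : Additive ↥E ≃ₗ[ZMod 2] V3 := (Module.finBasisOfFinrankEq _ _ hfr).equivFun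
  let eE : ↥E ≃* (Fin 3 → Multiplicative (ZMod 2)) :=
    { toFun := fun x i => Multiplicative.ofAdd (L (Additive.ofMul x) i)
      invFun := fun v => (L.symm fun i => (v i).toAdd).toMul
      left_inv := fun x => by simp
      right_inv := fun v => by ext i; simp
      map_mul' := fun x y => by ext i; simp [map_add] }
  exact ⟨(MulEquiv.ofBijective f ⟨hfi, hfs⟩).symm.trans ((MulEquiv.refl _).prodCongr eE)⟩

end Cfsg.Agent.LinRad
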