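import Mathlib

/-!
The matrices of the linear group of degree three over the field with two elements that are used in the study of
2-groups acted on by that group.
-/

set_option autoImplicit false
set_option maxHeartbeats 800000
set_option synthInstance.maxSize 2048

namespace Cfsg.Agent.LinRad

abbrev V3 := Fin 3 → ZMod 2
abbrev M3 := Matrix (Fin 3) (Fin 3) (ZMod 2)

/-- first basis vector -/
def e1 : V3 := ![1, 0, 0]
/-- second basis vector -/
def e2 : V3 := ![0, 1, 0]
/-- third basis vector -/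
def e3 : V3 := ![0, 0, 1]

/-- the Jordan block -/
def matJ : M3 := !![1, 1, 0; 0, 1, 1; 0, 0, 1]
/-- a transvection with the centre of the square of the Jordan block -/
def matT : M3 := !![1, 1, 0; 0, 1, 0; 0, 0, 1]
/-- exchanging the last two coordinates -/
def matP : M3 := !![1, 0, 0; 0, 0, 1; 0, 1, 0]
/-- conjugating `matT` to `matT * matJ` -/
def matR : M3 := !![1, 0, 0; 1, 0, 1; 0, 1, 0]
/-- first factor of a commutator -/
def matA : M3 := !![0, 0, 1; 0, 1, 0; 1, 1, 0]
/-- second factor of a commutator -/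
def matB : M3 := !![0, 0, 1; 1, 0, 0; 1, 1, 1]
/-- an element of order three fixing the first basis vector -/
def matS : M3 := !![1, 0, 0; 0, 0, 1; 0, 1, 1]
/-- an element of order seven -/
def matC : M3 := !![0, 0, 1; 0, 1, 1; 1, 1, 0]

theorem card_det : Fintype.card {A : M3 // A.det = 1} = 168 := by decide +kernel

theorem dets : matJ.det = 1 ∧ matT.det = 1 ∧ matP.det = 1 ∧ matR.det = 1 ∧ matA.det = 1 ∧ matB.det = 1 ∧
    matS.det = 1 ∧ matC.det = 1 := by decide +kernel

theorem rel : matJ * matJ ≠ 1 ∧ matJ * matJ * (matJ * matJ) = 1 ∧ matP * matP = 1 ∧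
    (matP * matJ * matP) * (matP * matJ * matP) = matT ∧ matT * matT = 1 ∧
    matT * matJ * matT = matJ * matJ * matJ ∧ matR * matT = matT * matJ * matR ∧
    matA * matB = matJ * matB * matA := by decide +kernel

theorem centC : ∀ v : V3, matC.mulVec v = v → v = 0 := by decide +kernel

theorem act : matJ.mulVec e1 = e1 ∧ matJ.mulVec e2 = e1 + e2 ∧ matJ.mulVec e3 = e2 + e3 ∧
    (matP * matJ * matP).mulVec e1 = e1 := by decide +kernel

/-- the element of `matJ - 1` on the coordinates -/
theorem diffJ : ∀ v : V3, matJ.mulVec v + v = v 1 • e1 + v 2 • e2 := by decide +kernel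

theorem fixed_two : ∀ v : V3, matJ.mulVec (matJ.mulVec v) = v → matT.mulVec v = v → v = 0 ∨ v = e1 := by
  decide +kernel

theorem fixed_J : ∀ v : V3, matJ.mulVec v = v → v = 0 ∨ v = e1 := by decide +kernel

theorem point_transitive : ∀ v : V3, v ≠ 0 → ∃ A : M3, A.det = 1 ∧ A.mulVec e1 = v := by decide +kernel

theorem pair_transitive : ∀ v w : V3, v ≠ 0 → w ≠ 0 → v ≠ w →
    ∃ A : M3, A.det = 1 ∧ A.mulVec e1 = v ∧ A.mulVec e2 = w := by decide +kernel

theorem point_stab : ∀ v w : V3, v ≠ 0 → w ≠ 0 → v ≠ w → ∃ A : M3, A.det = 1 ∧ A.mulVec v = v ∧ A.mulVec w ≠ w := by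
  decide +kernel

/-- the transvection with axis spanned by `v` and `w` and centre `v` -/
def transvection (v w : V3) : M3 := fun i j => (if i = j then 1 else 0) + v i * crossProduct v w j

theorem line_stab : ∀ v w : V3, v ≠ 0 → w ≠ 0 → v ≠ w → (transvection v w).det = 1 ∧
    (transvection v w).mulVec v = v ∧ (transvection v w).mulVec w = w ∧
    ∀ u : V3, (transvection v w).mulVec u = u → u = 0 ∨ u = v ∨ u = w ∨ u = v + w := by decide +kernel

/-- the conjugate of the second element of order four by the Jordan block -/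
def matU3 : M3 := matJ * (matP * matJ * matP) * (matJ * matJ * matJ)

theorem fixed_P : ∀ v : V3, (matP * matJ * matP).mulVec v = v → v = 0 ∨ v = e1 := by decide +kernel

theorem fixed_U3 : ∀ v : V3, matU3.mulVec v = v → v = 0 ∨ v = e1 := by decide +kernel

theorem sq_diff : ∀ v : V3, ((matJ * matJ).mulVec v + v = 0 ∨ (matJ * matJ).mulVec v + v = e1) ∧
    (matT.mulVec v + v = 0 ∨ matT.mulVec v + v = e1) ∧
    ((matU3 * matU3).mulVec v + v = 0 ∨ (matU3 * matU3).mulVec v + v = e1) := by decide +kernel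

theorem axis_three : (matJ * matJ).mulVec e2 = e2 ∧ ∀ v : V3, (matU3 * matU3).mulVec v ≠ v →
    (matU3 * matU3).mulVec (e2 + v) = e2 + v := by decide +kernel

/-- a cyclic vector with its two images, for each of the three elements of order four -/
theorem cyclic_vectors :
    (matJ.mulVec e3 = e3 + e2 ∧ matJ.mulVec e2 = e2 + e1) ∧
    ((matP * matJ * matP).mulVec e2 = e2 + e3 ∧ (matP * matJ * matP).mulVec e3 = e3 + e1) ∧
    (matU3.mulVec (e1 + e2) = e1 + e2 + (e2 + e3) ∧ matU3.mulVec (e2 + e3) = e2 + e3 + e1 ∧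
      matU3.mulVec e1 = e1) ∧
    (∀ v : V3, ∃ a b c : ZMod 2, v = a • e3 + b • e2 + c • e1) ∧
    (∀ v : V3, ∃ a b c : ZMod 2, v = a • e2 + b • e3 + c • e1) ∧
    (∀ v : V3, ∃ a b c : ZMod 2, v = a • (e1 + e2) + b • (e2 + e3) + c • e1) := by decide +kernel

theorem seven_fixed : ∀ A : M3, A ^ 7 = 1 → A ≠ 1 → ∀ v : V3, A.mulVec v = v → v = 0 := by decide +kernel

theorem stab_gen : ∀ A : M3, A.det = 1 → A.mulVec e1 = e1 →
    ∃ i : Fin 3, ∃ j : Fin 2, ∃ k : Fin 4, A = matS ^ (i : ℕ) * matT ^ (j : ℕ) * matJ ^ (k : ℕ) := by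
  decide +kernel

theorem cube_S : matS * matS * matS = 1 := by decide +kernel

end Cfsg.Agent.LinRad
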