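import Cfsg.Agent.LinRad.Setting

/-!
Natural sections: equivariant maps between them are linear, and a section with a fixed element splits as soon as
an element of order four fixes a preimage of the fixed vector.
-/

set_option autoImplicit false
set_option maxHeartbeats 400000
set_option linter.unusedSectionVars false
set_option linter.style.haveILetI false

namespace Cfsg.Agent.LinRad

open Subgroup

variable {X : Type*} [Group X] [Finite X] {Q A B : Subgroup X} {ρ : X →* M3} {π : X → V3}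

theorem Model.pi_one (h : Model Q A B ρ π) : π 1 = 0 := (h.zero 1 B.one_mem).2 A.one_mem

theorem Model.pi_inv (h : Model Q A B ρ π) {b : X} (hb : b ∈ B) : π b⁻¹ = π b := by
  have e := h.add b hb b⁻¹ (inv_mem hb)
  rw [mul_inv_cancel, h.pi_one] at e
  have key : ∀ a x : V3, 0 = a + x → x = a := by decide
  exact key _ _ e

theorem Model.pi_eq (h : Model Q A B ρ π) {a b : X} (ha : a ∈ B) (hb : b ∈ B) : π a = π b ↔ a⁻¹ * b ∈ A := by
  rw [← h.zero _ (mul_mem (inv_mem ha) hb), h.add _ (inv_mem ha) _ hb, h.pi_inv ha]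
  have key : ∀ x y : V3, x = y ↔ x + y = 0 := by decide
  exact key _ _

theorem Model.mem_of_pi (h : Model Q A B ρ π) {b : X} (hb : b ∈ B) (hb0 : π b = 0) : b ∈ A :=
  (h.zero b hb).1 hb0

theorem Model.rho_eq (h : Model Q A B ρ π) {x y : X} (hxy : ρ x = ρ y) : x⁻¹ * y ∈ Q := by
  rw [← h.ker, map_mul, ← hxy, ← map_mul, inv_mul_cancel, map_one]

theorem Model.rho_nz (h : Model Q A B ρ π) (g : X) {v : V3} (hv : v ≠ 0) : (ρ g).mulVec v ≠ 0 := by
  intro e
  refine hv ?_
  calc v = (ρ g⁻¹).mulVec ((ρ g).mulVec v) := by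
        rw [Matrix.mulVec_mulVec, ← map_mul, inv_mul_cancel, map_one, Matrix.one_mulVec]
    _ = 0 := by rw [e, Matrix.mulVec_zero]

theorem Model.card (h : Model Q A B ρ π) : Nat.card B = 8 * Nat.card A := by
  let φ : ↥B →* Multiplicative V3 := MonoidHom.mk' (fun b => Multiplicative.ofAdd (π b))
    fun a b => by rw [Subgroup.coe_mul, h.add _ a.2 _ b.2, ofAdd_add]
  have hs : Function.Surjective φ := fun v => by
    obtain ⟨b, hb, e⟩ := h.onto v.toAdd
    exact ⟨⟨b, hb⟩, by simp [φ, e]⟩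
  have hk : φ.ker = A.subgroupOf B := by
    ext b
    rw [MonoidHom.mem_ker, mem_subgroupOf, ← h.zero _ b.2]
    exact ⟨fun e => Multiplicative.ofAdd.injective e, fun e => congrArg Multiplicative.ofAdd e⟩
  have e := φ.ker.card_mul_index
  rw [index_ker, MonoidHom.range_eq_top.2 hs, card_top, hk, Nat.card_congr (subgroupOfEquivOfLe h.le).toEquiv,
    Nat.card_congr Multiplicative.toAdd, Nat.card_eq_fintype_card (α := V3)] at e
  rw [← e, mul_comm]
  rfl

/-- The dichotomy for equivariant maps into a natural module. -/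
theorem Model.equiv_linear (h : Model Q A B ρ π) {M : Subgroup X} [M.Normal] (hM : Nat.card M = 8)
    (hMe : ∀ m ∈ M, m * m = 1) (hMc : ∀ m ∈ M, (∀ g : X, g * m = m * g) → m = 1) (f : V3 → X)
    (hf : ∀ v, f v ∈ M) (h0 : f 0 = 1) (heq : ∀ g v, g * f v * g⁻¹ = f ((ρ g).mulVec v)) :
    (∀ v, f v = 1) ∨ ((∀ v w, f (v + w) = f v * f w) ∧ (∀ v, f v = 1 → v = 0) ∧ ∀ m ∈ M, ∃ v, f v = m) := by
  by_cases h1 : f e1 = 1
  · left
    intro v
    rcases eq_or_ne v 0 with rfl | hv
    · exact h0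
    · obtain ⟨A', hA', e⟩ := point_transitive v hv
      obtain ⟨g, hg⟩ := h.surj A' hA'
      rw [← e, ← hg, ← heq, h1]
      group
  right
  have hne : ∀ v, f v = 1 → v = 0 := by
    intro v hv
    by_contra hv0
    obtain ⟨A', hA', e⟩ := point_transitive v hv0
    obtain ⟨g, hg⟩ := h.surj A' hA'
    rw [← e, ← hg, ← heq, mul_inv_eq_one, mul_eq_left] at hv
    exact h1 hv
  have hinj : ∀ v w, f v = f w → v = w := by
    intro v w e
    by_contra hne'
    have hv : v ≠ 0 := fun hv => hne' (hv ▸ (hne w (by rw [← e, hv, h0])).symm)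
    have hw : w ≠ 0 := fun hw => hne' (hw ▸ hne v (by rw [e, hw, h0]))
    obtain ⟨A', hA', ev, ew⟩ := pair_transitive v w hv hw hne'
    obtain ⟨x, hx⟩ := h.surj A' hA'
    have e12 : f e1 = f e2 := by
      have e' : x * f e1 * x⁻¹ = x * f e2 * x⁻¹ := by rw [heq, heq, hx, ev, ew, e]
      simpa using e'
    have hconst : ∀ u : V3, u ≠ 0 → f u = f e1 := by
      intro u hu
      rcases eq_or_ne u e1 with rfl | hu1
      · rfl
      obtain ⟨A'', hA'', ev', ew'⟩ := pair_transitive e1 u (by decide) hu (Ne.symm hu1)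
      obtain ⟨y, hy⟩ := h.surj A'' hA''
      calc f u = y * f e2 * y⁻¹ := by rw [heq, hy, ew']
        _ = y * f e1 * y⁻¹ := by rw [e12]
        _ = f e1 := by rw [heq, hy, ev']
    refine h1 (hMc _ (hf _) fun g => ?_)
    have := hconst _ (h.rho_nz g (by decide : e1 ≠ 0))
    rw [← heq] at this
    exact mul_inv_eq_iff_eq_mul.1 this
  refine ⟨fun v w => ?_, hne, fun m hm => ?_⟩
  · rcases eq_or_ne v 0 with rfl | hv
    · rw [zero_add, h0, one_mul]
    rcases eq_or_ne w 0 with rfl | hw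
    · rw [add_zero, h0, mul_one]
    rcases eq_or_ne v w with rfl | hvw
    · rw [hMe _ (hf v), show v + v = 0 by ext i; exact CharTwo.add_self_eq_zero _, h0]
    obtain ⟨htd, htv, htw, htu⟩ := line_stab v w hv hw hvw
    obtain ⟨t, ht⟩ := h.surj _ htd
    obtain ⟨u, hu⟩ : ∃ u, f u = f v * f w := by
      have hbij : Function.Bijective (fun v => (⟨f v, hf v⟩ : M)) := by
        rw [Nat.bijective_iff_injective_and_card]
        exact ⟨fun a b e => hinj a b (congrArg Subtype.val e), by rw [hM, Nat.card_eq_fintype_card]; rfl⟩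
      obtain ⟨u, hu⟩ := hbij.2 ⟨f v * f w, mul_mem (hf v) (hf w)⟩
      exact ⟨u, congrArg Subtype.val hu⟩
    have hfix : (ρ t).mulVec u = u := by
      refine hinj _ _ ?_
      rw [← heq, hu]
      calc t * (f v * f w) * t⁻¹ = t * f v * t⁻¹ * (t * f w * t⁻¹) := by group
        _ = f v * f w := by rw [heq, heq, ht, htv, htw]
    rw [ht] at hfix
    rcases htu u hfix with rfl | rfl | rfl | rfl
    · rw [h0] at hu
      have h2 : f v = f w :=
        (eq_inv_of_mul_eq_one_left hu.symm).trans (inv_eq_of_mul_eq_one_right (hMe _ (hf w)))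
      exact absurd (hinj _ _ h2) hvw
    · exact absurd (hne w (mul_eq_left.1 hu.symm)) hw
    · exact absurd (hne v (mul_eq_right.1 hu.symm)) hv
    · exact hu
  · have hbij : Function.Bijective (fun v => (⟨f v, hf v⟩ : M)) := by
      rw [Nat.bijective_iff_injective_and_card]
      exact ⟨fun a b e => hinj a b (congrArg Subtype.val e), by rw [hM, Nat.card_eq_fintype_card]; rfl⟩
    obtain ⟨v, hv⟩ := hbij.2 ⟨m, hm⟩
    exact ⟨v, congrArg Subtype.val hv⟩

/-- two equivariant bijections from the natural module coincide -/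
theorem Model.equiv_unique (h : Model Q A B ρ π) (f f' : V3 → X) (hinj : ∀ v w, f v = f w → v = w)
    (hs : ∀ v, ∃ w, f' v = f w) (h0 : f 0 = 1) (hne' : ∀ v, f' v = 1 → v = 0) (h0' : f' 0 = 1)
    (heq : ∀ g v, g * f v * g⁻¹ = f ((ρ g).mulVec v))
    (heq' : ∀ g v, g * f' v * g⁻¹ = f' ((ρ g).mulVec v)) : ∀ v, f' v = f v := by
  intro v
  obtain ⟨w, hw⟩ := hs v
  rcases eq_or_ne v 0 with rfl | hv
  · rw [h0, h0']
  rcases eq_or_ne w v with rfl | hwv
  · exact hw
  have hw0 : w ≠ 0 := fun e => hv (hne' v (by rw [hw, e, h0]))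
  obtain ⟨A', hA', ev, ew⟩ := point_stab v w hv hw0 (Ne.symm hwv)
  obtain ⟨g, hg⟩ := h.surj A' hA'
  refine absurd (hinj _ _ ?_) ew
  rw [← hg, ← heq, ← hw, heq', hg, ev, hw]

/-- the natural module that is the image of an equivariant bijection -/
theorem Model.ofMap (h : Model Q A B ρ π) {M : Subgroup X} [M.Normal] (hMQ : M ≤ Q) (f : V3 → X)
    (hadd : ∀ v w, f (v + w) = f v * f w) (hne : ∀ v, f v = 1 → v = 0) (hf : ∀ v, f v ∈ M)
    (hs : ∀ m ∈ M, ∃ v, f v = m) (heq : ∀ g v, g * f v * g⁻¹ = f ((ρ g).mulVec v)) :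
    ∃ π' : X → V3, Model Q ⊥ M ρ π' ∧ ∀ v, π' (f v) = v := by
  classical
  have h0 : f 0 = 1 := by
    have e := hadd 0 0
    rwa [add_zero, eq_comm, mul_eq_left] at e
  have hinj : ∀ v w, f v = f w → v = w := by
    intro v w e
    have h2 : f (v + w) = 1 := by
      rw [hadd, e, ← hadd, show w + w = 0 by ext i; exact CharTwo.add_self_eq_zero _, h0]
    have key : ∀ v w : V3, v + w = 0 → v = w := by decide
    exact key _ _ (hne _ h2)
  refine ⟨Function.invFun f, ⟨bot_le, hMQ, h.det, h.ker, h.surj, ?_, ?_, ?_, ?_⟩,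
    Function.leftInverse_invFun (fun a b e => hinj a b e)⟩
  · intro a ha b hb
    obtain ⟨v, rfl⟩ := hs a ha
    obtain ⟨w, rfl⟩ := hs b hb
    rw [← hadd, Function.leftInverse_invFun (fun a b e => hinj a b e), Function.leftInverse_invFun (fun a b e => hinj a b e),
      Function.leftInverse_invFun (fun a b e => hinj a b e)]
  · intro b hb
    obtain ⟨v, rfl⟩ := hs b hb
    rw [Function.leftInverse_invFun (fun a b e => hinj a b e), mem_bot]
    exact ⟨fun e => e ▸ h0, hne v⟩
  · exact fun v => ⟨f v, hf v, Function.leftInverse_invFun (fun a b e => hinj a b e) v⟩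
  · intro g b hb
    obtain ⟨v, rfl⟩ := hs b hb
    rw [heq, Function.leftInverse_invFun (fun a b e => hinj a b e), Function.leftInverse_invFun (fun a b e => hinj a b e)]

/-- A section with a fixed element splits if an element of order four fixes a preimage of the fixed vector. -/
theorem Model.split [hAn : A.Normal] {D : Subgroup X} [D.Normal] {u : X} (h : Model Q B D ρ π)
    (hAB : A ≤ B) (hu : u ∈ B) (huA : u ∉ A) (hB : ∀ b ∈ B, b ∈ A ∨ u⁻¹ * b ∈ A)
    (hsq : ∀ d ∈ D, d * d ∈ A) (hcen : ∀ g : X, g * u * g⁻¹ * u⁻¹ ∈ A)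
    (hQD : ∀ q ∈ Q, ∀ d ∈ D, q * d * q⁻¹ * d⁻¹ ∈ A)
    {g k : X} (hg : ρ g = matJ) (hk : k ∈ D) (hk1 : π k = e1) (hgk : g * k * g⁻¹ * k⁻¹ ∈ A) :
    ∃ E : Subgroup X, E.Normal ∧ A ≤ E ∧ E ≤ D ∧ u ∉ E ∧ Model Q A E ρ π ∧ Nat.card D = 2 * Nat.card E := by
  classical
  set mk := QuotientGroup.mk' A with hmk
  have h1 : ∀ x, mk x = 1 ↔ x ∈ A := fun x => QuotientGroup.eq_one_iff x
  have hcl : ∀ x y : X, mk x = mk y ↔ x * y⁻¹ ∈ A := fun x y => by
    rw [← h1, map_mul, map_inv, mul_inv_eq_one]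
  have huu : mk u * mk u = 1 := by rw [← map_mul]; exact (h1 _).2 (hsq u (h.le hu))
  have hu1 : mk u ≠ 1 := fun e => huA ((h1 u).1 e)
  have huc : ∀ x, mk x * mk u * (mk x)⁻¹ = mk u := fun x => by
    rw [← map_inv, ← map_mul, ← map_mul, hcl]; exact hcen x
  have hcong : ∀ {x y : X}, x ∈ D → y ∈ D → π x = π y → mk y = mk x ∨ mk y = mk x * mk u := by
    intro x y hx hy e
    rcases hB _ ((h.pi_eq hx hy).1 e) with h' | h'
    · exact Or.inl (inv_mul_eq_one.1 (by rw [← map_inv, ← map_mul]; exact (h1 _).2 h')).symm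
    · refine Or.inr (inv_mul_eq_one.1 ?_).symm
      rw [← map_mul, ← map_inv, ← map_mul, h1]
      have h'' := hAn.conj_mem _ h' (1 : X)
      simpa [mul_assoc] using h''
  let R : Subgroup X :=
    { carrier := {x | mk x * mk k = mk k * mk x}
      one_mem' := by simp
      mul_mem' := fun {a b} ha hb => by
        show mk (a * b) * mk k = mk k * mk (a * b)
        rw [map_mul]; exact (show Commute (mk a) (mk k) from ha).mul_left hb
      inv_mem' := fun {a} ha => by
        show mk a⁻¹ * mk k = mk k * mk a⁻¹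
        rw [map_inv]; exact (show Commute (mk a) (mk k) from ha).inv_left }
  have hRmem : ∀ x, x ∈ R ↔ mk x * mk k * (mk x)⁻¹ = mk k := fun x => mul_inv_eq_iff_eq_mul.symm
  have hQR : Q ≤ R := fun q hq => (hRmem q).2 (by
    rw [← map_inv, ← map_mul, ← map_mul, hcl]; exact hQD q hq k hk)
  have hsqR : ∀ x, (ρ x).mulVec e1 = e1 → x * x ∈ R := by
    intro x hx
    rw [hRmem]
    have e : π (x * k * x⁻¹) = π k := by rw [h.conj x k hk, hk1, hx]
    have hxk : x * k * x⁻¹ ∈ D := ‹D.Normal›.conj_mem k hk x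
    have hxx : mk (x * x) * mk k * (mk (x * x))⁻¹ = mk x * mk (x * k * x⁻¹) * (mk x)⁻¹ := by
      simp only [map_mul, map_inv]; group
    rcases hcong hk hxk e.symm with h' | h'
    · rw [hxx, h']
      calc mk x * mk k * (mk x)⁻¹ = mk (x * k * x⁻¹) := by simp only [map_mul, map_inv]
        _ = mk k := h'
    · rw [hxx, h']
      calc mk x * (mk k * mk u) * (mk x)⁻¹ = mk (x * k * x⁻¹) * (mk x * mk u * (mk x)⁻¹) := by
            simp only [map_mul, map_inv]; group
        _ = mk k * mk u * mk u := by rw [h', huc]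
        _ = mk k := by rw [mul_assoc, huu, mul_one]
  have hstab : ∀ x, (ρ x).mulVec e1 = e1 → x ∈ R := by
    intro x hx
    obtain ⟨i, j, l, e⟩ := stab_gen (ρ x) (h.det x) hx
    obtain ⟨s, hs⟩ := h.surj matS dets.2.2.2.2.2.2.1
    obtain ⟨p, hp⟩ := h.surj (matP * matJ * matP) (by rw [Matrix.det_mul, Matrix.det_mul, dets.1, dets.2.2.1]; rfl)
    have hs4 : ρ (s * s * (s * s)) = matS := by
      rw [map_mul, map_mul, hs]
      calc matS * matS * (matS * matS) = matS * matS * matS * matS := by simp only [mul_assoc]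
        _ = matS := by rw [cube_S, one_mul]
    have hsR : s * s * (s * s) ∈ R :=
      hsqR _ (by rw [map_mul, hs, ← Matrix.mulVec_mulVec]; decide +kernel)
    have hpR : p * p ∈ R := hsqR _ (by rw [hp]; exact act.2.2.2)
    have hgR : g ∈ R := (hRmem g).2 (by rw [← map_inv, ← map_mul, ← map_mul, hcl]; exact hgk)
    have hρ : ρ ((s * s * (s * s)) ^ (i : ℕ) * (p * p) ^ (j : ℕ) * g ^ (l : ℕ)) = ρ x := by
      rw [map_mul, map_mul, map_pow, map_pow, map_pow, hs4, hg, map_mul, hp, rel.2.2.2.1, e]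
    have := R.mul_mem (mul_mem (mul_mem (pow_mem hsR (i : ℕ)) (pow_mem hpR (j : ℕ))) (pow_mem hgR (l : ℕ)))
      (hQR (h.rho_eq hρ))
    rwa [mul_inv_cancel_left] at this
  -- the two equivariant sections
  have hex : ∀ v : V3, v ≠ 0 → ∃ x : X, (ρ x).mulVec e1 = v := fun v hv => by
    obtain ⟨A', hA', e⟩ := point_transitive v hv
    obtain ⟨x, hx⟩ := h.surj A' hA'
    exact ⟨x, hx ▸ e⟩
  choose! ch hch using hex
  let s : V3 → X ⧸ A := fun v => if v = 0 then 1 else mk (ch v * k * (ch v)⁻¹)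
  have hse : ∀ x : X, s ((ρ x).mulVec e1) = mk x * mk k * (mk x)⁻¹ := by
    intro x
    have hne : (ρ x).mulVec e1 ≠ 0 := h.rho_nz x (by decide)
    simp only [s, if_neg hne]
    have hr : (ch ((ρ x).mulVec e1))⁻¹ * x ∈ R := hstab _ (by
      rw [map_mul, ← Matrix.mulVec_mulVec]
      nth_rw 2 [← hch _ hne]
      rw [Matrix.mulVec_mulVec, ← map_mul, inv_mul_cancel, map_one, Matrix.one_mulVec])
    rw [hRmem, map_mul, map_inv] at hr
    simp only [map_mul, map_inv]
    generalize mk (ch ((ρ x).mulVec e1)) = y at hr ⊢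
    calc y * mk k * y⁻¹ = y * (y⁻¹ * mk x * mk k * (y⁻¹ * mk x)⁻¹) * y⁻¹ := by rw [hr]
      _ = mk x * mk k * (mk x)⁻¹ := by group
  have heq : ∀ x v, mk x * s v * (mk x)⁻¹ = s ((ρ x).mulVec v) := by
    intro x v
    rcases eq_or_ne v 0 with rfl | hv
    · simp [s]
    · rw [← hch v hv, hse, Matrix.mulVec_mulVec, ← map_mul ρ, hse, map_mul]
      group
  have hrep : ∀ v, ∃ d ∈ D, s v = mk d ∧ π d = v := by
    intro v
    rcases eq_or_ne v 0 with rfl | hv
    · exact ⟨1, one_mem D, by simp [s], h.pi_one⟩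
    · refine ⟨ch v * k * (ch v)⁻¹, ‹D.Normal›.conj_mem k hk _, by simp [s, hv], ?_⟩
      rw [h.conj _ k hk, hk1, hch v hv]
  obtain ⟨s', heq', hrep', hadd⟩ : ∃ s' : V3 → X ⧸ A, (∀ x v, mk x * s' v * (mk x)⁻¹ = s' ((ρ x).mulVec v)) ∧
      (∀ v, ∃ d ∈ D, s' v = mk d ∧ π d = v) ∧ ∀ v w, s' (v + w) = s' v * s' w := by
    have hinv : ∀ d ∈ D, mk d * mk d = 1 := fun d hd => by rw [← map_mul]; exact (h1 _).2 (hsq d hd)
    have hss : ∀ v, s v * s v = 1 := fun v => by
      obtain ⟨d, hd, e, _⟩ := hrep v; rw [e]; exact hinv d hd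
    have hcm : ∀ v, s v * mk u = mk u * s v := by
      intro v
      obtain ⟨d, hd, e, _⟩ := hrep v
      rw [e]
      exact mul_inv_eq_iff_eq_mul.1 (huc d)
    have hs0 : s 0 = 1 := by simp [s]
    have hsum : ∀ v w : V3, v ≠ 0 → w ≠ 0 → v ≠ w →
        s (v + w) = s v * s w ∨ s (v + w) = s v * s w * mk u := by
      intro v w hv hw hvw
      obtain ⟨a, ha, ea, pa⟩ := hrep v
      obtain ⟨b, hb, eb, pb⟩ := hrep w
      obtain ⟨d, hd, ed, pd⟩ := hrep (v + w)
      rw [ea, eb, ed, ← map_mul]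
      exact hcong (mul_mem ha hb) hd (by rw [h.add a ha b hb, pa, pb, pd])
    by_cases hδ : s (e1 + e2) = s e1 * s e2
    · refine ⟨s, heq, hrep, fun v w => ?_⟩
      rcases eq_or_ne v 0 with rfl | hv
      · rw [zero_add, hs0, one_mul]
      rcases eq_or_ne w 0 with rfl | hw
      · rw [add_zero, hs0, mul_one]
      rcases eq_or_ne v w with rfl | hvw
      · rw [hss, show v + v = 0 by ext i; exact CharTwo.add_self_eq_zero _, hs0]
      obtain ⟨A', hA', ev, ew⟩ := pair_transitive v w hv hw hvw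
      obtain ⟨x, hx⟩ := h.surj A' hA'
      rw [← ev, ← ew, ← hx, ← Matrix.mulVec_add, ← heq, ← heq, ← heq, hδ]
      group
    · have hδ' := (hsum e1 e2 (by decide) (by decide) (by decide)).resolve_left hδ
      refine ⟨fun v => if v = 0 then 1 else s v * mk u, fun x v => ?_, fun v => ?_, fun v w => ?_⟩
      · rcases eq_or_ne v 0 with rfl | hv
        · simp
        · simp only [if_neg hv, if_neg (h.rho_nz x hv)]
          rw [← heq]
          nth_rw 2 [← huc x]
          group
      · rcases eq_or_ne v 0 with rfl | hv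
        · exact ⟨1, one_mem D, by simp, h.pi_one⟩
        · obtain ⟨d, hd, e, pd⟩ := hrep v
          refine ⟨d * u, mul_mem hd (h.le hu), ?_, ?_⟩
          · show (if v = 0 then 1 else s v * mk u) = _
            rw [if_neg hv, e, map_mul]
          · rw [h.add d hd u (h.le hu), (h.zero u (h.le hu)).2 hu, pd, add_zero]
      · dsimp only
        rcases eq_or_ne v 0 with rfl | hv
        · simp
        rcases eq_or_ne w 0 with rfl | hw
        · simp
        rcases eq_or_ne v w with rfl | hvw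
        · rw [if_pos (show v + v = 0 by ext i; exact CharTwo.add_self_eq_zero _), if_neg hv]
          calc (1 : X ⧸ A) = s v * s v * (mk u * mk u) := by rw [hss, huu, one_mul]
            _ = s v * mk u * (s v * mk u) := by
              simp only [mul_assoc]
              rw [← mul_assoc (mk u) (s v), ← hcm v, mul_assoc]
        have hvw' : v + w ≠ 0 := fun e => hvw (by
          have key : ∀ v w : V3, v + w = 0 → v = w := by decide
          exact key _ _ e)
        rw [if_neg hvw', if_neg hv, if_neg hw]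
        obtain ⟨A', hA', ev, ew⟩ := pair_transitive v w hv hw hvw
        obtain ⟨x, hx⟩ := h.surj A' hA'
        have hcalc : s (v + w) = s v * s w * mk u := by
          calc s (v + w) = mk x * s (e1 + e2) * (mk x)⁻¹ := by rw [heq, hx, Matrix.mulVec_add, ev, ew]
            _ = mk x * s e1 * (mk x)⁻¹ * (mk x * s e2 * (mk x)⁻¹) * (mk x * mk u * (mk x)⁻¹) := by
              rw [hδ']; group
            _ = s v * s w * mk u := by rw [heq, heq, huc, hx, ev, ew]
        rw [hcalc, show s v * mk u * (s w * mk u) = s v * (mk u * s w) * mk u by group, ← hcm w]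
        group
  have hs0' : s' 0 = 1 := by
    have e := hadd 0 0
    rwa [add_zero, eq_comm, mul_eq_left] at e
  let E : Subgroup X :=
    { carrier := {x | x ∈ D ∧ mk x = s' (π x)}
      one_mem' := ⟨one_mem D, by rw [map_one, h.pi_one, hs0']⟩
      mul_mem' := fun {a b} ha hb => ⟨mul_mem ha.1 hb.1, by
        rw [map_mul, h.add a ha.1 b hb.1, hadd, ha.2, hb.2]⟩
      inv_mem' := fun {a} ha => ⟨inv_mem ha.1, by
        rw [map_inv, h.pi_inv ha.1, ← ha.2]
        exact inv_eq_of_mul_eq_one_right (by rw [← map_mul]; exact (h1 _).2 (hsq a ha.1))⟩ }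
  have hπB : ∀ b ∈ B, π b = 0 := fun b hb => (h.zero b (h.le hb)).2 hb
  have hAE : A ≤ E := fun a ha => ⟨h.le (hAB ha), by rw [(h1 a).2 ha, hπB a (hAB ha), hs0']⟩
  have hM : Model Q A E ρ π := by
    refine ⟨hAE, fun x hx => h.leQ hx.1, h.det, h.ker, h.surj, fun a ha b hb => h.add a ha.1 b hb.1, ?_, ?_,
      fun g b hb => h.conj g b hb.1⟩
    · intro b hb
      exact ⟨fun e => (h1 b).1 (by rw [hb.2, e, hs0']), fun e => hπB b (hAB e)⟩
    · intro v
      obtain ⟨d, hd, e, pd⟩ := hrep' v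
      exact ⟨d, ⟨hd, by rw [pd, e]⟩, pd⟩
  have hEn : E.Normal := by
    refine ⟨fun x hx g => ⟨‹D.Normal›.conj_mem x hx.1 g, ?_⟩⟩
    rw [h.conj g x hx.1, map_mul, map_mul, map_inv, hx.2, heq']
  refine ⟨E, hEn, hAE, fun x hx => hx.1, fun hx => hu1 ?_, hM, ?_⟩
  · rw [hx.2, hπB u hu, hs0']
  · have hB2 : Nat.card B = 2 * Nat.card A := by
      let f : Bool × A → B := fun p => ⟨(if p.1 then u else 1) * p.2, mul_mem (by split_ifs <;> simp [hu]) (hAB p.2.2)⟩
      rw [← Nat.card_eq_of_bijective f ⟨?_, ?_⟩, Nat.card_prod, Nat.card_eq_fintype_card (α := Bool), Fintype.card_bool]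
      · rintro ⟨b, a⟩ ⟨b', a'⟩ e
        have e' := congrArg Subtype.val e
        cases b <;> cases b' <;> simp [f] at e'
        · exact Prod.ext rfl e'
        · exact absurd (show u ∈ A by
            rw [show u = (a : X) * (a' : X)⁻¹ by rw [e']; group]; exact mul_mem a.2 (inv_mem a'.2)) huA
        · exact absurd (show u ∈ A by
            rw [show u = (a' : X) * (a : X)⁻¹ by rw [← e']; group]; exact mul_mem a'.2 (inv_mem a.2)) huA
        · exact Prod.ext rfl e'
      · rintro ⟨b, hb⟩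
        rcases hB b hb with h' | h'
        · exact ⟨(false, ⟨b, h'⟩), Subtype.ext (by simp [f])⟩
        · exact ⟨(true, ⟨_, h'⟩), Subtype.ext (by simp [f])⟩
    rw [h.card, hM.card, hB2]
    ring

end Cfsg.Agent.LinRad
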