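import Cfsg.Agent.LinRad.Mat
import Cfsg.Agent.SecFour.Basic
import Cfsg.Agent.SecFour.Main
import Cfsg.Agent.Coprime.Basic
import Cfsg.Agent.Core.Frattini

/-!
A finite group with a normal 2-subgroup whose quotient is simple of order 168 and acts non-trivially on that
subgroup: fixed points of an element of order seven, orbits of size eight, and natural sections.
-/

set_option autoImplicit false
set_option maxHeartbeats 400000
set_option linter.unusedSectionVars false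
set_option linter.style.haveILetI false

namespace Cfsg.Agent.LinRad

open Subgroup

variable {X : Type*} [Group X]

/-- the setting -/
structure Setup (X : Type*) [Group X] (Q : Subgroup X) : Prop where
  two : IsPGroup 2 Q
  rank : Cfsg.SectionalPRankLE 2 4 X
  idx : Q.index = 168
  top : ∀ N : Subgroup X, N.Normal → Q ≤ N → N = Q ∨ N = ⊤
  nc : ∀ c : X, c ^ 7 = 1 → c ∉ Q → ∃ q ∈ Q, c * q ≠ q * c

/-- the subgroup generated by the squares of the elements of `Q` -/
def Sq (Q : Subgroup X) : Subgroup X := closure {x | ∃ q ∈ Q, q * q = x}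

theorem mul_self_mem_Sq {Q : Subgroup X} {q : X} (hq : q ∈ Q) : q * q ∈ Sq Q :=
  subset_closure ⟨q, hq, rfl⟩

theorem Sq_le {Q N : Subgroup X} (h : ∀ q ∈ Q, q * q ∈ N) : Sq Q ≤ N := by
  rw [Sq, closure_le]
  rintro _ ⟨q, hq, rfl⟩
  exact h q hq

theorem Sq_le_self (Q : Subgroup X) : Sq Q ≤ Q := Sq_le fun _ hq => mul_mem hq hq

instance Sq_normal (Q : Subgroup X) [Q.Normal] : (Sq Q).Normal := by
  refine ⟨fun x hx g => ?_⟩
  have h : Sq Q ≤ (Sq Q).comap (MulAut.conj g).toMonoidHom := Sq_le fun q hq => by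
    have := mul_self_mem_Sq (‹Q.Normal›.conj_mem q hq g)
    show g * (q * q) * g⁻¹ ∈ Sq Q
    rwa [show g * (q * q) * g⁻¹ = g * q * g⁻¹ * (g * q * g⁻¹) by group]
  exact h hx

/-- an element fixed modulo an element of a 2-group that it fixes is fixed by an element of order seven -/
theorem fixed_of_step {Q : Subgroup X} (h2 : IsPGroup 2 Q) {c y d : X} (h7 : c ^ 7 = 1) (hd : d ∈ Q)
    (hcd : c * d = d * c) (hy : c * y * c⁻¹ = y * d) : c * y = y * c := by
  have key : ∀ n : ℕ, c ^ n * y * (c ^ n)⁻¹ = y * d ^ n := by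
    intro n
    induction n with
    | zero => simp
    | succ n ih =>
      calc c ^ (n + 1) * y * (c ^ (n + 1))⁻¹ = c * (c ^ n * y * (c ^ n)⁻¹) * c⁻¹ := by rw [pow_succ']; group
        _ = c * (y * d ^ n) * c⁻¹ := by rw [ih]
        _ = c * y * c⁻¹ * (c * d ^ n * c⁻¹) := by group
        _ = y * d * d ^ n := by
          rw [hy, (show Commute c (d ^ n) from (show Commute c d from hcd).pow_right n).eq, mul_inv_cancel_right]
        _ = y * d ^ (n + 1) := by rw [mul_assoc, ← pow_succ']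
  have h := key 7
  rw [h7, one_mul, inv_one, mul_one, eq_comm, mul_eq_left] at h
  obtain ⟨k, hk⟩ := h2 ⟨d, hd⟩
  have hk' : d ^ 2 ^ k = 1 := congrArg Subtype.val hk
  have h1 : orderOf d ∣ 1 := by
    have hcop : Nat.Coprime 7 (2 ^ k) := Nat.Coprime.pow_right k (by norm_num)
    rw [← Nat.coprime_iff_gcd_eq_one.1 hcop]
    exact Nat.dvd_gcd (orderOf_dvd_of_pow_eq_one h) (orderOf_dvd_of_pow_eq_one hk')
  rw [orderOf_eq_one_iff.1 (Nat.dvd_one.1 h1), mul_one] at hy
  exact mul_inv_eq_iff_eq_mul.1 hy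

variable [Finite X] {Q : Subgroup X} [hQn : Q.Normal]

omit [Finite X] in
/-- a homomorphism-like condition holding on `Q` and somewhere outside holds everywhere -/
theorem Setup.everywhere (S : Setup X Q) (N : Subgroup X) [N.Normal] (hQN : Q ≤ N) {x : X} (hx : x ∈ N)
    (hxQ : x ∉ Q) : N = ⊤ :=
  (S.top N inferInstance hQN).resolve_left fun e => hxQ (e ▸ hx)

theorem Setup.exists_seven (S : Setup X Q) : ∃ c : X, c ^ 7 = 1 ∧ c ∉ Q := by
  haveI : Fact (Nat.Prime 7) := ⟨by norm_num⟩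
  obtain ⟨c, hc⟩ := exists_prime_orderOf_dvd_card' (G := X) 7
    ((show 7 ∣ Q.index by rw [S.idx]; norm_num).trans Q.index_dvd_card)
  refine ⟨c, hc ▸ pow_orderOf_eq_one c, fun h => ?_⟩
  obtain ⟨k, hk⟩ := S.two ⟨c, h⟩
  have hk' : c ^ 2 ^ k = 1 := congrArg Subtype.val hk
  have := Nat.Prime.dvd_of_dvd_pow (Fact.out : Nat.Prime 7) (hc ▸ orderOf_dvd_of_pow_eq_one hk')
  norm_num at this

omit hQn in
theorem sq_le_frattini (h2 : IsPGroup 2 Q) : Sq Q ≤ (frattini Q).map Q.subtype := by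
  haveI : Fact (Nat.Prime 2) := ⟨Nat.prime_two⟩
  refine Sq_le fun q hq => ⟨(⟨q, hq⟩ : Q) ^ 2, Core.pow_mem_frattini (p := 2) h2 _, ?_⟩
  simp [pow_two]

/-- an element of order seven moves `Q` modulo the subgroup generated by the squares -/
theorem Setup.moves_mod_Sq (S : Setup X Q) {c : X} (h7 : c ^ 7 = 1) (hcQ : c ∉ Q) :
    ∃ q ∈ Q, c * q * c⁻¹ * q⁻¹ ∉ Sq Q := by
  by_contra! h
  obtain ⟨q, hq, hne⟩ := S.nc c h7 hcQ
  refine hne ?_
  have hA : zpowers c ≤ normalizer (Q : Set X) := by rw [normalizer_eq_top]; exact le_top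
  have hcop : (Nat.card (zpowers c)).Coprime (Nat.card (frattini Q)) := by
    obtain ⟨k, hk⟩ := (S.two.to_subgroup (frattini Q)).exists_card_eq
    rw [hk, Nat.card_zpowers]
    exact (Nat.Coprime.pow_right k (by norm_num : Nat.Coprime 7 2)).coprime_dvd_left
      (orderOf_dvd_of_pow_eq_one h7)
  have htriv : ∀ a ∈ zpowers c, ∀ k ∈ Q, a * k * a⁻¹ * k⁻¹ ∈ (frattini Q).map Q.subtype := by
    intro a ha k hk
    apply sq_le_frattini S.two
    obtain ⟨n, rfl⟩ := mem_powers_iff_mem_zpowers.mpr ha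
    induction n with
    | zero => simp
    | succ n ih =>
      have ih' := ih (pow_mem (mem_zpowers c) n)
      have h1 := h _ (‹Q.Normal›.conj_mem k hk (c ^ n))
      have := mul_mem h1 ih'
      show c ^ (n + 1) * k * (c ^ (n + 1))⁻¹ * k⁻¹ ∈ Sq Q
      beta_reduce at this
      convert this using 1
      group
  exact (mem_centralizer_iff.1 (Coprime.le_centralizer_of_trivial_mod_frattini hA hcop htriv
    (mem_zpowers c)) q hq).symm

/-- the setting passes to a quotient that the element of order seven still moves -/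
theorem Setup.quotient (S : Setup X Q) (N : Subgroup X) [N.Normal] (hN : N ≤ Q)
    (hmove : ∀ c : X, c ^ 7 = 1 → c ∉ Q → ∃ q ∈ Q, c * q * c⁻¹ * q⁻¹ ∉ N) :
    Setup (X ⧸ N) (Q.map (QuotientGroup.mk' N)) := by
  have hcm : (Q.map (QuotientGroup.mk' N)).comap (QuotientGroup.mk' N) = Q :=
    comap_map_eq_self (by rw [QuotientGroup.ker_mk']; exact hN)
  refine ⟨S.two.map _, SecFour.sectional_quotient N S.rank, ?_, fun K hK hQK => ?_, fun c h7 hcQ => ?_⟩
  · rw [← index_comap_of_surjective _ (QuotientGroup.mk'_surjective N), hcm, S.idx]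
  · rcases S.top (K.comap (QuotientGroup.mk' N)) (hK.comap _) (map_le_iff_le_comap.1 hQK) with h | h
    · left
      rw [← h, map_comap_eq_self_of_surjective (QuotientGroup.mk'_surjective N)]
    · right
      rw [← map_comap_eq_self_of_surjective (QuotientGroup.mk'_surjective N) K, h,
        map_top_of_surjective _ (QuotientGroup.mk'_surjective N)]
  · obtain ⟨a, rfl⟩ := QuotientGroup.mk'_surjective N c
    have ha : a ^ 7 ∈ N := (QuotientGroup.eq_one_iff _).1 (by rw [QuotientGroup.mk_pow]; exact h7)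
    obtain ⟨k, hk⟩ := (S.two.to_le hN).exists_card_eq
    have h1 : a ^ (7 * 2 ^ k) = 1 := by
      have : (⟨a ^ 7, ha⟩ : N) ^ 2 ^ k = 1 := hk ▸ pow_card_eq_one'
      rw [pow_mul]; exact congrArg Subtype.val this
    have hne : a ^ 2 ^ k ∉ Q := by
      intro h
      have h7Q : a ^ 7 ∈ Q := hN ha
      obtain ⟨r, s, hrs⟩ : ∃ r s : ℤ, ((7 : ℕ) : ℤ) * r + ((2 ^ k : ℕ) : ℤ) * s = 1 := by
        have hcop : Nat.gcd 7 (2 ^ k) = 1 :=
          Nat.coprime_iff_gcd_eq_one.1 (Nat.Coprime.pow_right k (by norm_num : Nat.Coprime 7 2))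
        refine ⟨Nat.gcdA 7 (2 ^ k), Nat.gcdB 7 (2 ^ k), ?_⟩
        rw [← Nat.gcd_eq_gcd_ab, hcop, Nat.cast_one]
      have e : a = (a ^ 7) ^ r * (a ^ 2 ^ k) ^ s := by
        rw [← zpow_natCast, ← zpow_natCast, ← zpow_mul, ← zpow_mul, ← zpow_add, hrs, zpow_one]
      exact hcQ ⟨a, e ▸ mul_mem (zpow_mem h7Q r) (zpow_mem h s), rfl⟩
    obtain ⟨q, hq, hqn⟩ := hmove _ (by rw [← pow_mul, mul_comm]; exact h1) hne
    refine ⟨QuotientGroup.mk' N q, mem_map_of_mem _ hq, fun e => hqn ?_⟩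
    have e2 : Commute (QuotientGroup.mk' N a) (QuotientGroup.mk' N q) := e
    apply (QuotientGroup.eq_one_iff _).1
    show QuotientGroup.mk' N (a ^ 2 ^ k * q * (a ^ 2 ^ k)⁻¹ * q⁻¹) = 1
    rw [map_mul, map_mul, map_mul, map_pow, map_inv, map_inv, map_pow, (e2.pow_left (2 ^ k)).eq,
      mul_inv_cancel_right, mul_inv_cancel]

/-- The orbit of an element which is the only one fixed by an element of order seven in it. -/
theorem Setup.orbit (S : Setup X Q) {c : X} (h7 : c ^ 7 = 1) {s : X} (hcs : c * s = s * c)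
    (hQs : ∀ q ∈ Q, q * s = s * q) (T : Set X) (hT : ∀ g : X, g * s * g⁻¹ ∈ T) (hcard : Nat.card T ≤ 15)
    (huniq : ∀ t ∈ T, c * t = t * c → t = s) :
    (∀ g : X, g * s = s * g) ∨
      (Nat.card {t : X // ∃ h : X, t = h * s * h⁻¹} = 8 ∧
        ∀ g h : X, g ^ 4 ∈ Q → g * g ∉ Q → g * (h * s * h⁻¹) ≠ h * s * h⁻¹ * g) := by
  classical
  set H : Subgroup X := centralizer {s} with hH
  have hmem : ∀ x : X, x ∈ H ↔ x * s = s * x := fun x => mem_centralizer_singleton_iff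
  have hQH : Q ≤ H := fun q hq => (hmem q).2 (hQs q hq)
  set O : Set X := {t | ∃ h : X, t = h * s * h⁻¹} with hO
  have hkO : H.index = Nat.card O := by
    let f : X ⧸ H → O := Quotient.lift (fun h : X => (⟨h * s * h⁻¹, h, rfl⟩ : O)) (by
      intro a b hab
      have h := (hmem _).1 (QuotientGroup.leftRel_apply.1 hab)
      refine Subtype.ext (show a * s * a⁻¹ = b * s * b⁻¹ from ?_)
      calc a * s * a⁻¹ = a * (s * (a⁻¹ * b)) * b⁻¹ := by group
        _ = a * (a⁻¹ * b * s) * b⁻¹ := by rw [h]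
        _ = b * s * b⁻¹ := by group)
    refine Nat.card_eq_of_bijective f ⟨?_, ?_⟩
    · rintro ⟨a⟩ ⟨b⟩ h
      have h' : a * s * a⁻¹ = b * s * b⁻¹ := congrArg Subtype.val h
      refine QuotientGroup.eq.2 ((hmem _).2 ?_)
      calc a⁻¹ * b * s = a⁻¹ * (b * s * b⁻¹) * b := by group
        _ = a⁻¹ * (a * s * a⁻¹) * b := by rw [h']
        _ = s * (a⁻¹ * b) := by group
    · rintro ⟨_, h, rfl⟩
      exact ⟨QuotientGroup.mk h, rfl⟩
  have hk15 : H.index ≤ 15 :=
    hkO ▸ (Nat.card_mono (Set.toFinite T) (show O ⊆ T from fun t ht => by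
      obtain ⟨h, e⟩ := ht
      exact e ▸ hT h)).trans hcard
  have hk168 : H.index ∣ 168 := S.idx ▸ index_dvd_of_le hQH
  have hk7 : H.index ≡ 1 [MOD 7] := by
    haveI : Fact (Nat.Prime 7) := ⟨by norm_num⟩
    rw [hkO]
    refine (SecFour.fixed_modEq h7 O ?_).symm.trans (congrArg (· % 7) ?_)
    · rintro _ ⟨h, rfl⟩
      exact (⟨c * h, by group⟩ : ∃ h' : X, c * (h * s * h⁻¹) * c⁻¹ = h' * s * h'⁻¹)
    · rw [Nat.card_eq_one_iff_unique]
      exact ⟨⟨fun a b => Subtype.ext ((huniq _ (by obtain ⟨h, e⟩ := a.2.1; exact e ▸ hT h) a.2.2).trans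
          (huniq _ (by obtain ⟨h, e⟩ := b.2.1; exact e ▸ hT h) b.2.2).symm)⟩,
        ⟨⟨s, ⟨1, by group⟩, hcs⟩⟩⟩
  have hk : H.index = 1 ∨ H.index = 8 := by
    generalize H.index = k at hk15 hk168 hk7 ⊢
    have h0 : k ≠ 0 := by rintro rfl; simp at hk168
    interval_cases k <;> simp_all [Nat.ModEq]
  rcases hk with hk | hk
  · exact Or.inl fun g => (hmem g).1 (index_eq_one.1 hk ▸ mem_top g)
  refine Or.inr ⟨hkO ▸ hk, fun g h hg4 hg2 e => hg2 ?_⟩
  set g' := h⁻¹ * g * h with hg'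
  have hg'H : g' ∈ H := (hmem _).2 (by
    calc g' * s = h⁻¹ * (g * (h * s * h⁻¹)) * h := by rw [hg']; group
      _ = h⁻¹ * (h * s * h⁻¹ * g) * h := by rw [e]
      _ = s * g' := by rw [hg']; group)
  have hrel : Q.relIndex H = 21 := by
    have := relIndex_mul_index hQH
    rw [hk, S.idx] at this
    omega
  haveI : (Q.subgroupOf H).Normal := inferInstance
  have h21 : g' ^ 21 ∈ Q := by
    have := pow_index_mem (Q.subgroupOf H) (⟨g', hg'H⟩ : H)
    rw [show (Q.subgroupOf H).index = 21 from hrel] at this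
    simpa [mem_subgroupOf] using this
  have h4 : g' ^ 4 ∈ Q := by
    have := ‹Q.Normal›.conj_mem _ hg4 h⁻¹
    rwa [hg', show (h⁻¹ * g * h) ^ 4 = h⁻¹ * g ^ 4 * h⁻¹⁻¹ by simp only [pow_succ, pow_zero]; group]
  have hgQ : g' ∈ Q := by
    have := mul_mem h21 (pow_mem (inv_mem h4) 5)
    rwa [show g' ^ 21 * (g' ^ 4)⁻¹ ^ 5 = g' by group] at this
  have : g ∈ Q := by
    have := ‹Q.Normal›.conj_mem _ hgQ h
    rwa [hg', show h * (h⁻¹ * g * h) * h⁻¹ = g by group] at this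
  exact mul_mem this this

/-- eight elements forming a coset: either one of them is central or no element of order four fixes one -/
theorem Setup.coset (S : Setup X Q) {c : X} (h7 : c ^ 7 = 1) {M : Subgroup X} [M.Normal] (hM : Nat.card M = 8)
    (hMc : ∀ m ∈ M, c * m = m * c → m = 1) {u : X} (hu : ∀ g : X, u⁻¹ * (g * u * g⁻¹) ∈ M)
    (hQu : ∀ m ∈ M, ∀ q ∈ Q, q * (u * m) = u * m * q) :
    (∃ m ∈ M, ∀ g : X, g * (u * m) = u * m * g) ∨
      ∀ g : X, g ^ 4 ∈ Q → g * g ∉ Q → ∀ m ∈ M, g * (u * m) ≠ u * m * g := by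
  haveI : Fact (Nat.Prime 7) := ⟨by norm_num⟩
  set T : Set X := {t | u⁻¹ * t ∈ M} with hT
  have hTc : Nat.card T = 8 := by
    rw [← hM]
    exact Nat.card_congr ⟨fun t => ⟨u⁻¹ * t.1, t.2⟩, fun m => ⟨u * m.1, by simp [T]⟩,
      fun t => by ext; simp, fun m => by ext; simp⟩
  have hinv : ∀ g : X, ∀ t ∈ T, g * t * g⁻¹ ∈ T := fun g t ht => by
    have := mul_mem (hu g) (‹M.Normal›.conj_mem _ ht g)
    show u⁻¹ * (g * t * g⁻¹) ∈ M
    rwa [show u⁻¹ * (g * u * g⁻¹) * (g * (u⁻¹ * t) * g⁻¹) = u⁻¹ * (g * t * g⁻¹) by group] at this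
  have hfix := (SecFour.fixed_modEq h7 T (hinv c))
  have huniq : ∀ t ∈ T, ∀ t' ∈ T, c * t = t * c → c * t' = t' * c → t = t' := by
    intro t ht t' ht' e e'
    have hm : t⁻¹ * t' ∈ M := by
      have := mul_mem (inv_mem (show u⁻¹ * t ∈ M from ht)) (show u⁻¹ * t' ∈ M from ht')
      rwa [show (u⁻¹ * t)⁻¹ * (u⁻¹ * t') = t⁻¹ * t' by group] at this
    exact inv_mul_eq_one.1 (hMc _ hm ((show Commute c t from e).inv_right.mul_right e'))
  obtain ⟨⟨s, hsT, hcs⟩⟩ : Nonempty {t : X // t ∈ T ∧ c * t = t * c} := by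
    by_contra h
    rw [not_nonempty_iff] at h
    rw [Nat.card_of_isEmpty, hTc] at hfix
    exact absurd hfix (by decide)
  have hQs : ∀ q ∈ Q, q * s = s * q := fun q hq => by
    have := hQu _ hsT q hq
    rwa [mul_inv_cancel_left] at this
  rcases S.orbit h7 hcs hQs T (fun g => hinv g s hsT) (by omega) (fun t ht e => huniq t ht s hsT e hcs) with h | h
  · exact Or.inl ⟨u⁻¹ * s, hsT, fun g => by rw [mul_inv_cancel_left]; exact h g⟩
  · right
    intro g hg4 hg2 m hm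
    have hall : {t : X | ∃ h, t = h * s * h⁻¹} = T :=
      Set.eq_of_subset_of_ncard_le (fun t ⟨h', e⟩ => e ▸ hinv h' s hsT) (by
        rw [← Nat.card_coe_set_eq, ← Nat.card_coe_set_eq, hTc]; exact h.1.ge) (Set.toFinite T)
    obtain ⟨h', e⟩ : u * m ∈ {t : X | ∃ h, t = h * s * h⁻¹} := by rw [hall]; simpa [T] using hm
    rw [e]
    exact h.2 g h' hg4 hg2

/-- a natural section of the setting, with coordinates -/
structure Model (Q A B : Subgroup X) (ρ : X →* M3) (π : X → V3) : Prop where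
  le : A ≤ B
  leQ : B ≤ Q
  det : ∀ g, (ρ g).det = 1
  ker : ∀ g, ρ g = 1 ↔ g ∈ Q
  surj : ∀ A' : M3, A'.det = 1 → ∃ g, ρ g = A'
  add : ∀ a ∈ B, ∀ b ∈ B, π (a * b) = π a + π b
  zero : ∀ b ∈ B, π b = 0 ↔ b ∈ A
  onto : ∀ v : V3, ∃ b ∈ B, π b = v
  conj : ∀ g : X, ∀ b ∈ B, π (g * b * g⁻¹) = (ρ g).mulVec (π b)

theorem Setup.exists_model (S : Setup X Q) (A B : Subgroup X) [A.Normal] [B.Normal] (hAB : A ≤ B) (hBQ : B ≤ Q)
    (hcard : Nat.card B = 8 * Nat.card A) (hsq : ∀ b ∈ B, b * b ∈ A)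
    (hQB : ∀ q ∈ Q, ∀ b ∈ B, q * b * q⁻¹ * b⁻¹ ∈ A) (hnt : ∃ g : X, ∃ b ∈ B, g * b * g⁻¹ * b⁻¹ ∉ A) :
    ∃ (ρ : X →* M3) (π : X → V3), Model Q A B ρ π := by
  classical
  set mk := QuotientGroup.mk' A with hmk
  set Bb := B.map mk with hBb
  haveI hBbn : Bb.Normal := (inferInstance : B.Normal).map mk (QuotientGroup.mk'_surjective A)
  have hBmem : ∀ x : X, mk x ∈ Bb → x ∈ B := by
    rintro x ⟨b, hb, e⟩
    have := mul_mem hb (hAB (QuotientGroup.eq.1 (show (b : X ⧸ A) = x from e)))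
    rwa [mul_inv_cancel_left] at this
  have h2 : ∀ x : Bb, x * x = 1 := by
    rintro ⟨_, b, hb, rfl⟩
    exact Subtype.ext (show mk b * mk b = 1 by rw [← map_mul]; exact (QuotientGroup.eq_one_iff _).2 (hsq b hb))
  letI : CommGroup Bb := { (inferInstance : Group Bb) with
    mul_comm := fun a b => by
      have hi : ∀ x : Bb, x⁻¹ = x := fun x => inv_eq_of_mul_eq_one_right (h2 x)
      calc a * b = (a * b)⁻¹ := (hi _).symm
        _ = b * a := by rw [mul_inv_rev, hi, hi] }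
  letI : Module (ZMod 2) (Additive Bb) := AddCommGroup.zmodModule (fun x => by
    rw [two_nsmul]; exact congrArg Additive.ofMul (h2 x.toMul))
  have hB8 : Nat.card (Additive Bb) = 8 := by
    rw [Nat.card_congr Additive.toMul]
    have h := (A.subgroupOf B).card_mul_index
    rw [Nat.card_congr (subgroupOfEquivOfLe hAB).toEquiv, hcard] at h
    have hidx : Nat.card Bb = (A.subgroupOf B).index := by
      have hker : (mk.comp B.subtype).ker = A.subgroupOf B := by
        ext b; simp [mk, mem_subgroupOf]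
      rw [← hker, index_ker, MonoidHom.range_eq_map, ← map_map, ← MonoidHom.range_eq_map, range_subtype]
    rw [hidx]
    exact Nat.eq_of_mul_eq_mul_left Nat.card_pos (h.trans (mul_comm _ _))
  have hfr : Module.finrank (ZMod 2) (Additive Bb) = 3 := by
    have h := Module.natCard_eq_pow_finrank (K := ZMod 2) (V := Additive Bb)
    rw [hB8, Nat.card_zmod] at h
    exact Nat.pow_right_injective le_rfl (h.symm.trans (by norm_num : (8 : ℕ) = 2 ^ 3))
  let e : Additive Bb ≃ₗ[ZMod 2] V3 := (Module.finBasisOfFinrankEq _ _ hfr).equivFun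
  let π : X → V3 := fun x => if h : mk x ∈ Bb then e (Additive.ofMul ⟨mk x, h⟩) else 0
  have hπ : ∀ b, ∀ hb : b ∈ B, π b = e (Additive.ofMul ⟨mk b, mem_map_of_mem mk hb⟩) := fun b hb =>
    dif_pos (mem_map_of_mem mk hb)
  let cj : X → (Additive Bb →ₗ[ZMod 2] Additive Bb) := fun g =>
    (MonoidHom.toAdditive (MonoidHom.mk' (fun x : Bb => (⟨mk g * x * (mk g)⁻¹, hBbn.conj_mem _ x.2 _⟩ : Bb))
      fun a b => Subtype.ext (by
        show mk g * ((a : X ⧸ A) * b) * (mk g)⁻¹ = mk g * a * (mk g)⁻¹ * (mk g * b * (mk g)⁻¹)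
        group))).toZModLinearMap 2
  have hcj : ∀ (g : X) (x : Bb), ((cj g (Additive.ofMul x)).toMul : X ⧸ A) = mk g * x * (mk g)⁻¹ := fun g x => rfl
  let ρ0 : X → M3 := fun g => LinearMap.toMatrix' (e.toLinearMap ∘ₗ cj g ∘ₗ e.symm.toLinearMap)
  have hρv : ∀ g v, (ρ0 g).mulVec v = e (cj g (e.symm v)) := fun g v => by
    rw [LinearMap.toMatrix'_mulVec]; rfl
  have hρ1 : ρ0 1 = 1 := by
    apply Matrix.ext_of_mulVec_single
    intro i
    rw [hρv, Matrix.one_mulVec]
    have : ∀ x : Additive Bb, cj 1 x = x := fun x => Additive.toMul.injective (Subtype.ext (by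
      show mk 1 * _ * (mk 1)⁻¹ = _
      simp))
    rw [this, LinearEquiv.apply_symm_apply]
  have hρm : ∀ g h, ρ0 (g * h) = ρ0 g * ρ0 h := by
    intro g h
    apply Matrix.ext_of_mulVec_single
    intro i
    rw [← Matrix.mulVec_mulVec, hρv, hρv, hρv, LinearEquiv.symm_apply_apply]
    congr 1
    refine Additive.toMul.injective (Subtype.ext ?_)
    show mk (g * h) * _ * (mk (g * h))⁻¹ = mk g * (mk h * _ * (mk h)⁻¹) * (mk g)⁻¹
    rw [map_mul]
    group
  let ρ : X →* M3 := { toFun := ρ0, map_one' := hρ1, map_mul' := hρm }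
  have hconj : ∀ g : X, ∀ b ∈ B, π (g * b * g⁻¹) = (ρ g).mulVec (π b) := by
    intro g b hb
    show _ = (ρ0 g).mulVec _
    rw [hρv, hπ b hb, LinearEquiv.symm_apply_apply, hπ _ (‹B.Normal›.conj_mem b hb g)]
    congr 1
  have hzero : ∀ b ∈ B, π b = 0 ↔ b ∈ A := by
    intro b hb
    rw [hπ b hb, LinearEquiv.map_eq_zero_iff, ← ofMul_one, Additive.ofMul.injective.eq_iff, Subtype.ext_iff]
    exact QuotientGroup.eq_one_iff b
  have honto : ∀ v : V3, ∃ b ∈ B, π b = v := by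
    intro v
    obtain ⟨b, hb, hbe⟩ := (e.symm v).toMul.2
    refine ⟨b, hb, ?_⟩
    rw [hπ b hb]
    conv_rhs => rw [← e.apply_symm_apply v]
    exact congrArg e (Additive.toMul.injective (Subtype.ext hbe))
  have hadd : ∀ a ∈ B, ∀ b ∈ B, π (a * b) = π a + π b := by
    intro a ha b hb
    rw [hπ a ha, hπ b hb, hπ _ (mul_mem ha hb), ← map_add, ← ofMul_mul]
    exact congrArg e (congrArg Additive.ofMul (Subtype.ext (map_mul mk a b)))
  have hker1 : ∀ g, ρ g = 1 ↔ ∀ b ∈ B, g * b * g⁻¹ * b⁻¹ ∈ A := by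
    intro g
    constructor
    · intro h b hb
      have hgb := ‹B.Normal›.conj_mem b hb g
      rw [← hzero _ (mul_mem hgb (inv_mem hb)), hadd _ hgb _ (inv_mem hb), hconj g b hb, h, Matrix.one_mulVec,
        ← hadd b hb _ (inv_mem hb), mul_inv_cancel]
      exact (hzero 1 B.one_mem).2 A.one_mem
    · intro h
      apply Matrix.ext_of_mulVec_single
      intro i
      obtain ⟨b, hb, hbe⟩ := honto (Pi.single i 1)
      rw [← hbe, ← hconj g b hb, Matrix.one_mulVec]
      conv_lhs => rw [show g * b * g⁻¹ = g * b * g⁻¹ * b⁻¹ * b by group,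
        hadd _ (hAB (h b hb)) _ hb, (hzero _ (hAB (h b hb))).2 (h b hb), zero_add]
  have hker : ∀ g, ρ g = 1 ↔ g ∈ Q := by
    haveI : ρ.ker.Normal := inferInstance
    have hQk : Q ≤ ρ.ker := fun q hq => (hker1 q).2 (hQB q hq)
    rcases S.top ρ.ker inferInstance hQk with h | h
    · exact fun g => by rw [← MonoidHom.mem_ker, h]
    · obtain ⟨g, b, hb, hn⟩ := hnt
      exact absurd ((hker1 g).1 (MonoidHom.mem_ker.1 (h ▸ mem_top g)) b hb) hn
  have hdet : ∀ g, (ρ g).det = 1 := by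
    intro g
    have h : (ρ g).det * (ρ g⁻¹).det = 1 := by rw [← Matrix.det_mul, ← map_mul, mul_inv_cancel, map_one, Matrix.det_one]
    have key : ∀ a b : ZMod 2, a * b = 1 → a = 1 := by decide
    exact key _ _ h
  refine ⟨ρ, π, hAB, hBQ, hdet, hker, fun A' hA' => ?_, hadd, hzero, honto, hconj⟩
  haveI : Q.Normal := hQn
  let φ : X ⧸ Q → {A : M3 // A.det = 1} := Quotient.lift (fun g => ⟨ρ g, hdet g⟩) (by
    intro a b hab
    have h : ρ (a⁻¹ * b) = 1 := (hker _).2 (QuotientGroup.leftRel_apply.1 hab)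
    refine Subtype.ext ?_
    show ρ a = ρ b
    calc ρ a = ρ a * ρ (a⁻¹ * b) := by rw [h, mul_one]
      _ = ρ b := by rw [← map_mul, mul_inv_cancel_left])
  have hφ : Function.Bijective φ := by
    rw [Nat.bijective_iff_injective_and_card]
    refine ⟨?_, ?_⟩
    · rintro ⟨a⟩ ⟨b⟩ h
      have h' : ρ a = ρ b := congrArg Subtype.val h
      refine QuotientGroup.eq.2 ((hker _).1 ?_)
      rw [map_mul, ← h', ← map_mul, inv_mul_cancel, map_one]
    · rw [← index_eq_card, S.idx, Nat.card_eq_fintype_card, card_det]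
  obtain ⟨⟨g⟩, hg⟩ := hφ.2 ⟨A', hA'⟩
  exact ⟨g, congrArg Subtype.val hg⟩

end Cfsg.Agent.LinRad
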