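import Cfsg.Agent.LinRad.Basics

/-!
Conjugation by an element of order four on abelian normal subgroups of exponent four, and quotients of natural
sections.
-/

set_option autoImplicit false
set_option maxHeartbeats 400000
set_option linter.unusedSectionVars false
set_option linter.style.haveILetI false

namespace Cfsg.Agent.LinRad

open Subgroup

variable {X : Type*} [Group X] [Finite X] {Q : Subgroup X} [hQn : Q.Normal]

/-- the commutator with a fixed left entry -/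
def dlt (g x : X) : X := g * x * g⁻¹ * x⁻¹

omit [Finite X] in
theorem dlt_eq_one {g x : X} : dlt g x = 1 ↔ g * x = x * g := by
  show g * x * g⁻¹ * x⁻¹ = 1 ↔ _
  rw [mul_inv_eq_one, mul_inv_eq_iff_eq_mul]

omit [Finite X] in
theorem dlt_mem {K : Subgroup X} [K.Normal] {x : X} (g : X) (hx : x ∈ K) : dlt g x ∈ K :=
  mul_mem (‹K.Normal›.conj_mem x hx g) (inv_mem hx)

omit [Finite X] in
theorem dlt_mul {K : Subgroup X} (hK : ∀ a ∈ K, ∀ b ∈ K, a * b = b * a) [K.Normal] (g : X) {a b : X}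
    (ha : a ∈ K) (hb : b ∈ K) : dlt g (a * b) = dlt g a * dlt g b := by
  show g * (a * b) * g⁻¹ * (a * b)⁻¹ = g * a * g⁻¹ * a⁻¹ * (g * b * g⁻¹ * b⁻¹)
  calc g * (a * b) * g⁻¹ * (a * b)⁻¹ = g * a * g⁻¹ * ((g * b * g⁻¹ * b⁻¹) * a⁻¹) := by group
    _ = g * a * g⁻¹ * (a⁻¹ * (g * b * g⁻¹ * b⁻¹)) := by
      rw [hK (g * b * g⁻¹ * b⁻¹) (dlt_mem g hb) _ (inv_mem ha)]
    _ = _ := by group

omit [Finite X] in
theorem dlt_sq {K : Subgroup X} (hK : ∀ a ∈ K, ∀ b ∈ K, a * b = b * a) [K.Normal] (g : X) {a : X}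
    (ha : a ∈ K) : dlt g (a * a) = dlt g a * dlt g a := dlt_mul hK g ha ha

omit [Finite X] in
theorem dlt_one (g : X) : dlt g (1 : X) = 1 := by simp [dlt]

omit [Finite X] in
theorem conj_four (K : Subgroup X) [K.Normal] (hK : ∀ a ∈ K, ∀ b ∈ K, a * b = b * a)
    (h4 : ∀ k ∈ K, k * k * (k * k) = 1) (g : X) {k : X} (hk : k ∈ K) :
    g ^ 4 * k * (g ^ 4)⁻¹ = k * (dlt g (dlt g k) * dlt g (dlt g k)) * dlt g (dlt g (dlt g (dlt g k))) := by
  letI : CommGroup K := { (inferInstance : Group K) with mul_comm := fun a b => Subtype.ext (hK a a.2 b b.2) }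
  let d : Additive K →+ Additive K := MonoidHom.toAdditive
    (MonoidHom.mk' (fun a : K => (⟨dlt g a, dlt_mem g a.2⟩ : K)) fun a b => Subtype.ext (dlt_mul hK g a.2 b.2))
  let s : Additive K → Additive K := fun a => a + d a
  have hs : ∀ a : Additive K, (((s a).toMul : K) : X) = g * (a.toMul : X) * g⁻¹ := fun a => by
    show (a.toMul : X) * dlt g (a.toMul : X) = _
    rw [hK _ a.toMul.2 _ (dlt_mem g a.toMul.2)]
    simp [dlt]
  have h4' : ∀ a : Additive K, (4 : ℕ) • a = 0 := fun a => by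
    have := congrArg Additive.ofMul (show a.toMul * a.toMul * (a.toMul * a.toMul) = (1 : K) from
      Subtype.ext (h4 _ a.toMul.2))
    rw [show (4 : ℕ) = 2 + 2 from rfl, add_nsmul, two_nsmul]
    exact this
  have key : ∀ a : Additive K, s (s (s (s a))) = a + (d (d a) + d (d a)) + d (d (d (d a))) := by
    intro a
    calc s (s (s (s a))) = a + (d (d a) + d (d a)) + d (d (d (d a))) +
          ((4 : ℕ) • d a + (4 : ℕ) • d (d a) + (4 : ℕ) • d (d (d a))) := by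
          simp only [s, map_add]; abel
      _ = _ := by rw [h4', h4', h4']; simp
  have h := congrArg (fun a : Additive K => (a.toMul : X)) (key (Additive.ofMul ⟨k, hk⟩))
  simp only [hs] at h
  calc g ^ 4 * k * (g ^ 4)⁻¹ = g * (g * (g * (g * k * g⁻¹) * g⁻¹) * g⁻¹) * g⁻¹ := by
        simp only [pow_succ, pow_zero, one_mul, mul_assoc, mul_inv_rev]
    _ = _ := h

/-- every subgroup containing `Q` and all squares is everything -/
theorem Setup.sq_top (S : Setup X Q) (R : Subgroup X) (hQ : Q ≤ R) (hsq : ∀ g : X, g * g ∈ R) (g : X) : g ∈ R := by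
  let N : Subgroup X := Q ⊔ closure {x | ∃ g : X, g * g = x}
  haveI hcn : (closure {x | ∃ g : X, g * g = x}).Normal := by
    refine ⟨fun x hx h => ?_⟩
    have hle : closure {x | ∃ g : X, g * g = x} ≤
        (closure {x | ∃ g : X, g * g = x}).comap (MulAut.conj h).toMonoidHom := by
      rw [closure_le]
      rintro _ ⟨a, rfl⟩
      exact subset_closure ⟨h * a * h⁻¹, show h * a * h⁻¹ * (h * a * h⁻¹) = h * (a * a) * h⁻¹ by group⟩
    exact hle hx
  haveI : N.Normal := inferInstanceAs (Q ⊔ _ : Subgroup X).Normal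
  obtain ⟨c, h7, hcQ⟩ := S.exists_seven
  have hc : c ∈ N := mem_sup_right (subset_closure ⟨c ^ 4, by rw [← pow_add, show 4 + 4 = 7 + 1 from rfl, pow_add, h7, one_mul, pow_one]⟩)
  have := S.everywhere N le_sup_left hc hcQ
  have hNR : N ≤ R := sup_le hQ (by rw [closure_le]; rintro _ ⟨a, rfl⟩; exact hsq a)
  exact hNR (this ▸ mem_top g)

/-- In a homocyclic group a fixed square gives a commutator of the lower term. -/
theorem Model.fixed_shift {M K : Subgroup X} [M.Normal] [K.Normal] {ρ : X →* M3} {π : X → V3}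
    (h : Model Q M K ρ π) (hK : ∀ a ∈ K, ∀ b ∈ K, a * b = b * a) (hsq : ∀ k ∈ K, k * k = 1 ↔ k ∈ M)
    (hroot : ∀ m ∈ M, ∃ j ∈ K, j * j = m) {g : X} (hg : ρ g = matJ) (hgK : ∀ k ∈ K, g ^ 4 * k = k * g ^ 4)
    {x : X} (hx : x ∈ K) (hfix : g * (x * x) = x * x * g) : ∃ m ∈ M, dlt g x = dlt g m := by
  have hpos : ∀ v : V3, v + v = 0 := fun v => by ext i; exact CharTwo.add_self_eq_zero _
  have h4 : ∀ k ∈ K, k * k * (k * k) = 1 := fun k hk =>
    (hsq _ (mul_mem hk hk)).2 (h.mem_of_pi (mul_mem hk hk) (by rw [h.add k hk k hk, hpos]))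
  have hπd : ∀ a ∈ K, π (dlt g a) = π a 1 • e1 + π a 2 • e2 := by
    intro a ha
    show π (g * a * g⁻¹ * a⁻¹) = _
    rw [h.add _ (‹K.Normal›.conj_mem a ha g) _ (inv_mem ha), h.pi_inv ha, h.conj g a ha, hg]
    exact diffJ _
  have hsqeq : ∀ a ∈ K, ∀ b ∈ K, π a = π b → a * a = b * b := by
    intro a ha b hb e
    have hd := (h.pi_eq ha hb).1 e
    have h1 : a⁻¹ * b * (a⁻¹ * b) = 1 := (hsq _ (mul_mem (inv_mem ha) hb)).2 hd
    calc a * a = a * a * (a⁻¹ * b * (a⁻¹ * b)) := by rw [h1, mul_one]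
      _ = a * b * (a⁻¹ * b) := by group
      _ = b * a * (a⁻¹ * b) := by rw [hK a ha b hb]
      _ = b * b := by group
  have hx1 : π x = 0 ∨ π x = e1 := by
    refine fixed_J _ ?_
    have hd : dlt g x ∈ M := (hsq _ (dlt_mem g hx)).1 (by rw [← dlt_sq hK g hx, dlt_eq_one]; exact hfix)
    have e := hπd x hx
    rw [(h.zero _ (dlt_mem g hx)).2 hd] at e
    have key : ∀ v : V3, (0 : V3) = v 1 • e1 + v 2 • e2 → matJ.mulVec v = v := by decide +kernel
    exact key _ e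
  rcases hx1 with e | e
  · exact ⟨x, h.mem_of_pi hx e, rfl⟩
  obtain ⟨k3, hk3, hk3π⟩ := h.onto e3
  set k2 := dlt g k3
  set k1 := dlt g k2 with hk1
  have hk2 : k2 ∈ K := dlt_mem g hk3
  have hk1K : k1 ∈ K := dlt_mem g hk2
  have hk2π : π k2 = e2 := by rw [hπd k3 hk3, hk3π]; decide
  have hk1π : π k1 = e1 := by rw [hk1, hπd k2 hk2, hk2π]; decide
  set r := dlt g k1
  have hr : r ∈ M := h.mem_of_pi (dlt_mem g hk1K) (by rw [hπd k1 hk1K, hk1π]; decide)
  obtain ⟨j, hj, hjr⟩ := hroot r hr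
  have hσ : k1 * k1 * dlt g r = 1 := by
    have h4' := conj_four K hK h4 g hk3
    rw [hgK k3 hk3, mul_inv_cancel_right] at h4'
    change k3 = k3 * (k1 * k1) * dlt g r at h4'
    rw [mul_assoc] at h4'
    exact left_eq_mul.1 h4'
  obtain ⟨y, hy, hyπ⟩ := h.onto (π j 0 • e2 + e3)
  have hjy : π (dlt g y) = π j := by
    have e : π (dlt g j) = e1 := by
      have e' : dlt g j * dlt g j = k1 * k1 := by
        rw [← dlt_sq hK g hj, hjr]
        have : dlt g r = (k1 * k1)⁻¹ := eq_inv_of_mul_eq_one_right hσ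
        rw [this]
        exact inv_eq_of_mul_eq_one_right (h4 k1 hk1K)
      rw [← hk1π]
      refine (h.pi_eq (dlt_mem g hj) hk1K).2 ((hsq _ (mul_mem (inv_mem (dlt_mem g hj)) hk1K)).1 ?_)
      rw [(show Commute k1 (dlt g j)⁻¹ from (show Commute k1 (dlt g j) from hK _ hk1K _ (dlt_mem g hj)).inv_right).mul_mul_mul_comm,
        ← mul_inv_rev, e', inv_mul_cancel]
    rw [hπd j hj] at e
    rw [hπd y hy, hyπ]
    have key : ∀ v : V3, v 1 • e1 + v 2 • e2 = e1 →
        (v 0 • e2 + e3) 1 • e1 + (v 0 • e2 + e3) 2 • e2 = v := by decide +kernel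
    exact key _ e
  have hm' : k1⁻¹ * x ∈ M := (h.pi_eq hk1K hx).1 (hk1π.trans e.symm)
  have hyM : y * y ∈ M := h.mem_of_pi (mul_mem hy hy) (by rw [h.add y hy y hy, hpos])
  refine ⟨y * y * (k1⁻¹ * x), mul_mem hyM hm', ?_⟩
  rw [dlt_mul hK g (h.le hyM) (h.le hm'), dlt_sq hK g hy, hsqeq _ (dlt_mem g hy) j hj hjy, hjr,
    show r = dlt g k1 from rfl, ← dlt_mul hK g hk1K (h.le hm'), mul_inv_cancel_left]

/-- A natural section modulo a normal subgroup meeting it in the lower term. -/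
theorem Model.quotient {A B : Subgroup X} [B.Normal] {ρ : X →* M3} {π : X → V3} (h : Model Q A B ρ π) (N : Subgroup X)
    [N.Normal] (hNQ : N ≤ Q) (hN : ∀ b ∈ B, b ∈ N → b ∈ A) :
    ∃ (ρ' : X ⧸ N →* M3) (π' : X ⧸ N → V3),
      Model (Q.map (QuotientGroup.mk' N)) (A.map (QuotientGroup.mk' N)) (B.map (QuotientGroup.mk' N)) ρ' π' ∧
        ∀ g, ρ' (QuotientGroup.mk' N g) = ρ g := by
  classical
  set mk := QuotientGroup.mk' N
  let ρ' : X ⧸ N →* M3 := QuotientGroup.lift N ρ fun n hn => (h.ker n).2 (hNQ hn)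
  have hρ' : ∀ g, ρ' (mk g) = ρ g := fun g => rfl
  let π' : X ⧸ N → V3 := fun y => if hy : y ∈ B.map mk then π (Classical.choose (mem_map.1 hy)) else 0
  have hπ' : ∀ b ∈ B, π' (mk b) = π b := by
    intro b hb
    have hy : mk b ∈ B.map mk := mem_map_of_mem mk hb
    simp only [π', dif_pos hy]
    obtain ⟨hc1, hc2⟩ := Classical.choose_spec (mem_map.1 hy)
    exact (h.pi_eq hc1 hb).2 (hN _ (mul_mem (inv_mem hc1) hb) (QuotientGroup.eq.1 hc2))
  refine ⟨ρ', π', ⟨map_mono h.le, map_mono h.leQ, ?_, ?_, ?_, ?_, ?_, ?_, ?_⟩, hρ'⟩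
  · rintro ⟨g⟩; exact h.det g
  · intro y
    obtain ⟨g, rfl⟩ := QuotientGroup.mk'_surjective N y
    rw [hρ', h.ker]
    exact ⟨fun e => mem_map_of_mem mk e, fun e => mem_map_mk hNQ e⟩
  · intro A' hA'
    obtain ⟨g, hg⟩ := h.surj A' hA'
    exact ⟨mk g, (hρ' g).trans hg⟩
  · rintro _ ⟨a, ha, rfl⟩ _ ⟨b, hb, rfl⟩
    rw [← map_mul, hπ' _ (mul_mem ha hb), hπ' a ha, hπ' b hb, h.add a ha b hb]
  · rintro _ ⟨b, hb, rfl⟩
    rw [hπ' b hb, h.zero b hb]
    refine ⟨fun e => mem_map_of_mem mk e, fun ⟨a, ha, e⟩ => ?_⟩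
    have := mul_mem ha (hN _ (mul_mem (inv_mem (h.le ha)) hb) (QuotientGroup.eq.1 (show (a : X ⧸ N) = b from e)))
    rwa [mul_inv_cancel_left] at this
  · intro v
    obtain ⟨b, hb, e⟩ := h.onto v
    exact ⟨mk b, mem_map_of_mem mk hb, (hπ' b hb).trans e⟩
  · rintro y _ ⟨b, hb, rfl⟩
    obtain ⟨g, rfl⟩ := QuotientGroup.mk'_surjective N y
    rw [← map_inv, ← map_mul, ← map_mul, hπ' _ (‹B.Normal›.conj_mem b hb g), hπ' b hb, hρ', h.conj g b hb]

end Cfsg.Agent.LinRad
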