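import Cfsg.Agent.LinRad.Natural
import Cfsg.Agent.SecFour.RankFive

/-!
Lifts of involutions and elements of order four to a central extension by a small 2-group, and the final step of
the construction of a section of rank five.
-/

set_option autoImplicit false
set_option maxHeartbeats 400000
set_option linter.unusedSectionVars false
set_option linter.style.haveILetI false

namespace Cfsg.Agent.LinRad

open Subgroup

variable {X : Type*} [Group X] [Finite X] {Q A B : Subgroup X} [hQn : Q.Normal] {ρ : X →* M3} {π : X → V3}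

theorem Model.conj_T (h : Model Q A B ρ π) {U T : X} (hU : ρ U = matJ) (hT : ρ T = matT) :
    U * (T * U * T⁻¹) ∈ Q ∧ T * T ∈ Q := by
  have hTT : T * T ∈ Q := (h.ker _).1 (by rw [map_mul, hT, rel.2.2.2.2.1])
  have hTi : ρ T⁻¹ = matT := by
    calc ρ T⁻¹ = ρ T⁻¹ * (matT * matT) := by rw [rel.2.2.2.2.1, mul_one]
      _ = ρ T⁻¹ * ρ T * matT := by rw [hT, mul_assoc]
      _ = matT := by rw [← map_mul, inv_mul_cancel, map_one, one_mul]
  refine ⟨(h.ker _).1 ?_, hTT⟩
  rw [map_mul, map_mul, map_mul, hU, hT, hTi, rel.2.2.2.2.2.1]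
  calc matJ * (matJ * matJ * matJ) = matJ * matJ * (matJ * matJ) := by simp only [mul_assoc]
    _ = 1 := rel.2.1

/-- In a central extension of exponent dividing eight the fourth power of a lift of an element of order four has
order at most two. -/
theorem Model.fourth_sq (h : Model Q A B ρ π) (K : Subgroup X) [K.Normal]
    (hcen : ∀ g : X, ∀ q ∈ Q, g * q * g⁻¹ * q⁻¹ ∈ K) (hexp : ∀ q ∈ Q, q ^ 8 ∈ K) {U : X} (hU : ρ U = matJ) :
    U ^ 4 * U ^ 4 ∈ K := by
  set mk := QuotientGroup.mk' K with hmk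
  have h1 : ∀ x, mk x = 1 ↔ x ∈ K := fun x => QuotientGroup.eq_one_iff x
  have hc : ∀ q ∈ Q, ∀ g : X, Commute (mk q) (mk g) := fun q hq g => by
    have e := (h1 _).2 (hcen g q hq)
    rw [map_mul, map_mul, map_mul, map_inv, map_inv, mul_inv_eq_one, mul_inv_eq_iff_eq_mul] at e
    exact e.symm
  obtain ⟨T, hT⟩ := h.surj matT dets.2.1
  obtain ⟨R, hR⟩ := h.surj matR dets.2.2.2.1
  obtain ⟨hz, hTT⟩ := h.conj_T hU hT
  have hT' : (R * T * R⁻¹)⁻¹ * (T * U) ∈ Q := by
    refine h.rho_eq ?_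
    calc ρ (R * T * R⁻¹) = matT * matJ * matR * ρ R⁻¹ := by rw [map_mul, map_mul, hR, hT, rel.2.2.2.2.2.2.1]
      _ = matT * matJ * (ρ R * ρ R⁻¹) := by rw [← hR, mul_assoc]
      _ = ρ (T * U) := by rw [← map_mul, mul_inv_cancel, map_one, mul_one, map_mul, hT, hU]
  set q := (R * T * R⁻¹)⁻¹ * (T * U) with hq
  set z := U * (T * U * T⁻¹) with hzdef
  have e1 : mk (T * U) * mk (T * U) = mk (T * T) * (mk q * mk q) := by
    have e : mk (T * U) = mk (R * T * R⁻¹) * mk q := by rw [← map_mul, hq, mul_inv_cancel_left]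
    have e' : mk (R * T * R⁻¹) * mk (R * T * R⁻¹) = mk (T * T) := by
      rw [← map_mul, show R * T * R⁻¹ * (R * T * R⁻¹) = R * (T * T) * R⁻¹ by group, map_mul, map_mul, map_inv]
      exact mul_inv_eq_iff_eq_mul.2 (hc _ hTT R).eq.symm
    rw [e, (hc q hT' _).mul_mul_mul_comm, e']
  have e2 : mk z = mk q * mk q := by
    have e : mk (T * U) * mk (T * U) = mk (T * T) * mk z := by
      calc mk (T * U) * mk (T * U) = mk U⁻¹ * mk z * mk (T * T) * mk U := by
            rw [← map_mul, ← map_mul, ← map_mul, ← map_mul]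
            exact congrArg mk (by rw [hzdef]; group)
        _ = mk (T * T) * mk z := by
            rw [mul_assoc, (hc _ hTT U).eq, ← mul_assoc, mul_assoc _ (mk z), (hc _ hz U).eq, ← mul_assoc,
              ← map_mul mk U⁻¹ U, inv_mul_cancel, map_one, one_mul, (hc _ hz _).eq]
    exact mul_left_cancel (e.symm.trans e1)
  have hU4 : U ^ 4 ∈ Q := (h.ker _).1 (by
    rw [map_pow, hU, show (4 : ℕ) = 2 + 2 from rfl, pow_add, pow_two]; exact rel.2.1)
  have e3 : (mk U) ^ 4 = ((mk U) ^ 4)⁻¹ * mk z ^ 4 := by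
    have hTUT : mk T * mk U * (mk T)⁻¹ = (mk U)⁻¹ * mk z := by
      rw [← map_inv, ← map_inv, ← map_mul, ← map_mul, ← map_mul, hzdef, inv_mul_cancel_left]
    calc (mk U) ^ 4 = mk T * (mk U) ^ 4 * (mk T)⁻¹ := by
          rw [← map_pow]; exact (mul_inv_eq_iff_eq_mul.2 (hc _ hU4 T).eq.symm).symm
      _ = (mk T * mk U * (mk T)⁻¹) ^ 4 := conj_pow.symm
      _ = _ := by rw [hTUT, (hc z hz U).symm.inv_left.mul_pow, inv_pow]
  have e4 : (mk U) ^ 4 * (mk U) ^ 4 = mk z ^ 4 := by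
    calc (mk U) ^ 4 * (mk U) ^ 4 = (mk U) ^ 4 * (((mk U) ^ 4)⁻¹ * mk z ^ 4) := by rw [← e3]
      _ = _ := mul_inv_cancel_left _ _
  apply (h1 _).1
  rw [map_mul, map_pow, e4, e2, ← pow_two, ← pow_mul, ← map_pow]
  exact (h1 _).2 (hexp q hT')

/-- Three commuting lifts of involutions with a common centre. -/
theorem Model.lift_triple (h : Model Q A B ρ π) (K : Subgroup X) [K.Normal]
    (hcen : ∀ g : X, ∀ q ∈ Q, g * q * g⁻¹ * q⁻¹ ∈ K) (hexp : ∀ q ∈ Q, q ^ 4 ∈ K)
    (hfour : ∀ g : X, ρ g = matJ → g ^ 4 ∈ K) {U V : X} (hU : ρ U = matJ) (hV : ρ V = matP * matJ * matP) :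
    V ^ 4 ∈ K ∧ ∃ c ∈ Q, (c = 1 ∨ c * c ∉ K) ∧ (U * V * U⁻¹ * c) ^ 4 ∈ K ∧
      U * U * (V * V) * ((U * V * U⁻¹ * c) * (U * V * U⁻¹ * c))⁻¹ ∈ K := by
  set mk := QuotientGroup.mk' K with hmk
  have h1 : ∀ x, mk x = 1 ↔ x ∈ K := fun x => QuotientGroup.eq_one_iff x
  have hc : ∀ q ∈ Q, ∀ g : X, Commute (mk q) (mk g) := fun q hq g => by
    have e := (h1 _).2 (hcen g q hq)
    rw [map_mul, map_mul, map_mul, map_inv, map_inv, mul_inv_eq_one, mul_inv_eq_iff_eq_mul] at e
    exact e.symm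
  obtain ⟨P, hP⟩ := h.surj matP dets.2.2.1
  have hPi : ρ P⁻¹ = matP := by
    calc ρ P⁻¹ = ρ P⁻¹ * (matP * matP) := by rw [rel.2.2.1, mul_one]
      _ = ρ P⁻¹ * ρ P * matP := by rw [hP, mul_assoc]
      _ = matP := by rw [← map_mul, inv_mul_cancel, map_one, one_mul]
  have hV4 : V ^ 4 ∈ K := by
    have h' := hfour (P * V * P⁻¹) (by
      rw [map_mul, map_mul, hP, hV, hPi]
      calc matP * (matP * matJ * matP) * matP = (matP * matP) * matJ * (matP * matP) := by simp only [mul_assoc]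
        _ = matJ := by rw [rel.2.2.1, one_mul, mul_one])
    have := ‹K.Normal›.conj_mem _ h' P⁻¹
    rwa [conj_pow, show P⁻¹ * (P * V ^ 4 * P⁻¹) * P⁻¹⁻¹ = V ^ 4 by group] at this
  refine ⟨hV4, ?_⟩
  have hTρ : ρ (V * V) = matT := by rw [map_mul, hV, rel.2.2.2.1]
  obtain ⟨R, hR⟩ := h.surj matR dets.2.2.2.1
  obtain ⟨hz, hTT⟩ := h.conj_T hU hTρ
  set T := V * V with hTdef
  have hT2 : mk T * mk T = 1 := by
    rw [← map_mul, h1, hTdef]
    rwa [show V * V * (V * V) = V ^ 4 by simp only [pow_succ, pow_zero, one_mul, mul_assoc]]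
  have hT' : (R * T * R⁻¹)⁻¹ * (T * U) ∈ Q := by
    refine h.rho_eq ?_
    calc ρ (R * T * R⁻¹) = matT * matJ * matR * ρ R⁻¹ := by rw [map_mul, map_mul, hR, hTρ, rel.2.2.2.2.2.2.1]
      _ = matT * matJ * (ρ R * ρ R⁻¹) := by rw [← hR, mul_assoc]
      _ = ρ (T * U) := by rw [← map_mul, mul_inv_cancel, map_one, mul_one, map_mul, hTρ, hU]
  set q := (R * T * R⁻¹)⁻¹ * (T * U) with hq
  set z := U * (T * U * T⁻¹) with hzdef
  have hTUT : mk T * mk U * (mk T)⁻¹ = (mk U)⁻¹ * mk z := by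
    rw [← map_inv, ← map_inv, ← map_mul, ← map_mul, ← map_mul, hzdef, inv_mul_cancel_left]
  have hTi : (mk T)⁻¹ = mk T := inv_eq_of_mul_eq_one_right hT2
  have e2 : mk z = mk q * mk q := by
    have e1 : mk (T * U) * mk (T * U) = mk q * mk q := by
      have e : mk (T * U) = mk (R * T * R⁻¹) * mk q := by rw [← map_mul, hq, mul_inv_cancel_left]
      have e' : mk (R * T * R⁻¹) * mk (R * T * R⁻¹) = 1 := by
        rw [map_mul, map_mul, map_inv]
        calc mk R * mk T * (mk R)⁻¹ * (mk R * mk T * (mk R)⁻¹) = mk R * (mk T * mk T) * (mk R)⁻¹ := by group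
          _ = 1 := by rw [hT2, mul_one, mul_inv_cancel]
      rw [e, (hc q hT' _).mul_mul_mul_comm, e', one_mul]
    rw [← e1, map_mul]
    calc mk z = mk U⁻¹ * mk z * mk U := by
          rw [mul_assoc, (hc z hz U).eq, ← mul_assoc, ← map_mul mk U⁻¹ U, inv_mul_cancel, map_one, one_mul]
      _ = mk T * mk U * (mk T)⁻¹ * mk U := by rw [hTUT, map_inv]
      _ = mk T * mk U * (mk T * mk U) := by rw [hTi]; group
  have hU4 : mk U * mk U * (mk U * mk U) = 1 := by
    have h' := (h1 _).2 (hfour U hU)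
    rw [map_pow] at h'
    rw [← h']
    simp only [pow_succ, pow_zero, one_mul, mul_assoc]
  obtain ⟨c, hcQ, hc1, hcz⟩ : ∃ c ∈ Q, (c = 1 ∨ c * c ∉ K) ∧ mk c * mk c = (mk z)⁻¹ := by
    by_cases hqq : q * q ∈ K
    · refine ⟨1, Q.one_mem, Or.inl rfl, ?_⟩
      rw [e2, ← map_mul mk q q, (h1 _).2 hqq]
      simp
    · refine ⟨q⁻¹, inv_mem hT', Or.inr fun h' => hqq ?_, by rw [map_inv, e2, mul_inv_rev]⟩
      have := inv_mem h'
      rwa [mul_inv_rev, inv_inv] at this
  refine ⟨c, hcQ, hc1, ?_, ?_⟩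
  · apply (h1 _).1
    rw [map_pow, map_mul, (hc c hcQ _).symm.mul_pow, ← map_pow, ← map_pow, (h1 _).2 (hexp c hcQ), mul_one, h1,
      conj_pow]
    exact ‹K.Normal›.conj_mem _ hV4 U
  · apply (h1 _).1
    rw [map_mul, map_inv, mul_inv_eq_one]
    have hcomm : mk T * (mk U * mk U) = mk U * mk U * mk T := by
      have e : mk T * (mk U * mk U) * (mk T)⁻¹ = mk U * mk U := by
        calc mk T * (mk U * mk U) * (mk T)⁻¹ = mk T * mk U * (mk T)⁻¹ * (mk T * mk U * (mk T)⁻¹) := by group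
          _ = (mk U)⁻¹ * (mk U)⁻¹ * (mk z * mk z) := by
              rw [hTUT, (hc z hz U).inv_right.mul_mul_mul_comm]
          _ = mk U * mk U := by
              rw [e2, show mk q * mk q * (mk q * mk q) = mk (q ^ 4) by
                  rw [map_pow]; simp only [pow_succ, pow_zero, one_mul, mul_assoc],
                (h1 _).2 (hexp q hT'), mul_one, ← mul_inv_rev]
              exact inv_eq_of_mul_eq_one_right hU4
      exact mul_inv_eq_iff_eq_mul.1 e
    have hUi : (mk U)⁻¹ * (mk U)⁻¹ = mk U * mk U := by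
      rw [← mul_inv_rev]; exact inv_eq_of_mul_eq_one_right hU4
    have eT : mk (U * U * T) = mk U * mk T * (mk U)⁻¹ * (mk z)⁻¹ := by
      have a : (mk U)⁻¹ * mk z * mk T = mk T * mk U := by rw [← hTUT]; group
      calc mk (U * U * T) = mk T * ((mk U)⁻¹ * (mk U)⁻¹) := by rw [map_mul, map_mul, hUi, hcomm]
        _ = mk U * ((mk U)⁻¹ * mk z * mk T) * ((mk U)⁻¹ * (mk U)⁻¹) * (mk z)⁻¹ := by
            rw [show mk U * ((mk U)⁻¹ * mk z * mk T) = mk z * mk T by group, mul_assoc (mk z),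
              ((hc z hz T).mul_right ((hc z hz U).inv_right.mul_right (hc z hz U).inv_right)).eq,
              mul_inv_cancel_right]
        _ = mk U * (mk T * mk U) * ((mk U)⁻¹ * (mk U)⁻¹) * (mk z)⁻¹ := by rw [a]
        _ = _ := by group
    rw [eT, ← hcz, ← map_mul mk c c, map_mul mk (U * V * U⁻¹ * c), map_mul mk (U * V * U⁻¹), map_mul mk c,
      (hc c hcQ _).mul_mul_mul_comm]
    congr 1
    simp only [hTdef, map_mul, map_inv]
    group

omit hQn in
/-- The last step of the construction of a section of rank five. -/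
theorem section_five (h4 : Cfsg.SectionalPRankLE 2 4 X) (h : Model Q A B ρ π) {N U' : Subgroup X}
    (hE : SecFour.Elem N U') (hUQ : U' ≤ Q) (hcard : 8 * Nat.card N ≤ Nat.card U') {x y : X}
    (hx : ρ x = matJ * matJ) (hy : ρ y = matT) (hxN : ∀ n ∈ N, x * n = n * x) (hyN : ∀ n ∈ N, y * n = n * y)
    (hx2 : x * x ∈ N) (hy2 : y * y ∈ N) (hxy : x * y * (x * y) ∈ N)
    (hxU : ∀ k ∈ U', SecFour.CommMod N x k) (hyU : ∀ k ∈ U', SecFour.CommMod N y k) : False := by
  have hcm : SecFour.CommMod N y x := by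
    refine SecFour.CommMod.symm ?_
    show x * y * x⁻¹ * y⁻¹ ∈ N
    have e : x * y * x⁻¹ * y⁻¹ = x * y * (x * y) * (y⁻¹ * (x * x)⁻¹ * y * (y * y)⁻¹) := by group
    rw [e, mul_assoc y⁻¹ _ y, ← hyN _ (inv_mem hx2), inv_mul_cancel_left]
    exact mul_mem hxy (mul_mem (inv_mem hx2) (inv_mem hy2))
  obtain ⟨K1, hK1, -, hUK1, hcases, hc1⟩ := hE.extend hxN hx2 hxU (fun hh => by
    have := (h.ker x).2 (hUQ hh)
    rw [hx] at this
    exact rel.1 this)
  obtain ⟨K2, hK2, -, -, -, hc2⟩ := hK1.extend hyN hy2 (fun k hk => by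
      obtain ⟨l, hl, e⟩ := hcases k hk
      rcases e with rfl | rfl
      · exact hyU k hl
      · exact hcm.mul hxN (hyU l hl)) (fun hh => by
    obtain ⟨l, hl, e⟩ := hcases y hh
    rcases e with rfl | rfl
    · have := (h.ker y).2 (hUQ hl)
      rw [hy] at this
      exact absurd this (by decide +kernel)
    · rw [map_mul, hx, (h.ker l).2 (hUQ hl), mul_one] at hy
      exact absurd hy (by decide +kernel))
  have hbd := SecFour.rank_bound h4 K2 N hK2.le
    (fun k hk n hn => by rw [hK2.cen k hk n hn, mul_inv_cancel_right]; exact hn) hK2.sq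
  have hpos : 0 < Nat.card N := Nat.card_pos
  omega

end Cfsg.Agent.LinRad
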